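import Cfsg.Agent.Lead.KW

/-! Consequences of the Kegel--Wielandt theorem. -/

set_option autoImplicit false
set_option linter.style.haveILetI false
set_option linter.unusedSectionVars false

namespace CfsgKW

open Cfsg Subgroup CfsgFT CfsgH1
open CfsgH2 (IsSylowIn cj)
open scoped commutatorElement

universe u

variable {G : Type*} [Group G] [Finite G] {π : Set ℕ} {A B H K X M : Subgroup G} {p q : ℕ}

theorem exists_normal_of_nil (h : Group.IsNilpotent (⊤ : Subgroup G)) (hB : B ≠ ⊤) :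
    ∃ N : Subgroup G, N.Normal ∧ N ≠ ⊤ ∧ B ≤ N := by
  obtain ⟨M, hM, l⟩ := (eq_top_or_exists_le_coatom B).resolve_left hB
  have := lt_inf_normalizer_of_nilpotent h hM.lt_top
  rw [top_inf_eq] at this
  exact ⟨M, normal_of_top_le (hM.2 _ this).ge, hM.1, l⟩

theorem not_dvd_of_sup [Fact p.Prime] (hA : Group.IsNilpotent A) (h : ∀ N : Subgroup G, N.Normal → N ≠ ⊥ → A ⊔ N = ⊤)
    (ne : A ≠ ⊤) [M.Normal] (h0 : M ≠ ⊥) (hc : M ≤ C(M)) (hp : IsPGroup p M)
    (hm : ∀ K : Subgroup G, K.Normal → K ≤ M → K = ⊥ ∨ K = M) : ¬ p ∣ Nat.card A := fun e => by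
  have b : Opi {p} A ≠ ⊥ := by rw [Ne, (sylow_Opi_of_nilpotent hA).eq_bot_iff, not_not]; exact e
  have t := h M inferInstance h0
  have k : M ⊓ C(Opi {p} A) ≠ ⊥ := fun k => inf_centralizer_ne_bot_of_nilpotent (K := M ⊔ Opi {p} A)
    (IsPGroup.isNilpotent (IsPGroup.to_sup_of_normal_left hp (isPGroup_Opi A))) le_sup_left le_normalizer_of_normal h0
    (le_bot_iff.1 (k ▸ inf_le_inf_left _ (cent_anti le_sup_right)))
  have k2 := (hm _ (normal_of_top_le (t.ge.trans (sup_le (le_normalizer_inf le_normalizer_of_normal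
    (le_normalizer_centralizer (le_normalizer_Opi _ _))) (le_norm_of_comm hc inf_le_left)))) inf_le_left).resolve_left k
  have := h _ (normal_of_top_le (t.ge.trans (sup_le (le_normalizer_Opi _ _)
    (le_norm_of_cent (k2.ge.trans inf_le_right))))) b
  rw [sup_eq_left.2 (Opi_le _ _)] at this
  exact ne this

theorem kegel_normal {G : Type u} [Group G] [Finite G] {A B : Subgroup G} (f : Fac A B ⊤) (hA : Group.IsNilpotent A)
    (hB : Group.IsNilpotent B) (ne : A ≠ ⊤ ∨ B ≠ ⊤) : ∃ N : Subgroup G, N.Normal ∧ N ≠ ⊤ ∧ (A ≤ N ∨ B ≤ N) := by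
  suffices k : ∀ n, ∀ (G : Type u) [Group G] [Finite G], Nat.card G = n → ∀ A B : Subgroup G, Fac A B ⊤ →
      Group.IsNilpotent A → Group.IsNilpotent B → (A ≠ ⊤ ∨ B ≠ ⊤) →
      ∃ N : Subgroup G, N.Normal ∧ N ≠ ⊤ ∧ (A ≤ N ∨ B ≤ N) from k _ G rfl A B f hA hB ne
  intro n
  induction n using Nat.strong_induction_on with | _ n ih => ?_
  intro G _ _ hn A B f hA hB ne
  subst hn
  by_cases e : ∃ M : Subgroup G, M.Normal ∧ M ≠ ⊥ ∧ (A ⊔ M ≠ ⊤ ∨ B ⊔ M ≠ ⊤)
  · obtain ⟨M, _, h0, h1⟩ := e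
    have k : ∀ A : Subgroup G, A ⊔ M ≠ ⊤ → A.map (QuotientGroup.mk' M) ≠ ⊤ := fun A a b => a (by
      have := congrArg (comap (QuotientGroup.mk' M)) b
      rwa [comap_map_eq, QuotientGroup.ker_mk', comap_top] at this)
    obtain ⟨N, _, n1, n2⟩ := ih _ (card_quotient_lt h0) _ rfl _ _ (f.map_top _ (QuotientGroup.mk'_surjective M))
      (isNilpotent_map hA _) (isNilpotent_map hB _) (h1.imp (k A) (k B))
    refine ⟨N.comap (QuotientGroup.mk' M), inferInstance, fun e => n1 ?_,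
      n2.imp map_le_iff_le_comap.1 map_le_iff_le_comap.1⟩
    rw [← map_comap_eq_self_of_surjective (QuotientGroup.mk'_surjective M) N, e,
      map_top_of_surjective _ (QuotientGroup.mk'_surjective M)]
  push Not at e
  by_cases a : A = ⊤
  · obtain ⟨N, h1, h2, h3⟩ := exists_normal_of_nil (a ▸ hA) (ne.resolve_left (not_not.2 a))
    exact ⟨N, h1, h2, Or.inr h3⟩
  by_cases b : B = ⊤
  · obtain ⟨N, h1, h2, h3⟩ := exists_normal_of_nil (b ▸ hB) a
    exact ⟨N, h1, h2, Or.inl h3⟩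
  haveI := kw f hA hB
  haveI : Nontrivial G := by
    by_contra k
    haveI := not_nontrivial_iff_subsingleton.1 k
    exact a (Subsingleton.elim _ _)
  obtain ⟨M, p, hp, _, h0, hc, hM, -, hm⟩ := exists_minNormal_of_isSolvable (G := G)
  haveI := Fact.mk hp
  exact absurd (((dvd_card_of_isPGroup hM h0).trans (card_dvd_of_le le_top)).trans (f.card_dvd le_top le_top))
    (hp.not_dvd_mul (not_dvd_of_sup hA (fun N a b => (e N a b).1) a h0 (comm_iff.1 hc) hM hm)
      (not_dvd_of_sup hB (fun N a b => (e N a b).2) b h0 (comm_iff.1 hc) hM hm))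

theorem nil_of_class_two (h : ⁅B, B⁆ ≤ C(B)) : Group.IsNilpotent B :=
  isNilpotent_of_commutator_commutator_eq_bot (comm_eq_bot h)

theorem exists_meta (f : Fac A B ⊤) (hA : A ≤ C(A)) (hB : ⁅B, B⁆ ≤ C(B)) (ne : ⁅B, B⁆ ≠ ⊥) :
    ∃ K : Subgroup G, K.Normal ∧ ⁅K, K⁆ ≤ C(⁅K, K⁆) ∧ ⁅B, B⁆ ⊓ K ≠ ⊥ := by
  haveI := kw f (nilpotent_of_comm hA) (nil_of_class_two hB)
  obtain ⟨N, ⟨hN, n0⟩, hm⟩ := (Set.toFinite {N : Subgroup G | N.Normal ∧ ⁅B, B⁆ ⊓ N = ⊥}).exists_maximal
    ⟨⊥, inferInstance, inf_bot_eq _⟩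
  haveI : Nontrivial (G ⧸ N) := QuotientGroup.nontrivial_iff.2 fun e => ne (by rwa [e, inf_top_eq] at n0)
  obtain ⟨M, p, -, _, h0, hc, -⟩ := exists_minNormal_of_isSolvable (G := G ⧸ N)
  have h1 : ⁅B, B⁆ ⊓ M.comap (QuotientGroup.mk' N) ≠ ⊥ := fun e => h0 (by
    have := hm (y := M.comap (QuotientGroup.mk' N)) ⟨inferInstance, e⟩ (QuotientGroup.le_comap_mk' N M)
    rw [← map_comap_eq_self_of_surjective (QuotientGroup.mk'_surjective N) M, map_mk'_eq_bot_iff]
    exact this)
  obtain ⟨x, hx, x1⟩ := (Subgroup.bot_or_exists_ne_one _).resolve_left h1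
  have kM : normalClosure ({x} : Set G) ≤ M.comap (QuotientGroup.mk' N) :=
    normalClosure_le_normal (Set.singleton_subset_iff.2 hx.2)
  have xK : x ∈ normalClosure ({x} : Set G) := subset_normalClosure rfl
  have cM : ∀ a ∈ normalClosure ({x} : Set G), ∀ b ∈ normalClosure ({x} : Set G),
      Commute (QuotientGroup.mk' N a) (QuotientGroup.mk' N b) := fun a ha b hb =>
    mem_cent.1 (comm_iff.1 hc (kM hb)) _ (kM ha)
  have cA : ∀ a ∈ A, ∀ b ∈ A, Commute a b := fun a ha b hb => mem_cent.1 (hA hb) a ha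
  have key : ∀ a ∈ A, ∀ k ∈ normalClosure ({x} : Set G), a * k ∈ B → ∀ y ∈ normalClosure ({x} : Set G),
      Commute (QuotientGroup.mk' N a) (QuotientGroup.mk' N y) := fun a ha k hk hb => by
    have c0 : Commute (a * k) x := mem_cent.1 (hB hx.1) _ hb
    have c1 : Commute (QuotientGroup.mk' N a) (QuotientGroup.mk' N x) := by
      have := (c0.map (QuotientGroup.mk' N)).mul_left (cM k hk x xK).inv_left
      rwa [map_mul, mul_inv_cancel_right] at this
    have : normalClosure ({x} : Set G) ≤ (C1(QuotientGroup.mk' N a)).comap (QuotientGroup.mk' N) := by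
      rw [normalClosure, closure_le]
      intro y hy
      obtain ⟨z, hz, c, rfl⟩ := Group.mem_conjugatesOfSet_iff.1 hy |>.imp fun b h => h.imp_right isConj_iff.1
      obtain rfl : z = x := hz
      obtain ⟨a', ha', b', hb', rfl⟩ := f c trivial
      have e : a' * b' * z * (a' * b')⁻¹ = a' * z * a'⁻¹ := by
        rw [mul_assoc a', mem_cent.1 (hB hx.1) _ hb']; group
      have c2 := (cA a ha a' ha').map (QuotientGroup.mk' N)
      refine mem_cent1.2 ?_
      rw [e, map_mul, map_mul, map_inv]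
      exact (c2.mul_right c1).mul_right c2.inv_right
    exact fun y hy => mem_cent1.1 (this hy)
  refine ⟨_, inferInstance, ?_, fun e => x1 (mem_bot.1 (e ▸ mem_inf.2 ⟨hx.1, xK⟩))⟩
  have := ito (f.inf_right (H := A ⊔ normalClosure ({x} : Set G)) le_sup_left le_top) le_sup_left inf_le_right hA (by
    intro b hb
    refine mem_cent.2 fun c hc => ?_
    obtain ⟨a1, h1, k1, h2, rfl⟩ := (mem_sup_of_le_normalizer' le_normalizer_of_normal).1 hb.2
    obtain ⟨a2, h3, k2, h4, rfl⟩ := (mem_sup_of_le_normalizer' le_normalizer_of_normal).1 hc.2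
    have c : Commute (QuotientGroup.mk' N (a2 * k2)) (QuotientGroup.mk' N (a1 * k1)) := by
      rw [map_mul, map_mul]
      exact (((cA _ h3 _ h1).map _).mul_right (key _ h3 _ h4 hc.1 _ h2)).mul_left
        ((key _ h1 _ h2 hb.1 _ h4).symm.mul_right (cM _ h4 _ h2))
    refine commutatorElement_eq_one_iff_mul_comm.1 (mem_bot.1 (n0 ▸ mem_inf.2 ⟨commutator_mem_commutator hc.1 hb.1, ?_⟩))
    rw [← QuotientGroup.ker_mk' N, MonoidHom.mem_ker, map_commutatorElement]
    exact commutatorElement_eq_one_iff_commute.2 c)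
  exact cent_mono this (commutator_mono le_sup_right le_sup_right) (commutator_mono le_sup_right le_sup_right)

theorem der_bound (n : ℕ) : ∀ (G : Type u) [Group G] [Finite G] (A B : Subgroup G), Fac A B ⊤ → A ≤ C(A) →
    ⁅B, B⁆ ≤ C(B) → (Nat.card ↥⁅B, B⁆).primeFactorsList.length ≤ n → derivedSeries G (2 * (1 + n)) = ⊥ := by
  have k0 : ∀ (G : Type u) [Group G] [Finite G] (A B : Subgroup G), Fac A B ⊤ → A ≤ C(A) → ⁅B, B⁆ = ⊥ →
      ∀ n, derivedSeries G (2 * (1 + n)) = ⊥ := fun G _ _ A B f hA hB n =>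
    le_bot_iff.1 ((derivedSeries_antitone G (show 2 ≤ 2 * (1 + n) by omega)).trans
      (comm_eq_bot (ito f le_top le_top hA (cent_of_comm_eq_bot hB))).le)
  induction n with
  | zero =>
    intro G _ _ A B f hA hB h
    refine k0 G A B f hA (card_eq_one.1 ?_) 0
    rcases (Nat.primeFactorsList_eq_nil _).1 (List.length_eq_zero_iff.1 (Nat.le_zero.1 h)) with e | e
    · exact absurd e Nat.card_pos.ne'
    · exact e
  | succ n ih =>
    intro G _ _ A B f hA hB h
    by_cases e : ⁅B, B⁆ = ⊥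
    · exact k0 G A B f hA e _
    obtain ⟨K, _, h1, h2⟩ := exists_meta f hA hB e
    have h3 := ih (G ⧸ K) _ _ (f.map_top _ (QuotientGroup.mk'_surjective K)) (map_le_cent _ hA)
      (by rw [← Subgroup.map_commutator]; exact map_le_cent _ hB) (by
        have c := card_map_mul_card_inf_ker (QuotientGroup.mk' K) ⁅B, B⁆
        rw [QuotientGroup.ker_mk'] at c
        rw [← c, (Nat.perm_primeFactorsList_mul Nat.card_pos.ne' Nat.card_pos.ne').length_eq, List.length_append] at h
        have : (Nat.card ↥(⁅B, B⁆ ⊓ K)).primeFactorsList.length ≠ 0 := fun k => by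
          rcases (Nat.primeFactorsList_eq_nil _).1 (List.length_eq_zero_iff.1 k) with e | e
          · exact absurd e Nat.card_pos.ne'
          · exact h2 (card_eq_one.1 e)
        rw [← Subgroup.map_commutator]
        omega)
    rw [← map_derivedSeries_eq (QuotientGroup.mk'_surjective K), map_mk'_eq_bot_iff] at h3
    rw [show 2 * (1 + (n + 1)) = 2 * (1 + n) + 1 + 1 by ring, derivedSeries_succ, derivedSeries_succ]
    exact comm_eq_bot (cent_mono h1 (commutator_mono h3 h3) (commutator_mono h3 h3))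

theorem compl_of_hall [Fact p.Prime] (P : Sylow p G) (h : Hall {p}ᶜ H ⊤) : IsComplement' (P : Subgroup G) H := by
  have h1 := (IsSylowIn.of_sylow_top P).hall
  have := h1.card_mul h
  rw [card_top] at this
  exact isComplement'_of_coprime this (h1.isPi.coprime h.isPi)

theorem hall_of_compl [Fact p.Prime] (P : Sylow p G) (h : IsComplement' (P : Subgroup G) H) : Hall {p}ᶜ H ⊤ :=
  ⟨le_top, isPi_compl_singleton_iff.2 (h.symm.index_eq_card ▸ P.not_dvd_index), by
    rw [relIndex_top_right, h.index_eq_card, compl_compl]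
    exact (IsSylowIn.of_sylow_top P).hall.isPi⟩

end CfsgKW
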