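import Cfsg.Agent.FS.Res3
import Cfsg.Agent.FS.Misc
import Cfsg.Agent.H5.U3b
import Cfsg.Agent.H9.HH3
import Cfsg.Agent.H2.Wr
import Cfsg.Agent.H2.FrobEx
import Cfsg.Agent.H2.Isolated
import Cfsg.Agent.FT.S12d

/-! `2`-groups of rank two with fused involutions. -/

set_option autoImplicit false
set_option linter.unusedSectionVars false

namespace CfsgFS

open Subgroup Cfsg Cfsg.FusionSystem CfsgH9
open CfsgH2 (HC WR centMod)
open scoped commutatorElement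

local notation "C1(" x ")" => Subgroup.centralizer (Singleton.singleton x : Set _)

universe u

section
variable {G : Type*} [Group G]

/-- Relations of the Sylow `2`-subgroup of `U₃(4)`. -/
structure R64 (x x' y y' : G) : Prop where
  zz : x * x * (x * x) = 1
  ww : x' * x' * (x' * x') = 1
  cz : ∀ g ∈ ({x, x', y, y'} : Set G), Commute (x * x) g ∧ Commute (x' * x') g
  y2 : y * y = x * x
  y2' : y' * y' = x' * x'
  c1 : ⁅x, x'⁆ = 1
  c2 : ⁅y, y'⁆ = 1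
  c3 : ⁅x, y⁆ = x' * x'
  c4 : ⁅x', y'⁆ = x * x * (x' * x')
  c5 : ⁅x, y'⁆ = x * x
  c6 : ⁅x', y⁆ = x * x

theorem R64.prod {G' : Type*} [Group G'] {x x' y y' : G} {u u' v v' : G'} (h : R64 x x' y y') (k : R64 u u' v v') :
    R64 (x, u) (x', u') (y, v) (y', v') := by
  refine ⟨Prod.ext h.zz k.zz, Prod.ext h.ww k.ww, fun g hg => ?_, Prod.ext h.y2 k.y2, Prod.ext h.y2' k.y2',
    Prod.ext h.c1 k.c1, Prod.ext h.c2 k.c2, Prod.ext h.c3 k.c3, Prod.ext h.c4 k.c4, Prod.ext h.c5 k.c5, Prod.ext h.c6 k.c6⟩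
  have a : g.1 ∈ ({x, x', y, y'} : Set G) := by rcases hg with rfl | rfl | rfl | rfl <;> simp
  have b : g.2 ∈ ({u, u', v, v'} : Set G') := by rcases hg with rfl | rfl | rfl | rfl <;> simp
  exact ⟨Prod.ext (h.cz _ a).1 (k.cz _ b).1, Prod.ext (h.cz _ a).2 (k.cz _ b).2⟩

variable [Finite G]

theorem card_zp_le {z : G} (h : z * z = 1) : Nat.card (zpowers z) ≤ 2 := by
  rw [Nat.card_zpowers]; exact orderOf_le_of_pow_eq_one two_pos (by rw [pow_two, h])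

theorem R64.card_le {x x' y y' : G} (h : R64 x x' y y') : Nat.card (closure {x, x', y, y'}) ≤ 64 := by
  obtain ⟨H, hH⟩ : ∃ H, H = closure ({x, x', y, y'} : Set G) := ⟨_, rfl⟩
  obtain ⟨Z, hZ⟩ : ∃ Z, Z = zpowers (x * x) ⊔ zpowers (x' * x') := ⟨_, rfl⟩
  have m : ∀ g ∈ ({x, x', y, y'} : Set G), g ∈ H := fun g hg => hH ▸ subset_closure hg
  have z1 : x * x ∈ Z := hZ ▸ mem_sup_left (mem_zpowers _)
  have z2 : x' * x' ∈ Z := hZ ▸ mem_sup_right (mem_zpowers _)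
  have hc : H ≤ CC(Z) := hH ▸ (closure_le _).2 fun g hg => hZ ▸ cent_sup (cent_zpowers_iff.2 (h.cz g hg).1.symm)
    (cent_zpowers_iff.2 (h.cz g hg).2.symm)
  have hn : H ≤ NN(Z) := hc.trans (centralizer_le_normalizer _)
  have sy : ∀ {a b : G}, ⁅a, b⁆ ∈ Z → ⁅b, a⁆ ∈ Z := fun {a b} k => commutatorElement_inv a b ▸ minv k
  have e1 := h.c1 ▸ one_mem Z
  have e2 := h.c2 ▸ one_mem Z
  have e3 := h.c3 ▸ z2
  have e4 := h.c4 ▸ mmul z1 z2
  have e5 := h.c5 ▸ z1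
  have e6 := h.c6 ▸ z1
  have e0 : ∀ a : G, ⁅a, a⁆ ∈ Z := fun a => by simp
  have cm : ∀ a ∈ ({x, x', y, y'} : Set G), ∀ b ∈ ({x, x', y, y'} : Set G), ⁅a, b⁆ ∈ Z := by
    rintro _ (rfl | rfl | rfl | rfl) _ (rfl | rfl | rfl | rfl)
    exacts [e0 _, e1, e3, e5, sy e1, e0 _, e6, e4, sy e3, sy e6, e0 _, e2, sy e5, sy e4, sy e2, e0 _]
  have c1 : H ≤ centMod Z {x, x', y, y'} := hH ▸ (closure_le _).2 fun g hg => ⟨hn (m g hg), cm g hg⟩
  have c2 : ∀ a ∈ H, ∀ b ∈ H, ⁅a, b⁆ ∈ Z := fun a ha b hb =>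
    sy (((hH ▸ (closure_le _).2 fun g hg => ⟨hn (m g hg), by rintro _ rfl; exact sy ((c1 ha).2 g hg)⟩ :
      H ≤ centMod Z {a}) hb).2 a rfl)
  have st : ∀ M, Z ≤ M → M ≤ H → ∀ g ∈ ({x, x', y, y'} : Set G), Nat.card ↥(M ⊔ zpowers g) ≤ Nat.card M * 2 ∧
      Z ≤ M ⊔ zpowers g ∧ M ⊔ zpowers g ≤ H := fun M a b g hg => by
    refine ⟨CfsgH2.card_sup_zpowers_le (mem_normalizer_of_finite fun w hw => ?_) (a ?_), a.trans le_sup_left,
      sup_le b (zpowers_le.2 (m g hg))⟩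
    · simpa [commutatorElement_def] using mmul (a (c2 g (m g hg) w (b hw))) hw
    · rw [pow_two]
      rcases hg with rfl | rfl | rfl | rfl
      exacts [z1, z2, h.y2 ▸ z1, h.y2' ▸ z2]
  have ZH : Z ≤ H := hZ ▸ sup_le (zpowers_le.2 (mmul (m _ (by simp)) (m _ (by simp))))
    (zpowers_le.2 (mmul (m _ (by simp)) (m _ (by simp))))
  have cZ : Nat.card Z ≤ 2 * 2 := hZ ▸ (CfsgH2.card_sup_zpowers_le (p := 2) (centralizer_le_normalizer _ (cent_zpowers_iff.2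
    (((h.cz x (by simp)).2).mul_right (h.cz x (by simp)).2))) (by rw [pow_two, h.ww]; exact one_mem _)).trans
    (Nat.mul_le_mul_right _ (card_zp_le h.zz))
  obtain ⟨a1, a2, a3⟩ := st Z le_rfl ZH x (by simp)
  obtain ⟨b1, b2, b3⟩ := st _ a2 a3 x' (by simp)
  obtain ⟨d1, d2, d3⟩ := st _ b2 b3 y (by simp)
  obtain ⟨f1, -, -⟩ := st _ d2 d3 y' (by simp)
  have := card_le_of_le (show closure {x, x', y, y'} ≤ Z ⊔ zpowers x ⊔ zpowers x' ⊔ zpowers y ⊔ zpowers y' from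
    (closure_le _).2 (by
      rintro _ (rfl | rfl | rfl | rfl)
      exacts [mem_sup_left (mem_sup_left (mem_sup_left (mem_sup_right (mem_zpowers _)))),
        mem_sup_left (mem_sup_left (mem_sup_right (mem_zpowers _))), mem_sup_left (mem_sup_right (mem_zpowers _)),
        mem_sup_right (mem_zpowers _)]))
  omega

theorem equiv_of_map {X : Type*} [Group X] [Finite X] {H : Subgroup X} {P : Subgroup G} (f : X →* G) (h : H.map f = P)
    (c : Nat.card H ≤ Nat.card P) : Nonempty (P ≃* H) := by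
  have e := CfsgH1.card_map_mul_card_inf_ker f H
  rw [h] at e
  have e1 : H ⊓ f.ker = ⊥ := card_le_one_iff_eq_bot _ |>.1 (Nat.le_of_mul_le_mul_left (by rw [e, mul_one]; exact c) Nat.card_pos)
  exact equiv_of_hom (f.comp H.subtype) (fun x hx => Subtype.ext (mem_bot.1 (e1.le ⟨x.2, hx⟩))) (fun x => h ▸ mem_map_of_mem f x.2)
    (by rw [← e, e1]; simp)

/-- `P` is a copy of the Sylow `2`-subgroup of `U₃(4)`. -/
def U64 (P : Subgroup G) : Prop := Nat.card P = 64 ∧ ∃ x x' y y', R64 x x' y y' ∧ Subgroup.closure {x, x', y, y'} = P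

theorem U64.equiv {G' : Type*} [Group G'] [Finite G'] {P : Subgroup G} {P' : Subgroup G'} (h : U64 P) (h' : U64 P') :
    Nonempty (P ≃* P') := by
  obtain ⟨c, x, x', y, y', r, e⟩ := h
  obtain ⟨c', u, u', v, v', r', e'⟩ := h'
  have l := (r.prod r').card_le
  obtain ⟨a⟩ := equiv_of_map (MonoidHom.fst G G') (P := P) (by rw [MonoidHom.map_closure, ← e]; simp [Set.image_insert_eq])
    (c ▸ l)
  obtain ⟨b⟩ := equiv_of_map (MonoidHom.snd G G') (P := P') (by rw [MonoidHom.map_closure, ← e']; simp [Set.image_insert_eq])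
    (c' ▸ l)
  exact ⟨a.trans b.symm⟩

theorem hg_step {P Z A : Subgroup G} {k g : G} (hS : ∀ x ∈ P, ∀ y ∈ P, ⁅x, y⁆ ∈ Z) (sq : ∀ x ∈ P, x * x ∈ Z)
    (nP : k ∈ NN(P)) (fp : P ⊓ C1(k) = ⊥) (cc : ∀ g ∈ P, (g * (k * g * k⁻¹))⁻¹ * (k * (k * g * k⁻¹) * k⁻¹) ∈ Z)
    (h1 : Z ≤ A) (h2 : A ≤ P) (h3 : k ∈ NN(A)) (hg : g ∈ P) (hA : g ∉ A) :
    Nat.card ↥(A ⊔ zpowers g ⊔ zpowers (k * g * k⁻¹)) = Nat.card A * 4 ∧ k ∈ NN(A ⊔ zpowers g ⊔ zpowers (k * g * k⁻¹)) := by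
  have g' := conj_mem_of_mem_normalizer nP hg
  have nm : ∀ M, Z ≤ M → M ≤ P → P ≤ NN(M) := fun M a b u hu => mem_normalizer_of_finite fun w hw => by
    simpa [commutatorElement_def] using mmul (a (hS u hu w (b hw))) hw
  have l1 : A ⊔ zpowers g ≤ P := sup_le h2 (zpowers_le.2 hg)
  have n1 : k * g * k⁻¹ ∉ A ⊔ zpowers g := fun e => by
    obtain ⟨a, a1, _, ⟨i, rfl⟩, e⟩ := (mem_sup_of_le_normalizer' (zpowers_le.2 (nm A h1 h2 hg))).1 (sup_comm A _ ▸ e)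
    have s : ∀ j : ℤ, g ^ (2 * j) ∈ A := fun j => by rw [zpow_mul, zpow_two]; exact zpow_mem (h1 (sq g hg)) j
    obtain ⟨j, rfl | rfl⟩ := Int.even_or_odd' i
    · have := conj_mem_of_mem_normalizer (minv h3) (e ▸ mmul a1 (s j) : k * g * k⁻¹ ∈ A)
      exact hA (by simpa [mul_assoc] using this)
    · refine hA (CfsgSuz.fpf_section h2 h3 fp hg ?_)
      have := conj_mem_of_mem_normalizer (minv (nm A h1 h2 hg)) (mmul a1 (s j))
      rw [e]
      convert this using 1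
      simp only [zpow_add, zpow_one]
      group
  constructor
  · rw [CfsgH2.card_sup_zpowers (p := 2) (nm _ (h1.trans le_sup_left) l1 g') n1 (pow_two (k * g * k⁻¹) ▸ mem_sup_left
      (h1 (sq _ g'))), CfsgH2.card_sup_zpowers (p := 2) (nm _ h1 h2 hg) hA (pow_two g ▸ h1 (sq _ hg)), mul_assoc (Nat.card A)]
    rfl
  · refine mem_normalizer_of_finite (CfsgH2.cj_le_iff.1 ?_)
    rw [CfsgH2.cj_sup, CfsgH2.cj_sup, CfsgH2.cj_zpowers, CfsgH2.cj_zpowers]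
    refine sup_le (sup_le (CfsgH2.cj_le_iff.2 fun x hx => mem_sup_left (mem_sup_left (conj_mem_of_mem_normalizer h3 hx)))
      le_sup_right) (zpowers_le.2 ?_)
    simpa only [mul_inv_cancel_left] using mmul (mmul (mem_sup_left (mem_sup_right (mem_zpowers g))) (mem_sup_right (mem_zpowers _)))
      (mem_sup_left (mem_sup_left (h1 (cc g hg))) : _ ∈ A ⊔ zpowers g ⊔ zpowers (k * g * k⁻¹))

theorem hg_u64 {F : Type*} [Field F] [Finite F] [CharP F 2] {K P Z : Subgroup G} {e ζ : G → F}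
    (h : CfsgSuz.HG K P Z e ζ) (h4 : Nat.card F = 4) (hna : ¬ P ≤ CC(P)) : U64 P := by
  have cK : Nat.card K = 3 := by have := h.card; omega
  have cZ := h.card_Z.trans h4
  obtain ⟨k, k1, k2⟩ := K.bot_or_exists_ne_one.resolve_left fun e => by simp [e] at cK
  haveI : Fact (Nat.Prime 3) := ⟨Nat.prime_three⟩
  have eK := eq_zpowers_of_card cK k1 k2
  have k3 : k ^ 3 = 1 := by rw [← cK, ← eK, Nat.card_zpowers, pow_orderOf_eq_one]
  have hS := CfsgSuz.HG.Sq_le_Z P h hna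
  have sq : ∀ x ∈ P, x * x ∈ Z := fun x hx => hS (CfsgSuz.sq_mem_Sq hx)
  have cm : ∀ x ∈ P, ∀ y ∈ P, ⁅x, y⁆ ∈ Z := fun x hx y hy => hS (CfsgSuz.dl_mem_Sq hx hy)
  have nP := h.nP k1
  have fp := h.fpf k k1 k2
  have L := h.crd.toLin
  have kP : ∀ x ∈ P, k * x * k⁻¹ ∈ P := fun x hx => conj_mem_of_mem_normalizer nP hx
  have zc : ∀ z ∈ Z, ∀ x ∈ P, Commute x z := fun z hz x hx => h.comm hz hx
  have cc : ∀ g ∈ P, (g * (k * g * k⁻¹))⁻¹ * (k * (k * g * k⁻¹) * k⁻¹) ∈ Z := fun g hg => by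
    have g1 := kP g hg
    have g2 := kP _ g1
    have := CfsgSuz.fpf_section h.ZP (h.crd.nA k1) fp (mmul (mmul hg g1) g2) (by
      have e3 : k * (k * (k * g * k⁻¹) * k⁻¹) * k⁻¹ = g := by
        calc _ = k ^ 3 * g * (k ^ 3)⁻¹ := by simp only [pow_succ, pow_zero, one_mul]; group
          _ = g := by simp [k3]
      have := cm _ (minv (mmul (mmul hg g1) g2)) _ (minv hg)
      convert this using 1
      calc _ = (g * (k * g * k⁻¹) * (k * (k * g * k⁻¹) * k⁻¹))⁻¹ * ((k * g * k⁻¹) * (k * (k * g * k⁻¹) * k⁻¹) *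
            (k * (k * (k * g * k⁻¹) * k⁻¹) * k⁻¹)) := by group
        _ = _ := by rw [e3, commutatorElement_def]; group)
    simpa [mul_assoc] using mmul (minv (sq _ (mmul hg g1))) this
  obtain ⟨ω, hω⟩ : ∃ ω, ω = ζ k := ⟨_, rfl⟩
  have t2 : (2 : F) = 0 := CharTwo.two_eq_zero
  have w3 : ω ^ 3 = 1 := by rw [hω, ← h.crd.χ_pow k1, k3, h.crd.χ_one]
  have w1 : ω ≠ 1 := fun e => k2 (h.crd.inj_of_fpf (le_norm inferInstance)
    (fun k a b => le_bot_iff.1 ((inf_le_inf_right _ h.ZP).trans (h.fpf k a b).le)) k k1 (hω ▸ e))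
  have w2 : ω ^ 2 + ω + 1 = 0 := (mul_eq_zero.1 (show (ω - 1) * (ω ^ 2 + ω + 1) = 0 by linear_combination w3)).resolve_left
    (sub_ne_zero.2 w1)
  have tri : ∀ a b : F, a ≠ 0 → b ≠ 0 → b = a ∨ b = ω * a ∨ b = ω ^ 2 * a := fun a b ha hb => by
    obtain ⟨l, l1, l2⟩ := h.gen (b / a) (div_ne_zero hb ha)
    obtain ⟨i, rfl⟩ := (mem_powers_iff_mem_zpowers.2 (eK.ge l1) :)
    simp only at l2
    rw [h.crd.χ_pow k1, ← hω, pow_eq_pow_mod i w3, eq_div_iff ha] at l2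
    have : i % 3 < 3 := Nat.mod_lt _ (by norm_num)
    interval_cases i % 3 <;> simp [← l2]
  have inj : ∀ a ∈ Z, ∀ b ∈ Z, e a = e b → a = b := fun a ha b hb c => inv_mul_eq_one.1 (mem_bot.1 ((L.eq_iff ha hb).1 c))
  have ek : ∀ z ∈ Z, e (k * z * k⁻¹) = ω * e z := fun z hz => hω ▸ h.crd.conj k k1 z hz
  have Qk : ∀ x ∈ P, e (k * x * k⁻¹ * (k * x * k⁻¹)) = ω * e (x * x) := fun x hx => by
    rw [← ek _ (sq x hx)]; congr 1; group
  have Bk : ∀ x ∈ P, ∀ y ∈ P, e ⁅k * x * k⁻¹, k * y * k⁻¹⁆ = ω * e ⁅x, y⁆ := fun x hx y hy => by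
    rw [← ek _ (cm x hx y hy), conjugate_commutatorElement]
  have Bl : ∀ x ∈ P, ∀ x' ∈ P, ∀ y ∈ P, e ⁅x * x', y⁆ = e ⁅x, y⁆ + e ⁅x', y⁆ := fun x hx x' hx' y hy => by
    rw [add_comm, ← L.add _ (cm x' hx' y hy) _ (cm x hx y hy)]
    congr 1
    calc _ = x * ⁅x', y⁆ * x⁻¹ * ⁅x, y⁆ := by simp only [commutatorElement_def]; group
      _ = _ := by rw [(zc _ (cm x' hx' y hy) x hx).eq]; group
  have Bs : ∀ x ∈ P, ∀ y ∈ P, e ⁅y, x⁆ = e ⁅x, y⁆ := fun x hx y hy => by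
    rw [← commutatorElement_inv, L.inv (cm x hx y hy), CharTwo.neg_eq]
  have Br : ∀ x ∈ P, ∀ y ∈ P, ∀ y' ∈ P, e ⁅x, y * y'⁆ = e ⁅x, y⁆ + e ⁅x, y'⁆ := fun x hx y hy y' hy' => by
    rw [Bs _ (mmul hy hy') _ hx, Bl y hy y' hy' x hx, Bs _ hx _ hy, Bs _ hx _ hy']
  have Bz : ∀ x ∈ P, ∀ z ∈ Z, e ⁅x, z⁆ = 0 := fun x hx z hz => by
    rw [commutatorElement_eq_one_iff_commute.2 (zc z hz x hx), L.one]
  have Qm : ∀ x ∈ P, ∀ y ∈ P, e (x * y * (x * y)) = e (x * x) + e (y * y) + e ⁅x, y⁆ := fun x hx y hy => by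
    rw [← Bs x hx y hy, add_right_comm, ← L.add _ (sq x hx) _ (cm y hy x hx), ← L.add _ (mmul (sq x hx) (cm y hy x hx)) _ (sq y hy)]
    congr 1
    calc _ = x * (⁅y, x⁆ * x) * y * y := by simp only [commutatorElement_def]; group
      _ = _ := by rw [← (zc _ (cm y hy x hx) x hx).eq]; group
  have Q0 : ∀ x ∈ P, e (x * x) = 0 → x ∈ Z := fun x hx c => (h.mem x).2 ⟨hx, mem_bot.1 ((L.ker _ (sq x hx)).1 c)⟩
  have Qz : ∀ z ∈ Z, e (z * z) = 0 := fun z hz => by rw [((h.mem z).1 hz).2, L.one]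
  have cc' : ∀ g ∈ P, ∃ u ∈ Z, k * (k * g * k⁻¹) * k⁻¹ = g * (k * g * k⁻¹) * u := fun g hg => ⟨_, cc g hg, by group⟩
  have B0 : ∀ x ∈ P, e ⁅x, k * x * k⁻¹⁆ = 0 := fun x hx => by
    obtain ⟨u, u1, u2⟩ := cc' x hx
    have := Qk _ (kP x hx)
    rw [u2, Qm _ (mmul hx (kP x hx)) _ (h.ZP u1), Qm _ hx _ (kP x hx), Qz u u1, Bz _ (mmul hx (kP x hx)) u u1, Qk x hx] at this
    linear_combination this + e (x * x) * w2 - (e (x * x) + ω * e (x * x)) * t2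
  have Bd : ∀ x ∈ P, ∀ y ∈ P, e ⁅x, k * y * k⁻¹⁆ = ω ^ 2 * e ⁅x, y⁆ ∧ e ⁅k * x * k⁻¹, y⁆ = ω ^ 2 * e ⁅x, y⁆ :=
    fun x hx y hy => by
    obtain ⟨u, u1, u2⟩ := cc' x hx
    obtain ⟨v, v1, v2⟩ := cc' y hy
    have x' := kP x hx
    have y' := kP y hy
    have a := Bk _ hx _ y'
    have b := Bk _ x' _ hy
    rw [v2, Br _ x' _ (mmul hy y') _ (h.ZP v1), Bz _ x' v v1, Br _ x' _ hy _ y', Bk x hx y hy] at a
    rw [u2, Bl _ (mmul hx x') _ (h.ZP u1) _ y', Bs _ y' _ (h.ZP u1), Bz _ y' u u1, Bl _ hx _ x' _ y', Bk x hx y hy] at b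
    generalize e ⁅x, k * y * k⁻¹⁆ = p, e ⁅k * x * k⁻¹, y⁆ = q, e ⁅x, y⁆ = c at a b ⊢
    have hp : p = ω ^ 2 * c := by
      linear_combination (-ω ^ 2) * (b + ω * a) + (p + c) * w2 - (ω * p - c - ω * c) * w3 - (ω * p + ω ^ 2 * c) * t2
    refine ⟨hp, ?_⟩
    linear_combination a + ω * hp + c * w3 - c * w2 + c * t2
  obtain ⟨x, x1, x2⟩ : ∃ x ∈ P, x ∉ Z := by by_contra! q; exact hna (le_centralizer_iff.1 ((show P ≤ Z from q).trans h.cZ))
  have x' := kP x x1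
  obtain ⟨c1, n1⟩ := hg_step cm sq nP fp cc le_rfl h.ZP (h.crd.nA k1) x1 x2
  obtain ⟨M, hM⟩ : ∃ M, M = Z ⊔ zpowers x ⊔ zpowers (k * x * k⁻¹) := ⟨_, rfl⟩
  rw [← hM] at c1 n1
  have ZM : Z ≤ M := hM ▸ le_sup_left.trans le_sup_left
  have MP : M ≤ P := hM ▸ sup_le (sup_le h.ZP (zpowers_le.2 x1)) (zpowers_le.2 x')
  have xM : x ∈ M := hM ▸ mem_sup_left (mem_sup_right (mem_zpowers _))
  have xM' := conj_mem_of_mem_normalizer n1 xM
  have cx : ⁅x, k * x * k⁻¹⁆ = 1 := inj _ (cm _ x1 _ x') _ (one_mem _) ((B0 x x1).trans L.one.symm)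
  have kM : ∀ y, y ∉ M → k * y * k⁻¹ ∉ M := fun y a b => a (by simpa [mul_assoc] using conj_mem_of_mem_normalizer (minv n1) b)
  have q0 : e (x * x) ≠ 0 := fun c => x2 (Q0 x x1 c)
  obtain ⟨y, y1, y2, y3⟩ : ∃ y ∈ P, y ∉ M ∧ e (y * y) = e (x * x) := by
    obtain ⟨y, y1, y2⟩ : ∃ y ∈ P, y ∉ M := by
      by_contra! q
      have c := commutatorElement_eq_one_iff_commute.1 cx
      have : ∀ g ∈ P, Commute g x → Commute g (k * x * k⁻¹) → g ∈ CC(M) := fun g a b c =>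
        hM ▸ cent_sup (cent_sup (le_centralizer_iff.1 h.cZ a) (cent_zpowers_iff.2 b)) (cent_zpowers_iff.2 c)
      refine hna ((show P ≤ M from q).trans (le_trans ?_ (centralizer_le q)))
      nth_rewrite 1 [hM]
      exact sup_le (sup_le (h.cZ.trans (centralizer_le MP)) (zpowers_le.2 (this x x1 rfl c)))
        (zpowers_le.2 (this _ x' c.symm rfl))
    rcases tri _ _ (fun c => y2 (ZM (Q0 y y1 c))) q0 with c | c | c
    · exact ⟨y, y1, y2, c.symm⟩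
    · exact ⟨_, kP y y1, kM y y2, (Qk y y1).trans c.symm⟩
    · exact ⟨_, kP _ (kP y y1), kM _ (kM y y2), by rw [Qk _ (kP y y1), Qk y y1, c]; ring⟩
  obtain ⟨y, y1, y2, y3, y4⟩ : ∃ y ∈ P, y ∉ M ∧ e (y * y) = e (x * x) ∧ e ⁅x, y⁆ = ω * e (x * x) := by
    have y' := kP y y1
    rcases tri _ (e ⁅x, y⁆) q0 (fun c => y2 (by
      simpa using mmul (minv xM) (ZM (Q0 _ (mmul x1 y1) (by rw [Qm _ x1 _ y1, y3, c]; linear_combination e (x * x) * t2)))))
      with c | c | c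
    · refine (kM y y2 ?_).elim
      simpa using mmul (minv xM) (ZM (Q0 _ (mmul x1 y') (by
        rw [Qm _ x1 _ y', Qk y y1, y3, (Bd x x1 y y1).1, c]; linear_combination e (x * x) * w2)))
    · exact ⟨y, y1, y2, y3, c⟩
    · refine ⟨_, mmul x' y', fun k => kM y y2 (by simpa only [inv_mul_cancel_left] using mmul (minv xM') k), ?_, ?_⟩
      · rw [Qm _ x' _ y', Qk y y1, Qk x x1, Bk x x1 y y1, y3, c]
        linear_combination e (x * x) * w3 + ω * e (x * x) * t2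
      · rw [Br _ x1 _ x' _ y', B0 x x1, (Bd x x1 y y1).1, c]
        linear_combination ω * e (x * x) * w3
  have y' := kP y y1
  obtain ⟨c2, -⟩ := hg_step cm sq nP fp cc ZM MP n1 y1 y2
  have cP : Nat.card P ≤ 64 := Nat.le_of_dvd (by norm_num) (h4 ▸ h.bound hS :)
  have eP := eq_of_le_of_card_ge (sup_le (sup_le MP (zpowers_le.2 y1)) (zpowers_le.2 y')) (by omega)
  have lH : closure {x, k * x * k⁻¹, y, k * y * k⁻¹} ≤ P := (closure_le _).2 (by rintro _ (rfl | rfl | rfl | rfl) <;> assumption)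
  refine ⟨by rw [← eP]; omega, x, k * x * k⁻¹, y, k * y * k⁻¹, ⟨((h.mem _).1 (sq x x1)).2, ((h.mem _).1 (sq _ x')).2,
    fun g hg => ⟨(zc _ (sq x x1) g (lH (subset_closure hg))).symm, (zc _ (sq _ x') g (lH (subset_closure hg))).symm⟩,
    inj _ (sq y y1) _ (sq x x1) y3, inj _ (sq _ y') _ (sq _ x') (by rw [Qk y y1, Qk x x1, y3]), cx,
    inj _ (cm _ y1 _ y') _ (one_mem _) ((B0 y y1).trans L.one.symm), inj _ (cm _ x1 _ y1) _ (sq _ x') (by rw [y4, Qk x x1]),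
    inj _ (cm _ x' _ y') _ (mmul (sq x x1) (sq _ x')) ?_, inj _ (cm _ x1 _ y') _ (sq x x1) ?_,
    inj _ (cm _ x' _ y1) _ (sq x x1) ?_⟩, le_antisymm lH ?_⟩
  · rw [L.add _ (sq x x1) _ (sq _ x'), Bk x x1 y y1, Qk x x1, y4]
    linear_combination e (x * x) * w2 - (e (x * x) + ω * e (x * x)) * t2
  · rw [(Bd x x1 y y1).1, y4]; linear_combination e (x * x) * w3
  · rw [(Bd x x1 y y1).2, y4]; linear_combination e (x * x) * w3
  · have m1 : x ∈ closure {x, k * x * k⁻¹, y, k * y * k⁻¹} := subset_closure (by simp)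
    have m2 : k * x * k⁻¹ ∈ closure {x, k * x * k⁻¹, y, k * y * k⁻¹} := subset_closure (by simp)
    rw [← eP, hM]
    refine sup_le (sup_le (sup_le (sup_le (fun z hz => ?_) (zpowers_le.2 m1)) (zpowers_le.2 m2))
      (zpowers_le.2 (subset_closure (by simp)))) (zpowers_le.2 (subset_closure (by simp)))
    by_cases z0 : e z = 0
    · rw [mem_bot.1 ((L.ker z hz).1 z0)]; exact one_mem _
    rcases tri _ _ q0 z0 with c | c | c
    · rw [inj _ hz _ (sq x x1) c]; exact mmul m1 m1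
    · rw [inj _ hz _ (sq _ x') (c.trans (Qk x x1).symm)]; exact mmul m2 m2
    · rw [inj _ hz _ (mmul (sq x x1) (sq _ x')) (by
        rw [L.add _ (sq x x1) _ (sq _ x'), Qk x x1, c]
        linear_combination e (x * x) * w2 - (e (x * x) + ω * e (x * x)) * t2)]
      exact mmul (mmul m1 m1) (mmul m2 m2)

theorem bound32 {Q D V : Subgroup G} (hV : Nat.card V = 4) (eV : ∀ v ∈ V, v * v = 1) (DV : D ≤ V) (DQ : D ≤ Q) (cD : D ≤ CC(Q))
    (cm : ∀ x ∈ Q, ∀ y ∈ Q, ⁅x, y⁆ ∈ D) (sq : ∀ x ∈ Q, x * x ∈ D) (iv : ∀ x ∈ Q, x * x = 1 → x ∈ D) :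
    Nat.card Q ≤ Nat.card D * 32 := by
  by_cases k : Q ≤ D
  · have := card_le_of_le k; omega
  obtain ⟨x, x1, x2⟩ := SetLike.not_le_iff_exists.1 k
  have zV := DV (sq x x1)
  have oz : orderOf (x * x) = 2 := orderOf_eq_prime (by rw [pow_two, eV _ zV]) fun e => x2 (iv x x1 e)
  have two : ∀ a ∈ V, ∀ b ∈ V, a ∉ zpowers (x * x) → b ∉ zpowers (x * x) → a * b ∈ zpowers (x * x) := fun a ha b hb h1 h2 =>
    (mul_mem_iff_of_index_two (H := (zpowers (x * x)).subgroupOf V) (CfsgH2.relIndex_eq_of_card (zpowers_le.2 zV)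
      (by rw [hV, Nat.card_zpowers, oz])) (a := ⟨a, ha⟩) (b := ⟨b, hb⟩)).2 (iff_of_false h1 h2)
  have dc : ∀ d ∈ D, ∀ g ∈ Q, Commute g d := fun d hd g hg => cD hd g hg
  have nm : ∀ M, D ≤ M → M ≤ Q → Q ≤ NN(M) := fun M a b u hu => mem_normalizer_of_finite fun w hw => by
    simpa [commutatorElement_def] using mmul (a (cm u hu w (b hw))) hw
  have st : ∀ M, D ≤ M → M ≤ Q → ∀ g ∈ Q, Nat.card ↥(M ⊔ zpowers g) ≤ Nat.card M * 2 ∧ D ≤ M ⊔ zpowers g ∧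
      M ⊔ zpowers g ≤ Q := fun M a b g hg => ⟨CfsgH2.card_sup_zpowers_le (nm M a b hg) (pow_two g ▸ a (sq g hg)),
    a.trans le_sup_left, sup_le b (zpowers_le.2 hg)⟩
  obtain ⟨n1, n2, n3⟩ := st D le_rfl DQ x x1
  have xN : x ∈ D ⊔ zpowers x := mem_sup_right (mem_zpowers x)
  generalize D ⊔ zpowers x = N at n1 n2 n3 xN
  have f0 : ∀ u ∈ Q ⊓ C1(x), u * u ∈ zpowers (x * x) → u ∈ N := by
    rintro u hu ⟨i, hi⟩
    have c : Commute u x := mem_centralizer_singleton_iff.1 hu.2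
    rcases CfsgH2.zpow_of_mul_self (eV _ zV) i with ⟨-, e⟩ | ⟨-, e⟩
    · exact n2 (iv u hu.1 (hi.symm.trans e))
    · simpa using mmul (minv xN) (n2 (iv _ (mmul x1 hu.1) (by
        rw [← pow_two, c.symm.mul_pow, pow_two, pow_two, ← show (x * x) ^ i = u * u from hi, e, eV _ zV])))
  have f1 : ∀ u ∈ Q ⊓ C1(x), ∀ v ∈ Q ⊓ C1(x), u ∉ N → v ∉ N → u * v ∉ N → ⁅u, v⁆ ∉ zpowers (x * x) :=
    fun u hu v hv a b c d => c (f0 _ (mmul hu hv) (by
      have := mmul (minv d) (two _ (DV (sq u hu.1)) _ (DV (sq v hv.1)) (fun e => a (f0 u hu e)) fun e => b (f0 v hv e))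
      convert this using 1
      rw [commutatorElement_inv]
      calc _ = u * ⁅v, u⁆ * u * v * v := by simp only [commutatorElement_def]; group
        _ = _ := by rw [(dc _ (cm v hv.1 u hu.1) u hu.1).eq]; group))
  obtain ⟨y, y1, y', y2, hC⟩ : ∃ y ∈ Q, ∃ y' ∈ Q, Q ⊓ C1(x) ≤ N ⊔ zpowers y ⊔ zpowers y' := by
    by_cases k1 : Q ⊓ C1(x) ≤ N
    · exact ⟨1, one_mem _, 1, one_mem _, k1.trans (le_sup_left.trans le_sup_left)⟩
    obtain ⟨y, y1, y2⟩ := SetLike.not_le_iff_exists.1 k1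
    by_cases k2 : Q ⊓ C1(x) ≤ N ⊔ zpowers y
    · exact ⟨y, y1.1, 1, one_mem _, k2.trans le_sup_left⟩
    obtain ⟨w, w1, w2⟩ := SetLike.not_le_iff_exists.1 k2
    refine ⟨y, y1.1, w, w1.1, fun g hg => by_contra fun g2 => ?_⟩
    have my : y ∈ N ⊔ zpowers y := mem_sup_right (mem_zpowers y)
    have my' : y ∈ N ⊔ zpowers y ⊔ zpowers w := mem_sup_left my
    have mw : w ∈ N ⊔ zpowers y ⊔ zpowers w := mem_sup_right (mem_zpowers w)
    have q : ∀ u ∈ N ⊔ zpowers y ⊔ zpowers w, u * g ∉ N := fun u hu e => g2 (by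
      simpa using mmul (minv hu) (mem_sup_left (mem_sup_left e)))
    have g3 : g ∉ N := fun e => g2 (mem_sup_left (mem_sup_left e))
    refine f1 _ (mmul y1 w1) g hg (fun e => w2 (by simpa using mmul (minv my) (mem_sup_left e))) g3 (q _ (mmul my' mw)) ?_
    have := two _ (DV (cm w w1.1 g hg.1)) _ (DV (cm y y1.1 g hg.1))
      (f1 w w1 g hg (fun e => w2 (mem_sup_left e)) g3 (q w mw)) (f1 y y1 g hg y2 g3 (q y my'))
    convert this using 1
    calc _ = y * ⁅w, g⁆ * y⁻¹ * ⁅y, g⁆ := by simp only [commutatorElement_def]; group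
      _ = _ := by rw [(dc _ (cm w w1.1 g hg.1) y y1.1).eq]; group
  obtain ⟨a1, a2, a3⟩ := st N n2 n3 y y1
  obtain ⟨b1, -, -⟩ := st _ a2 a3 y' y2
  have c1 := card_le_of_le hC
  have c2 := card_le_of_relIndex (inf_le_left : Q ⊓ C1(x) ≤ Q) (n := 4) (by
    rw [inf_relIndex_left]
    exact (CfsgH2.relIndex_centralizer_le (B := V) fun g hg => DV (cm g hg x x1)).trans hV.le)
  omega

theorem hc_of {P : Subgroup G} (pg : IsPGroup 2 P) (ab : P ≤ CC(P)) (c4 : Nat.card (omegaOne 2 P) ≤ 4) {x y : G} {n : ℕ}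
    (x1 : x ∈ P) (y1 : y ∈ P) (ox : orderOf x = 2 ^ (n + 1)) (oy : orderOf y = 2 ^ (n + 1))
    (ex : ∀ a ∈ P, a ^ 2 ^ (n + 1) = 1) (ne : x ^ 2 ^ n ≠ y ^ 2 ^ n) : HC P x y (n + 1) := by
  have c := comm_of_le ab x1 y1
  have o2 : ∀ {a : G}, orderOf a = 2 ^ (n + 1) → orderOf (a ^ 2 ^ n) = 2 := fun h => by
    rw [orderOf_pow_of_dvd (by positivity) (h ▸ pow_dvd_pow 2 n.le_succ), h, pow_succ, Nat.mul_div_cancel_left _ (by positivity)]
  have d : zpowers x ⊓ zpowers y = ⊥ := eq_bot_iff.2 fun g hg => by_contra fun g1 => by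
    obtain ⟨t, t1, t2⟩ := CfsgH2.exists_invol_zpowers pg (zpowers_le.2 x1 hg.1) g1
    exact ne ((CfsgH2.invol_eq_of_mem_zpowers (pow_mem (mem_zpowers x) _) (zpowers_le.2 hg.1 t1) (o2 ox) t2).trans
      (CfsgH2.invol_eq_of_mem_zpowers (zpowers_le.2 hg.2 t1) (pow_mem (mem_zpowers y) _) t2 (o2 oy)))
  have h0 : HC (zpowers x ⊔ zpowers y) x y (n + 1) := ⟨ox, oy, c, d, fun g => CfsgH2.mem_sup_zpowers2 c⟩
  have cb : ∀ j, ∀ A ≤ P, (∀ a ∈ A, a ^ 2 ^ j = 1) → Nat.card A ≤ 2 ^ (2 * j) := fun j => by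
    induction j with
    | zero => exact fun A _ e => (card_le_one_iff_eq_bot A).2 (eq_bot_iff.2 fun a ha => by simpa using e a ha)
    | succ j ih =>
      intro A l e
      have aA : A ≤ CC(A) := l.trans (ab.trans (centralizer_le l))
      have := card_pc (p := 2) aA 0
      rw [pc_zero] at this
      rw [this, mul_add, pow_add, mul_comm]
      refine Nat.mul_le_mul (ih _ ((pc_le _ A).trans l) fun a ha => ?_) ((card_le_of_le (CfsgH2.omegaOne_mono l)).trans c4)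
      obtain ⟨b, b1, rfl⟩ := (mem_pc_comm aA).1 ha
      rw [← pow_mul, ← pow_add, add_comm]; exact e b b1
  rwa [eq_of_le_of_card_ge (sup_le (zpowers_le.2 x1) (zpowers_le.2 y1)) (h0.card ▸ cb _ P le_rfl ex)] at h0

theorem mem_omega2 {P : Subgroup G} (cen : ∀ x ∈ P, x * x = 1 → x ∈ CC(P)) {x : G} : x ∈ omegaOne 2 P ↔ x ∈ P ∧ x * x = 1 :=
  ⟨fun h => ⟨CfsgH2.omegaOne_le P h, pow_two x ▸ CfsgH2.pow_eq_one_of_mem_omegaOne (fun a ha b hb c d => by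
    rw [Commute.mul_pow (cen b hb (pow_two b ▸ d) a ha), c, d, mul_one]) h⟩, fun h => CfsgH2.mem_omegaOne h.1 (pow_two x ▸ h.2)⟩

theorem ak_omega {P : Subgroup G} (pg : IsPGroup 2 P) (rk : CfsgFT.rk 2 P ≤ 2) (cen : ∀ x ∈ P, x * x = 1 → x ∈ CC(P))
    {z w : G} (z1 : z ∈ omegaOne 2 P) (w1 : w ∈ omegaOne 2 P) (z2 : z ≠ 1) (w2 : w ≠ 1) (ne : z ≠ w) :
    CfsgH2.AK (omegaOne 2 P) (omegaOne 2 P) := by
  have l := CfsgH2.omegaOne_le (p := 2) P
  have ab : omegaOne 2 P ≤ CC(omegaOne 2 P) := fun x hx => centralizer_le l (cen x (l hx) ((mem_omega2 cen).1 hx).2)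
  have o : ∀ x ∈ omegaOne 2 P, x ≠ 1 → orderOf x = 2 := fun x a b =>
    orderOf_eq_prime (pow_two x ▸ ((mem_omega2 cen).1 a).2) b
  have k := CfsgH2.isKleinFour_closure (o z z1 z2) (o w w1 w2) ne (comm_of_le ab z1 w1)
  have e := eq_of_le_of_card_ge ((closure_le _).2 (Set.pair_subset z1 w1)) ((CfsgFT.card_le_pow_rk
    ⟨CfsgH2.isMulCommutative_iff_le_centralizer.2 ab, fun a ha => pow_two a ▸ ((mem_omega2 cen).1 ha).2⟩ l).trans
    ((Nat.pow_le_pow_right two_pos rk).trans k.card_four.ge))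
  exact ⟨pg.to_le l, ab, e ▸ k, fun x => ⟨fun h => ⟨h, ((mem_omega2 cen).1 h).2⟩, fun h => h.1⟩⟩

theorem h3_main {P : Subgroup G} {k z : G} (pg : IsPGroup 2 P) (rk : CfsgFT.rk 2 P ≤ 2) (cen : ∀ x ∈ P, x * x = 1 → x ∈ CC(P))
    (nk : k ∈ NN(P)) {a : ℕ} (ok : orderOf k = 3 ^ a) (fa : ∀ g ∈ zpowers k, g ∈ CC(P) → g = 1) (zP : z ∈ P) (zz : z * z = 1)
    (ne : k * z * k⁻¹ ≠ z) : (∃ x y n, HC P x y (n + 1)) ∨ U64 P := by
  haveI : Fact (Nat.Prime 3) := ⟨Nat.prime_three⟩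
  have mV := fun x => mem_omega2 cen (x := x)
  have nV := CfsgH2.normalizer_le_normalizer_omegaOne (p := 2) P nk
  have zV := (mV z).2 ⟨zP, zz⟩
  have z1 : z ≠ 1 := fun e => ne (by simp [e])
  have ak := ak_omega pg rk cen (conj_mem_of_mem_normalizer nV zV) zV (by simpa using z1) z1 ne
  obtain ⟨V, hV⟩ : ∃ V, V = omegaOne 2 P := ⟨_, rfl⟩
  rw [← hV] at mV nV zV ak
  have cV := ak.kl.card_four
  have pB : IsPGroup 3 (zpowers k) := IsPGroup.of_card ((Nat.card_zpowers k).trans ok)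
  have kC : k ∉ CC(V) := fun e => ne (by rw [← e z zV]; group)
  obtain ⟨r1, r2⟩ := ak.relIndex_dvd (zpowers_le.2 nV) fun e => by
    have := e.trans (relIndex_dvd_card _ _)
    rw [Nat.card_zpowers, ok] at this
    exact absurd (Nat.prime_two.dvd_of_dvd_pow this) (by norm_num)
  have k3 : k ^ 3 ∈ CC(V) := by
    obtain ⟨c, hc⟩ := r1
    rw [hc, pow_mul]
    exact pow_mem (CfsgH2.pow_relIndex_mem' ((zpowers_le.2 nV).trans (cent_norm V)) (mem_zpowers k)) c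
  have k4 : k ^ 3 = 1 := by
    by_contra q
    obtain ⟨a, rfl⟩ : ∃ b, a = b + 2 := ⟨a - 2, by
      have : ¬ a ≤ 1 := fun e => q (orderOf_dvd_iff_pow_eq_one.1 (ok ▸ pow_dvd_pow 3 e))
      omega⟩
    obtain ⟨b, hb⟩ : ∃ b, b = k ^ 3 ^ a := ⟨_, rfl⟩
    have ob : orderOf b = 9 := by
      rw [hb, orderOf_pow_of_dvd (by positivity) (ok ▸ pow_dvd_pow 3 (by omega)), ok, pow_add,
        Nat.mul_div_cancel_left _ (by positivity)]
      rfl
    have ob3 : orderOf (b ^ 3) = 3 := by rw [orderOf_pow_of_dvd (by norm_num) (by rw [ob]; norm_num), ob]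
    have bk : b ∈ zpowers k := hb ▸ pow_mem (mem_zpowers k) _
    obtain ⟨m, hm⟩ := pg.exists_card_eq
    obtain ⟨-, -, -, Q, q1, -, q2, q3, q4, q5, q6, q7⟩ := exists_special pB (zpowers_le.2 (pow_mem bk 3))
      (zpowers_le.2 (centralizer_le_normalizer _ (cent_zpowers_iff.2 (by
        rw [hb]; exact ((Commute.refl k).pow_right _).pow_right _)))) (M := P) (by rw [hm]; exact Nat.Coprime.pow_left _ (by norm_num))
      (zpowers_le.2 nk) fun e => by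
        rw [fa _ (pow_mem bk 3) (le_centralizer_iff.1 e (mem_zpowers _)), orderOf_one] at ob3
        omega
    have pQ := pg.to_le q1
    have DQ : ⁅Q, Q⁆ ≤ Q := q5 ▸ inf_le_left
    have sq : ∀ x ∈ Q, x * x ∈ ⁅Q, Q⁆ := fun x hx => q7 ▸ pow_two x ▸ CfsgH2.pow_mem_map_frattini pQ hx
    have bd := bound32 cV (fun v hv => ((mV v).1 hv).2) (commutator_le.2 fun x hx y hy => (mV _).2
      ⟨q1 (DQ (commutator_mem_commutator hx hy)), by
        rw [← pow_two, ← CfsgH2.commutatorElement_pow_left' (Commute.symm (q6 (commutator_mem_commutator hx hy) x hx)),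
          pow_two]
        exact commutatorElement_eq_one_iff_commute.2 (Commute.symm (q6 (sq x hx) y hy))⟩) DQ q6
      (fun x hx y hy => commutator_mem_commutator hx hy) sq fun x hx e => q5 ▸ ⟨hx, cent_zpowers_iff.2 (by
        rw [hb, ← pow_mul, mul_comm, pow_mul]
        exact Commute.pow_right (k3 x ((mV x).2 ⟨q1 hx, e⟩)) _)⟩
    have nD : zpowers k ≤ NN(⁅Q, Q⁆) := CfsgH2.le_normalizer_commutator' q2 q2
    letI : MulAction (zpowers b) G := MulAction.compHom G ((MulAut.conj (G := G)).comp (zpowers b).subtype)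
    let Ω : SubMulAction (zpowers b) G :=
      { carrier := (Q : Set G) \ (⁅Q, Q⁆ : Subgroup G)
        smul_mem' := fun g x hx => ⟨conj_mem_of_mem_normalizer (q2 (zpowers_le.2 bk g.2)) hx.1, fun e => hx.2 (by
          have := conj_mem_of_mem_normalizer (minv (nD (zpowers_le.2 bk g.2))) e
          change (g : G)⁻¹ * (g * x * (g : G)⁻¹) * (g : G)⁻¹⁻¹ ∈ _ at this
          simpa [mul_assoc] using this)⟩ }
    have dv := CfsgH2.card_dvd_of_free Ω fun x hx g e => by_contra fun g1 => hx.2 (q5.le ⟨hx.1, by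
      have c : Commute x g := (mul_inv_eq_iff_eq_mul.1 (show (g : G) * x * (g : G)⁻¹ = x from e)).symm
      refine centralizer_le (show zpowers (b ^ 3) ≤ zpowers (g : G) from ?_) (cent_zpowers_iff.2 c)
      refine (CfsgFT.le_total_of_cyclic_pgroup (p := 3) inferInstance (pB.to_le (zpowers_le.2 bk))
        (zpowers_le.2 (pow_mem (mem_zpowers b) 3)) (zpowers_le.2 g.2)).elim id fun l => ?_
      exact (eq_zpowers_of_card ((Nat.card_zpowers _).trans ob3) (l (mem_zpowers _)) fun e => g1 (Subtype.ext e)).ge⟩)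
    have cΩ : Nat.card Ω = Nat.card Q - Nat.card ↥⁅Q, Q⁆ := Set.ncard_diff DQ
    obtain ⟨d, hd⟩ := (pQ.to_le DQ).exists_card_eq
    obtain ⟨j, hj⟩ := pQ.exists_card_eq
    have lt := CfsgH2.card_lt_of_lt (lt_of_le_of_ne DQ fun e => q3 (q4.symm.trans
      (commutator_eq_bot_iff_le_centralizer.2 (e.ge.trans (q5.ge.trans inf_le_right)))))
    rw [Nat.card_zpowers, ob, cΩ, hd, hj] at dv
    rw [hd, hj] at bd lt
    obtain ⟨i, rfl⟩ := Nat.exists_eq_add_of_lt ((Nat.pow_lt_pow_iff_right one_lt_two).1 lt)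
    have i5 := (Nat.pow_le_pow_iff_right one_lt_two).1 (bd.trans_eq (pow_add 2 d 5).symm)
    rw [add_assoc, pow_add, ← Nat.mul_sub_one] at dv
    have := (Nat.Coprime.pow_right d (by norm_num : Nat.Coprime 9 2)).dvd_of_dvd_mul_left dv
    have : i ≤ 4 := by omega
    interval_cases i <;> omega
  have o3 : orderOf k = 3 := orderOf_eq_prime k4 fun e => kC (e ▸ one_mem _)
  by_cases ab : P ≤ CC(P)
  · left
    obtain ⟨x, x1, x2⟩ := Set.exists_max_image (P : Set G) orderOf (Set.toFinite _) ⟨z, zP⟩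
    obtain ⟨n, hn⟩ := CfsgH2.exists_orderOf_eq_pow pg x1
    have oz : orderOf z = 2 := orderOf_eq_prime (pow_two z ▸ zz) z1
    obtain ⟨n, rfl⟩ : ∃ m, n = m + 1 := ⟨n - 1, by
      have := x2 z zP
      rcases n with _ | n
      · rw [hn, oz] at this; omega
      · rfl⟩
    refine ⟨x, k * x * k⁻¹, n, hc_of pg ab (hV ▸ cV.le) x1 (conj_mem_of_mem_normalizer nk x1) hn
      (by rw [← hn]; exact (MulAut.conj k).orderOf_eq x) (fun g hg => ?_) fun e => kC (r2 k (mem_zpowers k) (x ^ 2 ^ n)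
        ((mV _).2 ⟨pow_mem x1 _, by rw [← pow_two, ← pow_mul, ← pow_succ, ← hn, pow_orderOf_eq_one]⟩) (fun c => ?_) ?_)⟩
    · obtain ⟨i, hi⟩ := CfsgH2.exists_orderOf_eq_pow pg hg
      have := x2 g hg
      rw [hi, hn] at this
      exact orderOf_dvd_iff_pow_eq_one.1 (hi ▸ pow_dvd_pow 2 ((Nat.pow_le_pow_iff_right one_lt_two).1 this))
    · have := Nat.le_of_dvd (by positivity) (orderOf_dvd_of_pow_eq_one c)
      rw [hn] at this
      exact absurd this (not_le.2 (Nat.pow_lt_pow_right one_lt_two n.lt_succ_self))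
    · rw [conj_pow] at e
      exact mul_inv_eq_iff_eq_mul.1 e.symm
  · obtain ⟨F, _, _, _, hF⟩ := CfsgSuz.exists_field_two (m := 4) ⟨2, rfl⟩ (by norm_num)
    obtain ⟨e, ζ, h⟩ := CfsgSuz.exists_HG pg (zpowers_le.2 nk) (CfsgH2.isMulCommutative_iff_le_centralizer.1 inferInstance)
      (fun g hg g1 => eq_bot_iff.2 fun x hx => by_contra fun x1 => by
        obtain ⟨t, t1, t2⟩ := CfsgH2.exists_invol_zpowers pg hx.1 x1
        refine kC ((eq_zpowers_of_card ((Nat.card_zpowers k).trans o3) hg g1).ge.trans (zpowers_le.2 (r2 g hg t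
          ((mV t).2 ⟨zpowers_le.2 hx.1 t1, by rw [← pow_two, ← t2, pow_orderOf_eq_one]⟩) (fun e => by simp [e] at t2) ?_))
          (mem_zpowers k))
        exact (mem_centralizer_singleton_iff.1 (zpowers_le.2 hx.2 t1)).symm) mV
      (fun v hv => cen v ((mV v).1 hv).1 ((mV v).1 hv).2) (by rw [cV, Nat.card_zpowers, o3]) (by omega) F (hF.trans cV.symm)
    exact .inr (hg_u64 h hF ab)

end

end CfsgFS
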