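import Cfsg.Agent.Lead.Sm10

/-! Fusion systems of `2`-rank two with trivial centre. -/

set_option autoImplicit false
set_option linter.unusedSectionVars false

namespace CfsgFS

open Subgroup Cfsg Cfsg.FusionSystem CfsgH9
open CfsgH2 (HC WR AK centMod)
open CfsgH5 (UHq)
open scoped commutatorElement

local notation "C1(" x ")" => Subgroup.centralizer (Singleton.singleton x : Set _)

universe u

section
variable {G : Type*} [Group G] [Finite G] {F : Type*} [Field F] [Fintype F]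

theorem prk_inj {X : Type*} [Group X] {p k : ℕ} (f : X →* G) (fi : Function.Injective f) (h : PRankLE p k G) :
    PRankLE p k X := fun A a b => by
  rw [← card_map_of_injective fi]
  exact h _ inferInstance (by rintro _ ⟨x, hx, rfl⟩; rw [← map_pow, b x hx, map_one])

theorem wr_equiv {X : Type*} [Group X] (e : G ≃* X) (h : IsWreathed G) : IsWreathed X := by
  obtain ⟨n, a, b, x, y, z, c, d, f, g, i⟩ := h
  refine ⟨n, a, Nat.card_congr e.toEquiv ▸ b, e x, e y, e z, by simpa, by simpa using congrArg e d, ?_, by simpa,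
    by simpa using congrArg e i⟩
  have := congrArg (Subgroup.map e.toMonoidHom) f
  rwa [map_inf _ _ _ e.injective, MonoidHom.map_zpowers, MonoidHom.map_zpowers, Subgroup.map_bot] at this

theorem fpf_onto {A : Subgroup G} {x : G} (hx : x ∈ NN(A)) (h : ∀ a ∈ A, Commute x a → a = 1) {u : G} (hu : u ∈ A) :
    ∃ v ∈ A, u = v⁻¹ * (x * v * x⁻¹) := by
  let f : A → A := fun v => ⟨v⁻¹ * (x * v * x⁻¹), mul_mem (inv_mem v.2) (conj_mem_of_mem_normalizer hx v.2)⟩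
  obtain ⟨v, hv⟩ := Finite.surjective_of_injective (f := f) (fun a b e => by
    have e : (a : G)⁻¹ * (x * a * x⁻¹) = (b : G)⁻¹ * (x * b * x⁻¹) := congrArg Subtype.val e
    refine Subtype.ext (mul_inv_eq_one.1 (h _ (mul_mem b.2 (inv_mem a.2)) (Eq.symm ?_))).symm
    calc (b : G) * (a : G)⁻¹ * x = b * ((a : G)⁻¹ * (x * a * x⁻¹)) * x * (a : G)⁻¹ := by group
      _ = x * (b * (a : G)⁻¹) := by rw [e]; group) ⟨u, hu⟩
  exact ⟨v, v.2, (congrArg Subtype.val hv).symm⟩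

theorem cube_cent {V : Subgroup G} (ak : AK V V) {k : G} (nV : k ∈ NN(V)) (ok : Odd (orderOf k)) : k ^ 3 ∈ CC(V) := by
  obtain ⟨⟨c, hc⟩, -⟩ := ak.relIndex_dvd (zpowers_le.2 nV) fun e => by
    have := e.trans (relIndex_dvd_card _ _)
    rw [Nat.card_zpowers] at this
    exact Nat.not_even_iff_odd.2 ok (even_iff_two_dvd.2 this)
  rw [hc, pow_mul]
  exact pow_mem (CfsgH2.pow_relIndex_mem' ((zpowers_le.2 nV).trans (cent_norm V)) (mem_zpowers k)) c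

theorem h3_odd {P : Subgroup G} {k z : G} (pg : IsPGroup 2 P) (rk : CfsgFT.rk 2 P ≤ 2) (cen : ∀ x ∈ P, x * x = 1 → x ∈ CC(P))
    (nk : k ∈ NN(P)) (ok : Odd (orderOf k)) (fa : ∀ g ∈ zpowers k, g ∈ CC(P) → g = 1) (zP : z ∈ P) (zz : z * z = 1)
    (ne : k * z * k⁻¹ ≠ z) : (∃ x y n, HC P x y (n + 1)) ∨ U64 P := by
  have nV := CfsgH2.normalizer_le_normalizer_omegaOne (p := 2) P nk
  have zV := (mem_omega2 cen).2 ⟨zP, zz⟩
  have z1 : z ≠ 1 := fun e => ne (by simp [e])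
  have k3 := cube_cent (ak_omega pg rk cen (conj_mem_of_mem_normalizer nV zV) zV (by simpa using z1) z1 ne) nV ok
  obtain ⟨a, m, hm, e⟩ := Nat.exists_eq_pow_mul_and_not_dvd (orderOf_pos k).ne' 3 (by norm_num)
  have m0 : m ≠ 0 := by rintro rfl; simp at hm
  refine h3_main pg rk cen (pow_mem nk m) (a := a) ?_ (fun g hg => fa g (zpowers_le.2 (pow_mem (mem_zpowers k) m) hg)) zP zz
    fun c => ne (mul_inv_eq_iff_eq_mul.2 (mem_centralizer_singleton_iff.1 (CfsgH2.mem_of_pow_mem_of_pow_mem (K := C1(z))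
      ((Nat.Prime.coprime_iff_not_dvd Nat.prime_three).2 hm) (mem_centralizer_singleton_iff.2 (k3 z zV).symm)
      (mem_centralizer_singleton_iff.2 (mul_inv_eq_iff_eq_mul.1 c)))))
  rw [orderOf_pow_of_dvd m0 (e ▸ dvd_mul_left _ _), e, Nat.mul_div_cancel _ (Nat.pos_of_ne_zero m0)]

theorem U64.uh (hF : Fintype.card F = (2 ^ 2) ^ 2) {P : Subgroup G} (h : U64 P) : Nonempty (P ≃* UHq hF) := by
  obtain ⟨Γ, _, _, f, K, Z, E, _, _, _, e₀, ζ, fi, k, hna⟩ := CfsgSuz.hg_of_suzuki (CfsgH5.isSuzuki_UH le_rfl hF)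
  obtain ⟨e⟩ := h.equiv (hg_u64 k (by rw [← CfsgSuz.abs_card_center fi k hna, CfsgH5.card_center_UH]; rfl) hna)
  exact ⟨e.trans (MonoidHom.ofInjective fi).symm⟩

theorem tri (hF : Fintype.card F = (2 ^ 2) ^ 2) (pg : IsPGroup 2 G) (rk : PRankLE 2 2 G)
    (cen : ∀ x : G, x * x = 1 → ∀ y, y * x = x * y) (φ : MulAut G) (o : Odd (orderOf φ)) {z : G} (zz : z * z = 1) (ne : φ z ≠ z) :
    (∃ n, Nonempty (G ≃* Multiplicative (ZMod (2 ^ (n + 1)) × ZMod (2 ^ (n + 1))))) ∨ Nonempty (G ≃* UHq hF) := by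
  let f : G →* Equiv.Perm G := MulAction.toPermHom G G
  have fi : Function.Injective f := MulAction.toPerm_injective
  let κ := MulAut.toPerm G
  have κi : Function.Injective κ := fun a b e => MulEquiv.ext fun x => congrArg (fun g : Equiv.Perm G => g x) e
  have c : ∀ (ψ : MulAut G) t, κ ψ * f t * (κ ψ)⁻¹ = f (ψ t) := fun ψ t =>
    mul_inv_eq_iff_eq_mul.2 (Equiv.ext fun x => map_mul ψ t x)
  have e := MonoidHom.ofInjective fi
  refine (h3_odd (P := f.range) (k := κ φ) (z := f z) (pg.of_equiv e) (CfsgFT.rk_le_iff.2 (prk_inj e.symm.toMonoidHom e.symm.injective rk))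
    ?_ (mem_normalizer_of_finite ?_) (by rwa [orderOf_injective κ κi]) ?_ ⟨z, rfl⟩ (by rw [← map_mul, zz, map_one])
    fun h => ne (fi ((c φ z).symm.trans h))).imp (fun ⟨x, y, n, h⟩ => ⟨n, h.equiv.map e.trans⟩) fun h => (h.uh hF).map e.trans
  · rintro _ ⟨x, rfl⟩ h _ ⟨y, rfl⟩
    rw [← map_mul, ← map_mul, cen x (fi (by rw [map_mul, h, map_one])) y]
  · rintro _ ⟨x, rfl⟩
    exact ⟨_, (c φ x).symm⟩
  · rintro _ ⟨i, rfl⟩ h
    simp only [← map_zpow] at h ⊢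
    rw [show φ ^ i = 1 from MulEquiv.ext fun x => fi (by rw [← c, ← h _ ⟨x, rfl⟩, mul_inv_cancel_right]; rfl), map_one]

theorem tri' (hF : Fintype.card F = (2 ^ 2) ^ 2) {P : Subgroup G} {k z : G} (pg : IsPGroup 2 P) (rk : CfsgFT.rk 2 P ≤ 2)
    (cen : ∀ x ∈ P, x * x = 1 → x ∈ CC(P)) (nk : k ∈ NN(P)) (ok : Odd (orderOf k)) (zP : z ∈ P) (zz : z * z = 1)
    (ne : k * z * k⁻¹ ≠ z) : (∃ x y n, HC P x y (n + 1)) ∨ Nonempty (P ≃* UHq hF) :=
  (tri hF pg (CfsgFT.rk_le_iff.1 rk) (fun x h y => Subtype.ext (cen x x.2 (congrArg Subtype.val h) y y.2))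
    (P.normalizerMonoidHom ⟨k, nk⟩) (ok.of_dvd_nat ((orderOf_map_dvd _ _).trans (orderOf_coe _).symm.dvd)) (z := ⟨z, zP⟩)
    (Subtype.ext zz) fun e => ne (congrArg Subtype.val e)).imp_left fun ⟨n, ⟨e⟩⟩ =>
      let ⟨x, y, h⟩ := CfsgH2.hc_of_equiv e; ⟨x, y, n, h⟩

theorem uh_comm (hF : Fintype.card F = (2 ^ 2) ^ 2) {P : Subgroup G} (e : P ≃* UHq hF) {x y : G} (hx : x ∈ P) (hy : y ∈ P) :
    ⁅x, y⁆ * ⁅x, y⁆ = 1 :=
  let ⟨a, b⟩ := suzuki_facts (CfsgH5.IsSuzukiTwoGroup.of_equiv e.symm (CfsgH5.isSuzuki_UH le_rfl hF))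
  congrArg Subtype.val ((a _).1 (b ⟨x, hx⟩ ⟨y, hy⟩))

theorem uh_fix (hF : Fintype.card F = (2 ^ 2) ^ 2) {P : Subgroup G} (e : P ≃* UHq hF) {r z : G} (n : r ∈ NN(P)) (hr : r * r ∈ P)
    (hz : z ∈ P) (zz : z * z = 1) : r * z * r⁻¹ = z := by
  let φ : MulAut (UHq hF) := MulAut.congr e (P.normalizerMonoidHom ⟨r, n⟩)
  have hφ : ∀ x : P, φ (e x) = e (P.normalizerMonoidHom ⟨r, n⟩ x) := fun x => by simp [φ]
  have h3 := CfsgH5.UH_fix_center hF (φ := φ) (x := e ⟨z, hz⟩) (fun x => by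
    obtain ⟨x, rfl⟩ := e.surjective x
    have : P.normalizerMonoidHom ⟨r, n⟩ (P.normalizerMonoidHom ⟨r, n⟩ x) = ⟨r * r, hr⟩ * x * (⟨r * r, hr⟩ : P)⁻¹ :=
      Subtype.ext (by simp [mul_assoc])
    rw [hφ, hφ, this, map_mul, map_mul, map_inv]
    simp) ((CfsgH5.UH.mul_self_eq_one (CfsgH5.two_eq_zero_of_sq hF)).1 (by
      rw [← map_mul, show (⟨z, hz⟩ : P) * ⟨z, hz⟩ = 1 from Subtype.ext zz, map_one]))
  rw [hφ] at h3
  exact congrArg Subtype.val (e.injective h3)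

theorem cen_of {P : Subgroup G} (rk : CfsgFT.rk 2 P ≤ 2) {z w : G} (z1 : z ∈ P ⊓ CC(P)) (w1 : w ∈ P ⊓ CC(P))
    (oz : orderOf z = 2) (ow : orderOf w = 2) (ne : z ≠ w) {x : G} (hx : x ∈ P) (xx : x * x = 1) : x ∈ closure {z, w} := by
  have k := CfsgH2.isKleinFour_closure oz ow ne (w1.2 z z1.1)
  have l : closure {z, w} ≤ P ⊓ CC(P) := (closure_le _).2 (Set.pair_subset z1 w1)
  exact (CfsgFT.Elem.maxElem_of_rk ⟨l.trans inf_le_left, CfsgFT.ea_iff.2 ⟨fun a ha b hb => (l hb).2 a (l ha).1, fun a ha =>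
    congrArg Subtype.val (pow_two (⟨a, ha⟩ : closure {z, w}) ▸ IsKleinFour.mul_self _)⟩, k.card_four⟩ rk).mem hx
    (fun a ha => ((l ha).2 x hx).symm) (pow_two x ▸ xx)

theorem s1237 (hF : Fintype.card F = (2 ^ 2) ^ 2) (pg : IsPGroup 2 G) (h2 : PRankLE 2 2 G) (h1 : ¬ PRankLE 2 1 G) (φ : MulAut G)
    (tr : ∀ s t : G, orderOf s = 2 → orderOf t = 2 → ∃ k : ℕ, (φ ^ k) s = t) :
    (∃ n, Nonempty (G ≃* Multiplicative (ZMod (2 ^ (n + 1)) × ZMod (2 ^ (n + 1))))) ∨ Nonempty (G ≃* UHq hF) := by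
  obtain ⟨A, hA⟩ := CfsgFT.le_rk_iff.1 (CfsgFT.not_pRankLE_iff.1 fun e => h1 (CfsgFT.rk_top_le_iff.1 (CfsgFT.rk_le_iff.2 e)))
  have pT := pg.to_subgroup ⊤
  obtain ⟨a, a1, oa⟩ := exists_central_p pT le_rfl fun e => hA.ne_bot two_pos (le_bot_iff.1 (hA.le.trans e.le))
  have o2 : ∀ x : G, x * x = 1 → x ≠ 1 → orderOf x = 2 := fun x a b => orderOf_eq_prime (pow_two x ▸ a) b
  have cen : ∀ x : G, x * x = 1 → ∀ y, y * x = x * y := fun x hx y => by
    by_cases x1 : x = 1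
    · simp [x1]
    obtain ⟨k, rfl⟩ := tr a x oa (o2 x hx x1)
    simpa using congrArg (φ ^ k) (a1.2 ((φ ^ k).symm y) trivial)
  have fx : ∀ s, orderOf s = 2 → φ s ≠ s := fun s os e => by
    have : A ≤ zpowers s := fun x hx => by
      by_cases x1 : x = 1
      · exact x1 ▸ one_mem _
      obtain ⟨k, rfl⟩ := tr s x os (CfsgFT.orderOf_eq_of_mem_ea hA.ea hx x1)
      rw [show (φ ^ k) s = s from pow_mem (show φ ∈ MulAction.stabilizer (MulAut G) s from e) k]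
      exact mem_zpowers s
    have := card_le_of_le this
    rw [hA.card, Nat.card_zpowers, os] at this
    omega
  have aa := CfsgH2.mul_self_of_orderOf_two oa
  have ob := (φ.orderOf_eq a).trans oa
  have bb := CfsgH2.mul_self_of_orderOf_two ob
  have oc := (φ.orderOf_eq _).trans ob
  have kl := CfsgH2.isKleinFour_closure oa ob (fx a oa).symm (cen _ bb a)
  have e1 : φ (φ a) = a * φ a := congrArg Subtype.val (IsKleinFour.eq_mul_of_ne_all
    (x := (⟨a, subset_closure (by simp)⟩ : closure {a, φ a})) (y := ⟨φ a, subset_closure (by simp)⟩)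
    (z := ⟨_, cen_of (CfsgFT.rk_top_le_iff.2 h2) a1 ⟨trivial, fun y _ => cen _ bb y⟩ oa ob (fx a oa).symm trivial
      (CfsgH2.mul_self_of_orderOf_two oc)⟩) (fun e => by simp [show a = 1 from congrArg Subtype.val e] at oa)
    (fun e => by simp [show φ a = 1 from congrArg Subtype.val e] at ob) (fun e => fx a oa (congrArg Subtype.val e).symm)
    (fun e => by simp [show φ (φ a) = 1 from congrArg Subtype.val e] at oc) (fun e => fx (a * φ a) (o2 _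
      (by rw [mul_assoc, ← mul_assoc (φ a), cen a aa, mul_assoc, bb, mul_one, aa]) fun c => fx a oa
        (by rw [← mul_left_cancel_iff (a := a), c, aa])) (by
      rw [map_mul, show φ (φ a) = a from congrArg Subtype.val e, cen a aa])) fun e => fx _ ob (congrArg Subtype.val e))
  obtain ⟨j, m, hm, e⟩ := Nat.exists_eq_pow_mul_and_not_dvd (orderOf_pos φ).ne' 2 (by norm_num)
  refine tri hF pg h2 cen (φ ^ 2 ^ j) ?_ aa fun c => fx a oa (CfsgH2.mem_of_pow_mem_of_pow_mem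
    (K := MulAction.stabilizer (MulAut G) a) (Nat.Coprime.pow_right j (by norm_num : Nat.Coprime 3 2)) ?_ c)
  · rw [orderOf_pow_of_dvd (by positivity) (e ▸ dvd_mul_right _ _), e, Nat.mul_div_cancel_left _ (by positivity)]
    exact Nat.odd_iff.2 (by omega)
  · change φ (φ (φ a)) = a
    rw [e1, map_mul, e1, ← mul_assoc, cen a aa, mul_assoc, bb, mul_one]

theorem locA (hF : Fintype.card F = (2 ^ 2) ^ 2) {T R : Subgroup G} (h : RC 2 T T R) (rk : CfsgFT.rk 2 T ≤ 2) {z g : G}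
    (zR : z ∈ R) (zT : z ∈ CC(T)) (zz : z * z = 1) (ne : g * z * g⁻¹ ≠ z) :
    T ⊓ CC(omegaOne 2 R) ≤ R ∧ AK (omegaOne 2 R) (omegaOne 2 R) ∧ (∀ x, x ∈ omegaOne 2 R ↔ x ∈ R ∧ x * x = 1) ∧
      (∃ k : G, Odd (orderOf k) ∧ k * z * k⁻¹ ≠ z) ∧ ((∃ x y n, HC R x y (n + 1)) ∨ Nonempty (R ≃* UHq hF)) := by
  have z1 : z ≠ 1 := fun e => ne (by simp [e])
  have oz : orderOf z = 2 := orderOf_eq_prime (pow_two z ▸ zz) z1
  have ow : orderOf (g * z * g⁻¹) = 2 := ((MulAut.conj g).orderOf_eq z).trans oz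
  have zZ : z ∈ R ⊓ CC(R) := ⟨zR, centralizer_le h.rT zT⟩
  have wZ := (zc_normal h.nr).conj_mem z zZ g
  have rkR := (CfsgFT.rk_mono h.rT).trans rk
  have cen : ∀ x ∈ R, x * x = 1 → x ∈ CC(R) := fun x hx xx =>
    ((closure_le _).2 (Set.pair_subset wZ zZ) (cen_of rkR wZ zZ ow oz ne hx xx)).2
  have mV := fun x => mem_omega2 cen (x := x)
  have zV := (mV z).2 ⟨zR, zz⟩
  have nV := omega_normal (p := 2) h.nr
  have wV := nV.conj_mem z zV g
  have ak := ak_omega h.pgR rkR cen wV zV (by simpa using z1) z1 ne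
  have VR := CfsgH2.omegaOne_le (p := 2) R
  generalize omegaOne 2 R = V at mV zV nV wV ak VR ⊢
  obtain ⟨U, hU⟩ : ∃ U, U = T ⊓ CC(V) := ⟨_, rfl⟩
  have RU : R ≤ U := hU ▸ le_inf h.rT (le_centralizer_iff.1 fun v hv => cen v (VR hv) ((mV v).1 hv).2)
  have UT : U ≤ T := hU ▸ inf_le_left
  have VZ : V ≤ U ⊓ CC(U) := le_inf (VR.trans RU) (le_centralizer_iff.1 (hU ▸ inf_le_right))
  have iv : ∀ x ∈ U, x * x = 1 → x ∈ V := fun x hx xx => (closure_le _).2 (Set.pair_subset wV zV)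
    (cen_of ((CfsgFT.rk_mono UT).trans rk) (VZ wV) (VZ zV) ow oz ne hx xx)
  have nC := cent_normal nV
  obtain ⟨k, k1, k2, k3⟩ : ∃ k ∈ NN(U), Odd (orderOf k) ∧ k * z * k⁻¹ ≠ z := by
    by_contra! q
    obtain ⟨n, n1, n2⟩ := (hU ▸ h.syl.inf_normal' (le_norm nC) le_top).frattini (le_norm (B := ⊤) nC (mem_top g))
    have := mem_centralizer_singleton_iff.1 (Syl.le_of_coprime (h.syl.mono (fun t ht => hU ▸ norm_inf (le_normalizer ht) (le_norm nC ht))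
      le_top) (B := C1(z)) (fun t ht => mem_centralizer_singleton_iff.2 (zT t ht))
      (fun a a1 a2 => mem_centralizer_singleton_iff.2 (mul_inv_eq_iff_eq_mul.1 (q a a1 (Nat.coprime_two_right.1 a2)))) n2)
    refine ne ?_
    calc _ = n⁻¹ * (n * g * z) * g⁻¹ := by group
      _ = n⁻¹ * (z * n) := by rw [this]; group
      _ = z := by rw [n1 z zV]; group
  have tr := tri' hF (h.pgT.to_le UT) ((CfsgFT.rk_mono UT).trans rk) (fun x a b => (VZ (iv x a b)).2) k1 k2 (RU zR) zz k3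
  have cm : ∀ x ∈ U, ∀ y ∈ U, ⁅x, y⁆ ∈ V := fun x hx y hy => iv _ (mmul (mconj hx hy) (minv hy)) (by
    rcases tr with ⟨_, _, _, c⟩ | ⟨⟨e⟩⟩
    · rw [commutatorElement_eq_one_iff_commute.2 (comm_of_le c.ab hx hy), mul_one]
    · exact uh_comm hF e hx hy)
  have UR : U ≤ R := fun a ha => h.key2 h.nr nV inferInstance VR ctl_self (UT ha) (fun x hx => cm a ha x (RU hx))
    (tq_bot.2 (hU ▸ ha).2)
  obtain rfl := le_antisymm UR RU
  exact ⟨hU.ge, ak, mV, ⟨k, k2, k3⟩, tr⟩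

theorem locB (hF : Fintype.card F = (2 ^ 2) ^ 2) {T R : Subgroup G} (h : EC 2 T R) (rk : CfsgFT.rk 2 T ≤ 2) {z g : G}
    (zR : z ∈ R) (zT : z ∈ CC(T)) (zz : z * z = 1) (ne : g * z * g⁻¹ ≠ z) :
    IsKleinFour R ∨ (IsWreathed T ∧ R ≤ CC(R) ∧ ∀ X ≤ T, X ≤ CC(X) → Nat.card X = Nat.card R → X = R) := by
  obtain ⟨UR, ak, mV, ⟨k, ok, k3⟩, tr⟩ := locA hF h.toRC rk zR zT zz ne
  have nV := omega_normal (p := 2) h.nr
  have VR := CfsgH2.omegaOne_le (p := 2) R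
  have ct := fun e => h.toRC.ctlΩ (Or.inr e)
  generalize omegaOne 2 R = V at mV nV ak VR UR ct
  have zV := (mV z).2 ⟨zR, zz⟩
  have r2 : R.relIndex T = 2 := relIndex_eq_prime h.pgT h.ne (U := centMod ⊥ V) (fun a ha => UR ⟨ha.1, tq_bot.1
    (CfsgH2.mem_centMod.1 ha.2).2⟩) (relIndex_centMod_le h.pgT (VR.trans h.rT) bot_le (le_norm inferInstance) (le_norm nV)
      (by simp [ak.kl.card_four]))
  have two : ∀ a ∈ T, ∀ b ∈ T, a ∉ R → b ∉ R → a * b ∈ R := fun a ha b hb h1 h2 =>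
    (mul_mem_iff_of_index_two (H := R.subgroupOf T) r2 (a := ⟨a, ha⟩) (b := ⟨b, hb⟩)).2 (iff_of_false h1 h2)
  obtain ⟨t, t1, t2⟩ := SetLike.not_le_iff_exists.1 h.ne
  rcases tr with ⟨x, y, n, c⟩ | ⟨⟨e⟩⟩
  swap
  · exact (t2 (UR ⟨t1, fun v hv => (mul_inv_eq_iff_eq_mul.1 (uh_fix hF e (le_norm h.nr t1) (two t t1 t t1 t2 t2) (VR hv)
      ((mV v).1 hv).2)).symm⟩)).elim
  rcases n with _ | n
  · exact .inl (eq_of_le_of_card_ge VR (by rw [c.card, ak.kl.card_four]; rfl) ▸ ak.kl)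
  right
  have nC := cent_normal nV
  have CV : CC(V) ≤ R := Syl.le_of_coprime (h.syl.inf_normal' (le_norm nC) le_top) UR fun a a1 a2 =>
    h.cc (ct c.ab a a2 (tq_bot.2 a1))
  have z1 : z ≠ 1 := fun e => ne (by simp [e])
  have fp : ∀ a ∈ R, Commute k a → a = 1 := fun a a1 a2 => by_contra fun a3 => k3 (by
    rw [← c.ak.fpf (le_norm (B := ⊤) h.nr (mem_top k)) ok a1 a3 a2 z zR, mul_inv_cancel_right])
  have kt : t * k * t⁻¹ * k ∈ R := by
    obtain ⟨w, hw⟩ : ∃ w, w = k * z * k⁻¹ := ⟨_, rfl⟩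
    have wV : w ∈ V := hw ▸ nV.conj_mem z zV k
    have w1 : w ≠ 1 := by simpa [hw] using z1
    have vv : ∀ v ∈ V, v * v = 1 := fun v hv => ((mV v).1 hv).2
    have four : ∀ v ∈ V, v ≠ 1 → v ≠ z → v ≠ w → v = z * w := fun v hv a b d => by
      haveI := ak.kl
      exact congrArg Subtype.val (IsKleinFour.eq_mul_of_ne_all (x := (⟨z, zV⟩ : V)) (y := ⟨w, wV⟩) (z := ⟨v, hv⟩)
        (by simpa using z1) (by simpa using w1) (by simpa [hw] using k3.symm) (by simpa using a) (by simpa using b) (by simpa using d))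
    have cv : ∀ a, a * z * a⁻¹ = z → a * w * a⁻¹ = w → a ∈ CC(V) := fun a h1 h2 v hv => by
      have c1 : Commute z a := (mul_inv_eq_iff_eq_mul.1 h1).symm
      have c2 : Commute w a := (mul_inv_eq_iff_eq_mul.1 h2).symm
      by_cases a1 : v = 1
      · simp [a1]
      by_cases a2 : v = z
      · exact a2 ▸ c1
      by_cases a3 : v = w
      · exact a3 ▸ c2
      exact four v hv a1 a2 a3 ▸ c1.mul_left c2
    have e1 : k * w * k⁻¹ = z * w := four _ (nV.conj_mem w wV k) (by simpa using w1) (fun e => k3 (mul_inv_eq_iff_eq_mul.2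
      (mem_centralizer_singleton_iff.1 (CfsgH2.mem_of_pow_mem_of_pow_mem (K := C1(z)) (by norm_num : Nat.Coprime 3 2)
        (mem_centralizer_singleton_iff.2 (cube_cent ak (le_norm (B := ⊤) nV (mem_top k)) ok z zV).symm)
        (mem_centralizer_singleton_iff.2 (mul_inv_eq_iff_eq_mul.1 (Eq.trans (by rw [hw, pow_two]; group) e)))))))
      fun e => w1 (fp w (VR wV) (mul_inv_eq_iff_eq_mul.1 e))
    have e2 : t⁻¹ * z * t = z := by rw [mul_assoc, ← zT t t1]; group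
    have e3 : t⁻¹ * w * t = z * w := four _ (by simpa using nV.conj_mem w wV t⁻¹) (fun e => w1 (by
      rw [← mul_left_cancel_iff (a := t⁻¹), ← mul_right_cancel_iff (a := t), e]; group))
      (fun e => k3 (by rw [← hw, ← mul_left_cancel_iff (a := t⁻¹), ← mul_right_cancel_iff (a := t), e, e2]))
      fun e => t2 (by simpa using minv (CV (cv t⁻¹ (by simpa using e2) (by simpa using e))))
    have e4 : t⁻¹ * (z * w) * t = w := by
      calc _ = (t⁻¹ * z * t) * (t⁻¹ * w * t) := by group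
        _ = w := by rw [e2, e3, ← mul_assoc, zz, one_mul]
    have e5 : k * (z * w) * k⁻¹ = z := by
      calc _ = (k * z * k⁻¹) * (k * w * k⁻¹) := by group
        _ = z := by rw [e1, ← hw, ← mul_assoc, ak.ab zV w wV, mul_assoc, vv w wV, mul_one]
    refine CV (cv _ ?_ ?_)
    · calc _ = t * (k * (t⁻¹ * (k * z * k⁻¹) * t) * k⁻¹) * t⁻¹ := by group
        _ = z := by rw [← hw, e3, e5, zT t t1]; group
    · calc _ = t * (k * (t⁻¹ * (k * w * k⁻¹) * t) * k⁻¹) * t⁻¹ := by group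
        _ = w := by rw [e1, e4, e1, ← e3]; group
  obtain ⟨r, r1, hr⟩ := fpf_onto (minv (le_norm (B := ⊤) h.nr (mem_top k))) (fun a a1 a2 => fp a a1 (by simpa using a2.inv_left)) kt
  obtain ⟨τ, hτ⟩ : ∃ τ, τ = r * t := ⟨_, rfl⟩
  have τ1 : τ ∈ T := hτ ▸ mmul (h.rT r1) t1
  have τ2 : τ ∉ R := fun e => t2 (by simpa [hτ] using mmul (minv r1) e)
  have τ3 : τ * k * τ⁻¹ = k⁻¹ := by
    calc _ = r * (t * k * t⁻¹ * k) * k⁻¹ * r⁻¹ := by rw [hτ]; group
      _ = _ := by rw [hr]; group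
  have τ4 : τ * τ = 1 := fp _ (two τ τ1 τ τ1 τ2 τ2) (by
    refine (mul_inv_eq_iff_eq_mul.1 ?_).symm
    calc _ = τ * (τ * k * τ⁻¹) * τ⁻¹ := by group
      _ = (τ * k * τ⁻¹)⁻¹ := by nth_rewrite 1 [τ3]; group
      _ = k := by rw [τ3, inv_inv])
  obtain ⟨a, a1, a2, a3⟩ : ∃ a ∈ R, orderOf a = 2 ^ (n + 1 + 1) ∧ a ^ 2 ^ (n + 1) ≠ (τ * a * τ⁻¹) ^ 2 ^ (n + 1) := by
    by_contra! q
    have q' : ∀ a ∈ R, orderOf a = 2 ^ (n + 1 + 1) → Commute (a ^ (2 : ℤ) ^ (n + 1)) τ := fun a b d => by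
      have := q a b d
      rw [conj_pow, eq_mul_inv_iff_mul_eq] at this
      exact_mod_cast this
    refine τ2 (CV fun v hv => ?_)
    rcases c.sq_eq_one (VR hv) ((mV v).1 hv).2 with e | e | e | e <;> rw [e]
    · simp
    · simpa using (q' x c.x_mem c.ox).eq
    · simpa using (q' y c.y_mem c.oy).eq
    · exact ((q' x c.x_mem c.ox).mul_left (q' y c.y_mem c.oy)).eq
  have a4 := h.nr.conj_mem a a1 τ
  have hc := hc_of h.pgR c.ab ((card_le_of_le (CfsgH2.omegaOne_le_iff.2 fun v v1 v2 => (mV v).2 ⟨v1, pow_two v ▸ v2⟩)).trans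
    ak.kl.card_four.le) a1 a4 a2 (((MulAut.conj τ).orderOf_eq a).trans a2) (fun _ => c.pow_eq_one) a3
  have W : WR T R a (τ * a * τ⁻¹) τ n := ⟨hc, τ4, rfl, fun g => ⟨fun hg => by
    by_cases e : g ∈ R
    · obtain ⟨i, j, e⟩ := (hc.mem g).1 e
      exact ⟨i, j, .inl e⟩
    · obtain ⟨i, j, e⟩ := (hc.mem _).1 (two g hg τ τ1 e τ2)
      exact ⟨i, j, .inr (by rw [← e, mul_assoc, τ4, mul_one])⟩, fun ⟨i, j, e⟩ =>
        e.elim (fun e => e ▸ h.rT (hc.u_mem i j)) fun e => e ▸ mmul (h.rT (hc.u_mem i j)) τ1⟩⟩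
  refine ⟨⟨n + 2, by omega, W.cardS, ⟨a, h.rT a1⟩, ⟨_, h.rT a4⟩, ⟨τ, τ1⟩, (orderOf_coe _).symm.trans a2, Subtype.ext hc.comm,
    eq_bot_iff.2 fun b ⟨⟨i, hi⟩, ⟨j, hj⟩⟩ => Subtype.ext (mem_bot.1 (hc.disj.le
      ⟨⟨i, congrArg Subtype.val hi⟩, ⟨j, congrArg Subtype.val hj⟩⟩)),
    orderOf_eq_prime (Subtype.ext ((pow_two τ).trans τ4)) fun e => τ2 ((show τ = 1 from congrArg Subtype.val e) ▸ one_mem R), rfl⟩,
    c.ab, fun X a b d => W.eq_U a b (d.trans hc.card)⟩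

end

section
variable {Ω : Type u} [Group Ω] {S : Subgroup Ω} {F : FusionSystem S} [Finite S] {K : Type*} [Field K] [Fintype K]

theorem Sat.rank_two (hF : Sat F 2) (hK : Fintype.card K = (2 ^ 2) ^ 2) (rk : PRankLE 2 2 S) (hS : S ≠ ⊥)
    (hZ : ∀ z, orderOf z = 2 → z ∉ F.center) : (∃ r, Nonempty (S ≃* DihedralGroup (2 ^ (r + 2)))) ∨ IsQuasiDihedral S ∨
      IsWreathed S ∨ (∃ n, Nonempty (S ≃* Multiplicative (ZMod (2 ^ (n + 1)) × ZMod (2 ^ (n + 1))))) ∨ Nonempty (S ≃* UHq hK) := by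
  obtain ⟨z, z1, oz⟩ := exists_central_p hF.pg le_rfl hS
  have zz := CfsgH2.mul_self_of_orderOf_two oz
  obtain ⟨R, hR, α, α1, zR, ne⟩ : ∃ R, Fr F 2 R ∧ ∃ α ∈ F.autGroup R, z ∈ R ∧ ap α z ≠ z := by
    by_contra! q
    refine hZ z oz (Cn.le_center (hF.cn_of (zpowers_le.2 z1.1) fun P hP α hα x hx hxP => ?_) (mem_zpowers z))
    rcases (CfsgH2.mem_zpowers_of_mul_self zz).1 hx with rfl | rfl
    exacts [(homOn_ap α).one, q P hP α hα hxP]
  have key : ∀ {G : Type u} [Group G] [Finite G] {θ : Ω → G} {π : G →* F.autGroup R}, Loc F 2 R θ π →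
      CfsgFT.rk 2 (im NI(S, R) θ) ≤ 2 ∧ θ z ∈ im R θ ∧ θ z ∈ CC(im NI(S, R) θ) ∧ θ z * θ z = 1 ∧
        ∃ g, g * θ z * g⁻¹ ≠ θ z := fun {G} _ _ θ π w => by
    obtain ⟨e, -⟩ := w.hiso.exists_equiv
    obtain ⟨g, hg⟩ := w.surj ⟨α, α1⟩
    refine ⟨CfsgFT.rk_le_iff.2 (prk_inj ((inclusion normalizerIn_le).comp e.symm.toMonoidHom)
      ((inclusion_injective normalizerIn_le).comp e.symm.injective) rk), mem_im_of_mem θ zR,
      (w.hiso.cent_iff le_rfl (w.leN zR)).2 (centralizer_le normalizerIn_le z1.2),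
      by rw [← w.hom.mul (w.leN zR) (w.leN zR), zz, w.hom.one], g, fun c => ne ?_⟩
    rw [w.act g z zR, hg] at c
    exact w.hiso.eq (w.leN (ap_mem _ zR)) (w.leN zR) c
  rcases hR with rfl | hR
  · obtain ⟨G, _, _, θ, π, w⟩ := hF.exists_loc fn_top
    obtain ⟨k1, k2, k3, k4, g, k5⟩ := key w
    have rc := w.rc sc_top le_rfl fun a ha _ _ => ha
    rw [inf_eq_right.2 normalizerIn_le] at rc
    obtain ⟨e, -⟩ := w.isoR.exists_equiv
    exact .inr (.inr (.inr ((locA hK rc k1 k2 k3 k4 k5).2.2.2.2.imp (fun ⟨x, y, n, c⟩ => ⟨n, c.equiv.map e.trans⟩)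
      fun c => c.map e.trans)))
  obtain ⟨G, _, _, θ, π, w, ec⟩ := hF.exists_ec hR
  obtain ⟨k1, k2, k3, k4, g, k5⟩ := key w
  have l := w.le
  rcases locB hK ec k1 k2 k3 k4 k5 with c | ⟨c, ab, u⟩
  · obtain ⟨e, -⟩ := w.isoR.exists_equiv
    have kl : IsKleinFour (R.subgroupOf S) := CfsgH2.isKleinFour_of_equiv ((subgroupOfEquivOfLe l).trans e).symm c
    obtain ⟨a, b, r, m | m | m⟩ := mc_of_small hF.pg (R := R.subgroupOf S)
      (fun x hx => centric_le hR.1 ⟨x.2, fun y hy => congrArg Subtype.val (hx ⟨y, l hy⟩ hy)⟩)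
      (fun e => (hF.ess_lt hR).not_ge (subgroupOf_eq_top.1 e)) (.inl kl.card_four)
    · exact .inl ⟨r, m.dihedral.map topEquiv.symm.trans⟩
    · obtain ⟨j, c, -⟩ := m.klein_eq le_top kl
      have := m.orderOf_z
      rw [← m.quat_sq j, c, orderOf_one] at this
      omega
    · exact .inr (.inl (CfsgH2.qd_of_idx2_top (r := r + 1) (by omega) m.2.ord m.2.toIdx2))
  · have : NI(S, R) = S := by
      by_contra q
      obtain ⟨s, s1, s2, s3⟩ := exists_norm_of_lt hF.pg (lt_of_le_of_ne normalizerIn_le q) le_rfl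
      have l1 : CfsgH2.cj s R ≤ NI(S, R) := CfsgH2.cj_le_iff.2 fun x hx => conj_mem_of_mem_normalizer s3 (w.leN hx)
      refine s2 ⟨s1, mem_normalizer_of_map_conj_eq ((w.hiso.im_inj l1 w.leN).1 (u _ (im_mono l1)
        ((w.hiso.mono l1).comm_iff.2 ?_) ?_))⟩
      · rintro _ ⟨x, hx, rfl⟩ _ ⟨y, hy, rfl⟩
        exact commute_conj (w.isoR.comm_iff.1 ab hx y hy)
      · rw [w.card l1, w.card w.leN]; exact card_map_conj R s
    obtain ⟨e, -⟩ := w.hiso.exists_equiv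
    exact .inr (.inr (.inl (this ▸ wr_equiv e.symm c)))

end

/-- Sylow `2`-subgroups of groups of `2`-rank two without isolated involutions. -/
theorem s1238 {G : Type*} [Group G] [Finite G] (h2 : PRankLE 2 2 G) (h1 : ¬ PRankLE 2 1 G)
    (hiso : ∀ z : G, ¬ IsIsolatedInvolution z) (S : Sylow 2 G) {F : Type*} [Field F] [Fintype F] (hF : Fintype.card F = 16)
    (P : Sylow 2 (PSU 3 F 4)) : (∃ m : ℕ, 2 ≤ m ∧ Nonempty ((S : Subgroup G) ≃* DihedralGroup m)) ∨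
      IsQuasiDihedral (S : Subgroup G) ∨ IsWreathed (S : Subgroup G) ∨ (∃ n : ℕ, 2 ≤ n ∧ Nonempty ((S : Subgroup G) ≃*
        Multiplicative (ZMod (2 ^ n) × ZMod (2 ^ n)))) ∨ Nonempty ((S : Subgroup G) ≃* (P : Subgroup (PSU 3 F 4))) := by
  have hG := isGF_group (S : Subgroup G)
  have hS := syl_top S
  rcases (hG.sat hS).rank_two (K := F) hF (prk_inj _ (S : Subgroup G).subtype_injective h2) (fun e => h1 (CfsgFT.rk_top_le_iff.1 (by
      rw [← CfsgFT.rk_sylow (Syl.h2 hS), e, CfsgFT.rk_eq_zero_iff.2 (by simp)]; omega)))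
    (fun x ox hx => hiso x ⟨ox, CfsgH2.iso_of_sylow (Syl.h2 hS) (center_le_Z hx).1 fun g hg =>
      fix_center hx (hG.mor (mem_top g) (zpowers_le.2 (center_le_Z hx).1) fun y ⟨n, hn⟩ => by
        rw [← show x ^ n = y from hn, ← conj_zpow]; exact zpow_mem hg n) (mem_zpowers x)⟩) with ⟨r, c⟩ | c | c | ⟨n, ⟨c⟩⟩ | ⟨⟨c⟩⟩
  · exact .inl ⟨_, le_trans (by norm_num) (Nat.pow_le_pow_right two_pos (Nat.le_add_left 2 r)), c⟩
  · exact .inr (.inl c)
  · exact .inr (.inr (.inl c))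
  · rcases n with _ | n
    · obtain ⟨f⟩ : Nonempty (DihedralGroup 2 ≃* Multiplicative (ZMod 2 × ZMod 2)) := IsKleinFour.nonempty_mulEquiv
      exact .inl ⟨2, le_rfl, ⟨c.trans f.symm⟩⟩
    · exact .inr (.inr (.inr (.inl ⟨_, by omega, ⟨c⟩⟩)))
  · exact .inr (.inr (.inr (.inr ((CfsgH5.sylow_PSU3 (p := 2) (k := 2) (q := 4) hF rfl P).map c.trans))))

end CfsgFS
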