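import Cfsg.Agent.Lead.Sm13
import Cfsg.Agent.FS.Res4

/-! More on fusion systems over groups of maximal class. -/

set_option autoImplicit false
set_option linter.unusedSectionVars false

namespace CfsgMC
open Subgroup Cfsg CfsgH2
open scoped commutatorElement

variable {G : Type*} [Group G] [Finite G] {p n : ℕ} [hp : Fact p.Prime]

theorem mx_of (hc : Nat.card G = p ^ n) (h3 : 3 ≤ n) (h : L G (n - 2) ≠ ⊥) : MX p n G := by
  haveI := (IsPGroup.of_card hc).isNilpotent
  refine ⟨hc, le_antisymm (class_le hc (by omega)) ?_, h3⟩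
  rw [Ne, Subgroup.lowerCentralSeries_eq_bot_iff_nilpotencyClass_le] at h
  omega

theorem mx_sub {Ω : Type*} [Group Ω] {S : Subgroup Ω} [Finite S] (hc : Nat.card S = p ^ n) (h3 : 3 ≤ n)
    (h : S.lowerCentralSeries (n - 2) ≠ ⊥) : MX p n S :=
  mx_of hc h3 fun e => h (by rw [← top_subtype_lowerCentralSeries]; exact (congrArg _ e).trans (Subgroup.map_bot _))

theorem MX.center_le (h : MX p n G) : center G ≤ L G (n - 2) := fun w hw => by
  obtain ⟨s, hs⟩ := h.exists_adv
  have := h.three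
  exact h.fix (m := n - 1) hs (Nat.sub_add_cancel (by omega)).le
    (h.Cn_zero (mem_Cn.2 fun x _ => by rw [dl, ← mem_center_iff.1 hw x]; simp)) (by rw [dl, mem_center_iff.1 hw s]; simp)

theorem MX.z2_le (h : MX p n G) (h4 : 4 ≤ n) : Subgroup.upperCentralSeries G 2 ≤ L G (n - 3) := fun w hw => by
  obtain ⟨s, hs⟩ := h.exists_adv
  have k : ∀ x, ⁅w⁻¹, x⁆ ∈ L G (n - 2) := fun x => h.center_le (CfsgFS.mem_z2.1 (inv_mem hw) x)
  refine h.fix (m := n - 2) (fun i hi => hs i (by omega)) (by omega) (h.Cn_zero (inv_mem_iff.1 (mem_Cn.2 fun x _ => ?_)))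
    (dl_eq s w ▸ k s)
  rw [dl_eq, ← inv_mem_iff, commutatorElement_inv]
  exact L_le (by omega) (k _)

theorem MX.Cn_le_cent (h : MX p n G) : Cn G (n - 3) ≤ centralizer (L G (n - 3)) := by
  have := h.three
  rw [← commutator_eq_bot_iff_le_centralizer, ← le_bot_iff, ← (h.bot_iff (i := n - 3 + 2)).2 (by omega)]
  exact le_Cn.1 le_rfl

omit [Finite G] in
theorem newton {C : Type*} [CommGroup C] (n : ℕ) : ∀ f : ℕ → C,
    f n = ∏ k ∈ Finset.range (n + 1), dlt^[k] f 0 ^ n.choose k := by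
  induction n with
  | zero => simp
  | succ n ih =>
    intro f
    rw [Finset.prod_pow_choose_succ (fun i _ => dlt^[i] f 0), ← ih]
    simp only [Function.iterate_succ_apply]
    rw [← ih, dlt, mul_inv_cancel_left]

theorem newton_p {C : Type*} [CommGroup C] (he : ∀ c : C, c ^ p = 1) (f : ℕ → C) : f p = f 0 * dlt^[p] f 0 := by
  rw [newton p f, Finset.prod_range_succ, Finset.prod_eq_single 0 (fun k hk k0 => by
    obtain ⟨l, hl⟩ := hp.out.dvd_choose_self k0 (Finset.mem_range.1 hk)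
    rw [hl, pow_mul, he, one_pow]) fun h => (h (Finset.mem_range.2 hp.out.pos)).elim]
  simp

omit [Finite G] in
theorem map_dlt {H : Type*} [Group H] (φ : G →* H) (f : ℕ → G) (k : ℕ) : dlt^[k] (φ ∘ f) = φ ∘ dlt^[k] f := by
  induction k with
  | zero => rfl
  | succ k ih => rw [Function.iterate_succ_apply', Function.iterate_succ_apply', ih]; exact funext fun n => by simp [dlt]

omit [Finite G] in
theorem map_dl {H : Type*} [Group H] (φ : G →* H) (x y : G) (k : ℕ) : φ ((dl x)^[k] y) = (dl (φ x))^[k] (φ y) := by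
  induction k with
  | zero => rfl
  | succ k ih => rw [Function.iterate_succ_apply', Function.iterate_succ_apply', ← ih]; simp [dl]

omit [Finite G] in
theorem cm_mul_left {k : ℕ} {a a' : G} (ha : a' ∈ L G k) (b : G) : QuotientGroup.mk' (L G (k + 2)) ⁅a * a', b⁆ =
    QuotientGroup.mk' _ ⁅a', b⁆ * QuotientGroup.mk' _ ⁅a, b⁆ := by
  rw [show ⁅a * a', b⁆ = a * (⁅a', b⁆ * a⁻¹) * ⁅a, b⁆ by simp [commutatorElement_def, mul_assoc], map_mul, map_mul, map_mul,
    (q_comm (cm_mem ha (j := 0) trivial le_rfl) (j := 0) (y := a⁻¹) trivial le_rfl).eq, map_inv, mul_inv_cancel_left]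

omit [Finite G] in
theorem cm_mul_right {k : ℕ} {a : G} (ha : a ∈ L G k) (b b' : G) : QuotientGroup.mk' (L G (k + 2)) ⁅a, b * b'⁆ =
    QuotientGroup.mk' _ ⁅a, b⁆ * QuotientGroup.mk' _ ⁅a, b'⁆ := by
  rw [show ⁅a, b * b'⁆ = ⁅a, b⁆ * (b * (⁅a, b'⁆ * b⁻¹)) by simp [commutatorElement_def, mul_assoc], map_mul, map_mul, map_mul,
    (q_comm (cm_mem ha (j := 0) trivial le_rfl) (j := 0) (y := b⁻¹) trivial le_rfl).eq, map_inv, mul_inv_cancel_left]

omit [Finite G] in
theorem cm_pow {k : ℕ} {a : G} (ha : a ∈ L G k) (b : G) (i j : ℕ) : QuotientGroup.mk' (L G (k + 2)) ⁅a ^ i, b ^ j⁆ =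
    QuotientGroup.mk' _ ⁅a, b⁆ ^ (i * j) := by
  have r : QuotientGroup.mk' (L G (k + 2)) ⁅a, b ^ j⁆ = QuotientGroup.mk' _ ⁅a, b⁆ ^ j := by
    induction j with
    | zero => simp only [pow_zero, commutatorElement_one_right, map_one]
    | succ j ih => rw [pow_succ, cm_mul_right ha, pow_succ, ih]
  induction i with
  | zero => simp only [pow_zero, commutatorElement_one_left, map_one, zero_mul]
  | succ i ih => rw [pow_succ', cm_mul_left (pow_mem ha i), ih, add_mul, one_mul, pow_add, r]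

omit [Finite G] in
theorem dl_pow (x y : G) (j k : ℕ) : QuotientGroup.mk' (L G (k + 1)) ((dl (x ^ j))^[k] y) =
    QuotientGroup.mk' _ ((dl x)^[k] y) ^ j ^ k := by
  induction k with
  | zero => simp only [Function.iterate_zero, id, pow_zero, pow_one]
  | succ k ih =>
    have v : (dl x)^[k] y ∈ L G k := by simpa using dl_iter (i := 0) x (mem_top y) k
    rw [← map_pow, eq_comm, QuotientGroup.mk'_eq_mk'] at ih
    obtain ⟨r, r1, r2⟩ := ih
    rw [Function.iterate_succ_apply', Function.iterate_succ_apply', ← r2, dl_eq, dl_eq, mul_inv_rev, ← inv_pow,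
      cm_mul_left (pow_mem (inv_mem v) _), cm_pow (inv_mem v), q_eq_one.2 (cm_mem (inv_mem r1) (j := 0) trivial le_rfl),
      mul_one, pow_succ]

theorem engel (hG : IsPGroup p G) (he : ∀ x : G, x ^ p = 1) (hb : L G p = ⊥) (x y : G) : (dl x)^[p - 1] y = 1 := by
  have h := ns_lcs hG
  have p2 := hp.out.two_le
  let P : ℕ → Subgroup (ℕ → G) := fun b =>
    { carrier := {f | Pol (fun i => L G (i - 1)) b f}, mul_mem' := h.mul, one_mem' := (pol_one : Pol (fun i => L G (i - 1)) b 1),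
      inv_mem' := h.inv }
  have cst : ∀ b, ∀ c ∈ L G (b - 1), (fun _ => c) ∈ P b := fun b c hc => by
    show Pol (fun i => L G (i - 1)) b fun _ => c
    simpa using pol_choose h.anti (c := c) 0 b hc
  let X : ℕ → G := fun m => x ^ (m + 1)
  have hX : X ∈ P 0 := by
    have := mul_mem (cst 0 x trivial) (show _ ∈ P 0 from pol_choose h.anti (c := x) 1 0 trivial)
    convert this using 1
    exact funext fun m => by simp [X, pow_succ']
  have d : ∀ k, (dl X)^[k] (fun _ => y) ∈ P 1 := fun k => by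
    induction k with
    | zero => exact cst 1 y trivial
    | succ k ih => rw [Function.iterate_succ_apply', dl_eq]; exact h.cm (h.inv ih) hX le_rfl
  have g : ∀ m : ℕ, ((fun _ => y) * X) ^ m * (X ^ m)⁻¹ ∈ P 1 := fun m => by
    induction m with
    | zero => simp
    | succ m ih =>
      have := mul_mem ih (mul_mem (show _ ∈ P 1 from h.cm (pow_mem hX m) (d 0) le_rfl) (d 0))
      convert this using 1
      simp [commutatorElement_def, pow_succ, mul_assoc]
  haveI : ((P 2).subgroupOf (P 1)).Normal := Normal.of_commutator_le _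
    (Subgroup.commutator_le.2 fun a _ b _ => h.cm a.2 b.2 le_rfl)
  letI : CommGroup (P 1 ⧸ (P 2).subgroupOf (P 1)) := { (inferInstance : Group _) with
    mul_comm := fun a b => by
      obtain ⟨a, rfl⟩ := QuotientGroup.mk'_surjective _ a
      obtain ⟨b, rfl⟩ := QuotientGroup.mk'_surjective _ b
      rw [← commutatorElement_eq_one_iff_mul_comm, ← map_commutatorElement, q_eq_one]
      exact h.cm a.2 b.2 le_rfl }
  have e1 : ∀ f : ℕ → G, f ^ p = 1 := fun f => funext fun n => he _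
  have k := newton_p (p := p) (fun c => by
    obtain ⟨a, rfl⟩ := QuotientGroup.mk'_surjective _ c
    rw [← map_pow, show a ^ p = 1 from Subtype.ext (e1 _), map_one])
    (QuotientGroup.mk' ((P 2).subgroupOf (P 1)) ∘ fun m => ⟨_, g m⟩)
  rw [map_dlt] at k
  simp only [Function.comp, e1, pow_zero, inv_one, mul_one] at k
  rw [show (⟨1, _⟩ : P 1) = 1 from rfl, map_one, one_mul, eq_comm, q_eq_one, mem_subgroupOf] at k
  have k2 := congrFun (map_dlt (P 1).subtype (fun m => ⟨_, g m⟩) p) 0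
  rw [Function.comp_apply, coe_subtype] at k2
  rw [← k2, show p = p - 1 + 1 by omega] at k
  erw [dlt_iter] at k
  simp only [pow_zero, inv_one, mul_one, one_mul] at k
  have c1 : (dl x)^[p - 1] y ∈ L G (p - 1) := by simpa using dl_iter (i := 0) x (mem_top y) (p - 1)
  have ev : ∀ m, (dl X)^[p - 1] (fun _ => y) m = (dl x)^[p - 1] y ^ (m + 1) ^ (p - 1) := fun m => by
    have := dl_pow x y (m + 1) (p - 1)
    rw [← map_pow, QuotientGroup.mk'_eq_mk', show p - 1 + 1 = p by omega, hb] at this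
    obtain ⟨r, r1, r2⟩ := this
    rw [← r2, mem_bot.1 r1, mul_one]
    exact map_dl (Pi.evalMonoidHom (fun _ => G) m) _ _ _
  have := Pol.mem (p - 1) (Γ := fun i => L G (i - 1)) (i := 2) (f := (dl X)^[p - 1] (fun _ => y) * fun _ => ((dl x)^[p - 1] y)⁻¹)
      (mul_mem k (cst 2 _ (inv_mem (L_le (by omega) c1)))) fun m hm => by
    have := Nat.ModEq.pow_totient (Nat.coprime_of_lt_prime m.succ_ne_zero (show m + 1 < p by omega) hp.out).symm
    rw [Nat.totient_prime hp.out] at this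
    rw [Pi.mul_apply, ev, pow_eq_pow_of_modEq this (he _), pow_one, mul_inv_cancel]
  rw [Pi.mul_apply, ev, show p - 1 + 1 = p by omega, show 2 + (p - 1) - 1 = p by omega, hb, show p - 1 = p - 2 + 1 by omega,
    pow_succ' p, pow_mul, he, one_pow, one_mul, mem_bot, inv_eq_one] at this
  rwa [show p - 1 = p - 2 + 1 by omega]

theorem MX.exists_pow (h : MX p n G) (hn : p + 1 ≤ n) : ∃ y : G, y ^ p ∉ L G p := by
  by_contra! c
  obtain ⟨s, hs⟩ := h.exists_adv
  have p2 := hp.out.two_le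
  obtain ⟨y, hy⟩ := not_forall.1 (mt mem_Cn.2 (hs 0 (by omega)))
  have := h.iter hs (by omega) le_rfl (dl_mem (i := 0) s trivial) (fun a => hy fun _ => a) (p - 2) (by omega)
  rw [← Function.iterate_succ_apply, show 1 + (p - 2) + 1 = p by omega, show (p - 2).succ = p - 1 by omega, ← q_eq_one,
    map_dl] at this
  refine this (engel (h.pg.to_quotient _) (fun x => ?_) ?_ _ _)
  · obtain ⟨a, rfl⟩ := QuotientGroup.mk'_surjective _ x
    rw [← map_pow, q_eq_one]; exact c a
  · change Subgroup.lowerCentralSeries ⊤ p = ⊥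
    rw [← map_top_of_surjective _ (QuotientGroup.mk'_surjective _), ← map_lowerCentralSeries, Subgroup.map_eq_bot_iff,
      QuotientGroup.ker_mk']

theorem MX.L_le_of (h : MX p n G) {K : Subgroup G} [K.Normal] (t : ℕ) : ∀ j, n ≤ j + t → 1 ≤ j →
    ∀ w ∈ K, w ∈ L G j → w ∉ L G (j + 1) → L G j ≤ K := by
  obtain ⟨s, hs⟩ := h.exists_adv
  induction t with
  | zero => exact fun j a _ _ _ _ _ => (h.bot_iff.2 (by omega)).trans_le bot_le
  | succ t ih =>
    intro j a b w w1 w2 w3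
    by_cases c : j + 2 ≤ n
    swap
    · exact (h.bot_iff.2 (by omega)).trans_le bot_le
    rw [← sup_zpowers_eq_of_relIndex_prime (h.ridx b c) (L_le j.le_succ) w2 w3]
    refine sup_le ?_ (zpowers_le.2 w1)
    by_cases d : j + 3 ≤ n
    swap
    · exact (h.bot_iff.2 (by omega)).trans_le bot_le
    exact ih (j + 1) (by omega) (by omega) _ (mul_mem (inv_mem w1) (Normal.conj_mem inferInstance _ w1 s)) (dl_mem s w2)
      fun e => w3 (h.adv (hs j (by omega)) b c w2 e)

theorem MX.pc_top (h : MX p n G) : Nat.card (⊤ : Subgroup G) ≤ Nat.card (powerClosure p 1 (⊤ : Subgroup G)) * p ^ p := by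
  by_cases hn : p + 1 ≤ n
  swap
  · rw [Subgroup.card_top, h.card]
    exact (Nat.pow_le_pow_right hp.out.pos (by omega)).trans (Nat.le_mul_of_pos_left _ Nat.card_pos)
  have p2 := hp.out.two_le
  obtain ⟨y, hy⟩ := h.exists_pow hn
  classical
  have ex : ∃ j, y ^ p ∉ L G (j + 1) := ⟨p - 1, by rwa [show p - 1 + 1 = p by omega]⟩
  have j1 := Nat.find_spec ex
  have j2 : Nat.find ex ≤ p - 1 := Nat.find_min' ex (by rwa [show p - 1 + 1 = p by omega])
  have j3 : 1 ≤ Nat.find ex := Nat.one_le_iff_ne_zero.2 fun e => j1 (e ▸ h.pow_L1 y)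
  have j4 : y ^ p ∈ L G (Nat.find ex) := by
    have := Nat.find_min ex (m := Nat.find ex - 1) (by omega)
    rwa [not_not, Nat.sub_add_cancel j3] at this
  generalize Nat.find ex = j at *
  have := card_le_of_le (h.L_le_of (K := powerClosure p 1 ⊤) n j (by omega) j3 _ (pc_mem trivial) j4 j1)
  rw [h.card_L j3 (by omega)] at this
  rw [Subgroup.card_top, h.card]
  refine le_trans ?_ (Nat.mul_le_mul_right _ this)
  rw [← pow_add]
  exact Nat.pow_le_pow_right hp.out.pos (by omega)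

theorem s4144 (hn : 2 ≤ n) (hc : Nat.card G = p ^ n) (hm : Group.nilpotencyClass G = n - 1) (H : Subgroup G) :
    (closure {y : G | ∃ h ∈ H, y = h ^ p}).relIndex H ≤ p ^ p := by
  have e : closure {y : G | ∃ h ∈ H, y = h ^ p} = powerClosure p 1 H := by simp [powerClosure]
  have k : Nat.card H ≤ Nat.card (powerClosure p 1 H) * p ^ p := by
    obtain rfl | h3 := hn.eq_or_lt
    · exact ((card_le_card_group H).trans (hc.le.trans (Nat.pow_le_pow_right hp.out.pos hp.out.two_le))).trans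
        (Nat.le_mul_of_pos_left _ Nat.card_pos)
    have h : MX p n G := ⟨hc, hm, h3⟩
    by_cases c : H = ⊤
    · exact c ▸ h.pc_top
    · exact h.pc_ne H c
  rw [e]
  have := ((powerClosure p 1 H).subgroupOf H).card_mul_index
  rw [Nat.card_congr (subgroupOfEquivOfLe (powerClosure_le H)).toEquiv] at this
  exact Nat.le_of_mul_le_mul_left (this.trans_le k) Nat.card_pos

end CfsgMC

namespace CfsgFS

open Subgroup Cfsg Cfsg.FusionSystem CfsgH9 CfsgMC

universe u
variable {Ω : Type u} [Group Ω] {S : Subgroup Ω} {F : FusionSystem S} {E Y : Subgroup Ω} {p : ℕ} [Finite S] [hp : Fact p.Prime]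

theorem Sat.ess_of_move (hF : Sat F p) (nY : S ≤ NN(Y)) (hab : Y ≤ CC(Y)) (hco : ∀ Q, CI(S, Y) < Q → Q ≤ S → Q = S)
    {f : Ω → Ω} (hf : Iso F Y Y f) {z : Ω} (z1 : z ∈ Y) (z2 : z ∈ CI(S, S)) (z3 : f z ∉ CI(S, S)) :
    F.IsEssential p CI(S, Y) := by
  have hY := hf.1.le
  have yM : Y ≤ CI(S, Y) := le_inf hY hab
  obtain ⟨g, g1, g2⟩ := Iso.extend_C hf (hF.rc' (fn_of_normal hY nY))
  have g3 := g1.restrict (le_sup_right : CI(S, Y) ≤ _)
  obtain ⟨α, a1, a2⟩ := Iso.exists_aut ⟨g3, g3.im_eq_self fun x hx => by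
    have := mem_CI_of_mor g3 yM hx hx.2
    rwa [im_congr g2, hf.2] at this⟩
  refine (hF.ess_iff (lt_of_le_of_ne inf_le_left fun e => z3 ⟨hY (hf.2.le (mem_im_of_mem f z1)), fun s hs =>
    ((e.ge hs).2 _ (hf.2.le (mem_im_of_mem f z1))).symm⟩) (fn_of_normal inf_le_left
      (CfsgH2.le_normalizer_inf' le_normalizer (CfsgH2.le_normalizer_centralizer' nY)))).2 fun e => z3 ?_
  have k : extA F CI(S, Y) ≤ Stb _ CI(S, S) := by
    rw [extA, closure_le]
    rintro β ⟨Q, q1, k, q2, q3⟩ x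
    obtain rfl := hco Q q1 q2.le
    have m : ∀ x ∈ CI(Q, Q), k x ∈ CI(Q, Q) := fun x hx => by
      have := mem_CI_of_mor q2 le_rfl hx.1 hx.2
      rwa [q2.im_eq_self fun x => q2.mem] at this
    by_cases c : x ∈ CI(Q, Y)
    swap
    · rw [ap_of_not_mem _ c]
    rw [← q3 x c]
    refine ⟨m x, fun d => ?_⟩
    have r := q2.restrict (inf_le_left : CI(Q, Q) ≤ Q)
    obtain ⟨y, y1, y2⟩ := r.mem_im.1 ((Mor.im_eq_self (P := CI(Q, Q)) r m).ge d)
    exact q2.inj y1.1 c.1 y2 ▸ y1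
  rw [← g2 z z1, ← a2 z (yM z1)]
  exact (k (e.ge a1) z).1 z2

theorem Sat.s5270 (hF : Sat F p) {n : ℕ} (hn : Nat.card S = p ^ n) (h4 : 4 ≤ n) (hmax : S.lowerCentralSeries (n - 2) ≠ ⊥)
    (φ : (Z₂(S).map S.subtype) →* Ω) (hφ : φ ∈ F.Hom _) (hφZ : φ.range = Z₂(S).map S.subtype)
    (hmove : ∃ (z : Ω) (hz : z ∈ Z₂(S).map S.subtype), z ∈ (center S).map S.subtype ∧
      φ ⟨z, hz⟩ ∉ (center S).map S.subtype) : F.IsEssential p (S ⊓ CC(Z₂(S).map S.subtype)) := by
  have m := mx_sub hn (by omega) hmax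
  obtain ⟨z, z1, z2, z3⟩ := hmove
  have e : (center S).map S.subtype = CI(S, S) := le_antisymm (by rintro _ ⟨x, hx, rfl⟩; exact (mem_zc x.2).2 hx)
    fun x hx => ⟨⟨x, hx.1⟩, (mem_zc hx.1).1 hx, rfl⟩
  have c : ∀ x ∈ Cn S (n - 3), (x : Ω) ∈ CC(Z₂(S).map S.subtype) := by
    rintro x hx _ ⟨y, hy, rfl⟩
    exact congrArg Subtype.val (m.Cn_le_cent hx y (m.z2_le h4 hy))
  refine hF.ess_of_move (fun s hs => (normal_subgroupOf_iff_le_normalizer (map_subtype_le _)).1 ?_ hs) ?_ (fun Q q1 q2 => ?_)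
    ⟨mor_ext hφ, (im_ext φ).trans hφZ⟩ z1 (e ▸ z2) (by rwa [ext_of_mem _ z1, ← e])
  · rw [subgroupOf, comap_map_eq_self_of_injective S.subtype_injective]; infer_instance
  · rintro _ ⟨x, hx, rfl⟩
    exact c x (L1_le_Cn _ (L_le (by omega) (m.z2_le h4 hx)))
  · obtain ⟨x, x1, x2⟩ := SetLike.exists_of_lt q1
    refine le_antisymm q2 (subgroupOf_eq_top.1 ((CfsgH2.isCoatom_of_index_prime
      (m.idx_Cn (i := n - 3) (by omega) (by omega))).2 _ (lt_of_le_of_ne (fun y hy => q1.le ⟨y.2, c y hy⟩) fun k =>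
        x2 ⟨q2 x1, c ⟨x, q2 x1⟩ (k.ge x1)⟩)))

end CfsgFS
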