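import Cfsg.Agent.Lead.Sm14
import Cfsg.Agent.H9.Rk2
import Cfsg.Agent.H2.Meta

/-! Blackburn's classification of `p`-groups of rank two, `p` odd. -/

set_option autoImplicit false
set_option linter.unusedSectionVars false

namespace CfsgMC
open Subgroup Cfsg CfsgH2
open scoped commutatorElement

universe u

local notation "CC(" H ")" => Subgroup.centralizer (SetLike.coe H)

def PC (p : ℕ) (X : Type*) [Group X] : Prop := p ≠ 2 ∧ IsPGroup p X ∧ ∀ x : X, x ^ p = 1 → x ∈ center X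

section
variable {X : Type*} [Group X] [Finite X] {p : ℕ} [hp : Fact p.Prime] {W : Subgroup X}

theorem PC.c (h : PC p X) : ∀ x ∈ (⊤ : Subgroup X), x ^ p = 1 → x ∈ CC((⊤ : Subgroup X)) :=
  fun x _ e y _ => mem_center_iff.1 (h.2.2 x e) y

theorem PC.mul (h : PC p X) (x : X) {y : X} (e : (y ^ p) ^ p = 1) : (x * y) ^ p = x ^ p * y ^ p :=
  CfsgH9.pc_mul h.1 (h.2.1.to_subgroup ⊤) h.c trivial trivial e

theorem PC.comm (h : PC p X) {x : X} (y : X) (e : (x ^ p) ^ p = 1) : ⁅x, y⁆ ^ p = 1 :=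
  CfsgH9.pc_comm h.1 ⊤ (h.2.1.to_subgroup ⊤) h.c x trivial y trivial e

theorem PC.om (h : PC p X) : ∃ W : Subgroup X, W.Normal ∧ ∀ x, x ∈ W ↔ x ^ p = 1 :=
  ⟨{ carrier := {x | x ^ p = 1}, one_mem' := one_pow p, inv_mem' := fun a => by simpa using a
     mul_mem' := fun {a b} c d => by rw [Set.mem_setOf_eq, h.mul a (by rw [d, one_pow]), c, d, one_mul] },
    ⟨fun x a g => by simpa [conj_pow] using a⟩, fun _ => Iff.rfl⟩

theorem q_pow [W.Normal] (hW : ∀ x, x ∈ W ↔ x ^ p = 1) (x : X) : QuotientGroup.mk' W x ^ p = 1 ↔ (x ^ p) ^ p = 1 := by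
  rw [← map_pow, q_eq_one, hW]

theorem PC.quot (h : PC p X) [W.Normal] (hW : ∀ x, x ∈ W ↔ x ^ p = 1) : PC p (X ⧸ W) :=
  ⟨h.1, h.2.1.to_quotient W, fun x e => mem_center_iff.2 fun y => by
    obtain ⟨x, rfl⟩ := QuotientGroup.mk'_surjective _ x
    obtain ⟨y, rfl⟩ := QuotientGroup.mk'_surjective _ y
    rw [eq_comm, ← commutatorElement_eq_one_iff_mul_comm, ← map_commutatorElement, q_eq_one, hW]
    exact h.comm y ((q_pow hW x).1 e)⟩

theorem pc_fib (n : ℕ) : ∀ (X : Type u) [Group X] [Finite X], Nat.card X = n → PC p X →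
    ∀ x y : X, x ^ p = y ^ p → (x⁻¹ * y) ^ p = 1 := by
  induction n using Nat.strong_induction_on with
  | _ n ih =>
  intro X _ _ hn h x y e
  obtain ⟨W, nW, hW⟩ := h.om
  by_cases c : W = ⊥
  · obtain ⟨k, hk⟩ := h.2.1 (x⁻¹ * y)
    by_contra a
    obtain ⟨j, k1, k2⟩ := exists_pow_not_mem (M := ⊥) (x := x⁻¹ * y) (fun b => a (by rw [mem_bot.1 b, one_pow])) (k := k) hk
    exact k1 (c ▸ (hW _).2 k2)
  have := ih _ (hn ▸ CfsgH1.card_quotient_lt c) _ rfl (h.quot hW) (QuotientGroup.mk' W x) (QuotientGroup.mk' W y)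
    (by rw [← map_pow, e, map_pow])
  rw [← map_inv, ← map_mul, q_pow hW] at this
  have k := h.mul x this
  rwa [mul_inv_cancel_left, ← e, left_eq_mul] at k

theorem PC.fib (h : PC p X) {x y : X} (e : x ^ p = y ^ p) : (x⁻¹ * y) ^ p = 1 := pc_fib _ X rfl h x y e

theorem PC.card_le (h : PC p X) (hW : ∀ x, x ∈ W ↔ x ^ p = 1) :
    Nat.card X ≤ Nat.card (powerClosure p 1 (⊤ : Subgroup X)) * Nat.card W := by
  rw [card_eq_card_quotient_mul_card_subgroup W]
  refine Nat.mul_le_mul_right _ (Nat.card_le_card_of_injective (fun q => ⟨q.out ^ p, pc_mem trivial⟩) fun a b e => ?_)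
  rw [← a.out_eq, ← b.out_eq]
  exact QuotientGroup.eq.2 ((hW _).2 (h.fib (congrArg Subtype.val e)))

theorem PC.cyc (h : PC p X) (hW : ∀ x, x ∈ W ↔ x ^ p = 1) {Z : Subgroup X} (hZ : Nat.card Z ≤ p)
    (k : ∀ x : X, (x ^ p) ^ p = 1 → x ^ p ∈ Z) : ∃ z, W ⊔ zpowers z = ⊤ := by
  haveI : W.Normal := ⟨fun x a g => by simpa [hW, conj_pow] using a⟩
  obtain ⟨V, -, hV⟩ := (h.quot hW).om
  refine isCyclic_quotient_iff.1 (isCyclic_top_iff.1 (isCyclic_of_omegaOne h.1 ((h.quot hW).2.1.to_subgroup ⊤)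
    ((card_le_of_le (omegaOne_le_iff.2 fun x _ e => (hV x).2 e)).trans (le_trans ?_ hZ))))
  refine Nat.card_le_card_of_injective (fun q => ⟨q.1.out ^ p, k _ ((q_pow hW _).1 (by
    rw [← (hV _).1 q.2]; exact congrArg (· ^ p) q.1.out_eq))⟩) fun a b e => Subtype.ext ?_
  rw [← a.1.out_eq, ← b.1.out_eq]
  exact QuotientGroup.eq.2 ((hW _).2 (h.fib (congrArg Subtype.val e)))

theorem newton_p' {C : Type*} [CommGroup C] (f : ℕ → C) (he : ∀ k, 2 ≤ k → k < p → dlt^[k] f 0 ^ p = 1) :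
    f p = f 0 * dlt f 0 ^ p * dlt^[p] f 0 := by
  obtain ⟨q, hq⟩ : ∃ q, p = q + 1 + 1 := ⟨p - 2, by have := hp.out.two_le; omega⟩
  rw [newton p f, Finset.prod_range_succ]
  nth_rw 1 [hq]
  rw [Finset.prod_range_succ', Finset.prod_range_succ', Finset.prod_eq_one fun k hk => by
    obtain ⟨l, hl⟩ := hp.out.dvd_choose_self (k := k + 1 + 1) (by omega) (by have := Finset.mem_range.1 hk; omega)
    rw [hl, pow_mul, he _ (by omega) (by have := Finset.mem_range.1 hk; omega), one_pow]]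
  simp [mul_comm]

end

variable {G : Type*} [Group G] [Finite G] {p n : ℕ} [hp : Fact p.Prime] {W : Subgroup G} {x y z t w g : G}

structure RK (p n : ℕ) (W : Subgroup G) : Prop where
  p2 : p ≠ 2
  card : Nat.card G = p ^ n
  nW : W.Normal
  cW : Nat.card W = p ^ 2
  mem : ∀ t, t ∈ W ↔ t ∈ CC(W) ∧ t ^ p = 1
  idx : CC(W).index = p
  pw : powerClosure p 1 ⊤ = powerClosure p 1 CC(W)
  cU : Nat.card CC(W) = Nat.card (powerClosure p 1 CC(W)) * p ^ 2

theorem pc_of (hp2 : p ≠ 2) (hG : IsPGroup p G) (h : ∀ t, t ∈ W ↔ t ∈ CC(W) ∧ t ^ p = 1) :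
    PC p CC(W) ∧ ∀ t : CC(W), t ∈ W.subgroupOf CC(W) ↔ t ^ p = 1 :=
  ⟨⟨hp2, hG.to_subgroup _, fun x e => mem_center_iff.2 fun y =>
    Subtype.ext (y.2 x ((h _).2 ⟨x.2, congrArg Subtype.val e⟩)).symm⟩,
    fun t => (h t).trans ⟨fun a => Subtype.ext a.2, fun a => ⟨t.2, congrArg Subtype.val a⟩⟩⟩

theorem exists_rk (hp2 : p ≠ 2) (hG : Nat.card G = p ^ n) (hr : PRankLE p 2 G) (hm : ¬ IsMetacyclic G) :
    ∃ W : Subgroup G, RK p n W := by
  have pg := IsPGroup.of_card hG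
  obtain ⟨W, -, w1, w2, w3⟩ := exists_normal_elem_two hp2 (pg.to_subgroup ⊤) le_rfl (by rw [normalizer_eq_top])
    fun c => hm ⟨⊤, inferInstance, c, by haveI := QuotientGroup.subsingleton_quotient_top (G := G); infer_instance⟩
  haveI nW : W.Normal := normalizer_eq_top_iff.1 (top_le_iff.1 w1)
  have wT := isMulCommutative_iff_le_centralizer.1 w2.1
  have mem : ∀ t, t ∈ W ↔ t ∈ CC(W) ∧ t ^ p = 1 := fun t => ⟨fun a => ⟨wT a, w2.2 t a⟩, fun ⟨a, b⟩ => by
    by_contra c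
    have n := centralizer_le_normalizer _ a
    have := hr (W ⊔ zpowers t) (isMulCommutative_sup_zpowers w2.1 a) fun y hy => by
      obtain ⟨m, m1, k, rfl⟩ := (mem_sup_zpowers n).1 hy
      rw [((show Commute m t from a m m1).zpow_right k).mul_pow, w2.2 m m1, ← zpow_natCast, ← zpow_mul, mul_comm k,
        zpow_mul, zpow_natCast, b, one_zpow, one_mul]
    rw [card_sup_zpowers n c (b ▸ one_mem _), w3] at this
    have := hp.out.one_lt
    have := pow_pos hp.out.pos 2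
    nlinarith⟩
  obtain ⟨pc, hW⟩ := pc_of hp2 pg mem
  have a := pc.card_le hW
  rw [Nat.card_congr (subgroupOfEquivOfLe wT).toEquiv, w3, ← card_map_of_injective (subtype_injective _), map_powerClosure,
    ← MonoidHom.range_eq_map, range_subtype] at a
  have b := (relIndex_top_right _).symm.trans_le (CfsgFT.relIndex_cent_le (pg.to_subgroup ⊤) w1 w3)
  have c : p ^ 3 ≤ (powerClosure p 1 (⊤ : Subgroup G)).index := by
    obtain ⟨k, hk⟩ := pg.index (powerClosure p 1 (⊤ : Subgroup G))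
    have := mt (isMetacyclic_of_index hp2 _ rfl pg) hm
    rw [hk, Nat.pow_le_pow_iff_right hp.out.one_lt] at this ⊢
    omega
  have d : powerClosure p 1 CC(W) ≤ powerClosure p 1 ⊤ := powerClosure_le_iff.2 fun _ _ => pow_mem_powerClosure trivial
  have d' := card_le_of_le d
  have e1 := (powerClosure p 1 (⊤ : Subgroup G)).card_mul_index
  have e2 := CC(W).card_mul_index
  have q : 0 < Nat.card (powerClosure p 1 CC(W)) := Nat.card_pos
  have q2 := pow_pos hp.out.pos 2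
  have p0 := hp.out.pos
  have f : Nat.card (powerClosure p 1 (⊤ : Subgroup G)) * p ^ 3 ≤ Nat.card CC(W) * CC(W).index :=
    (Nat.mul_le_mul_left _ c).trans_eq (e1.trans e2.symm)
  rw [pow_succ, ← mul_assoc] at f
  have f1 := (Nat.mul_le_mul_right p (Nat.mul_le_mul_right _ d')).trans f
  refine ⟨W, hp2, hG, nW, w3, mem, le_antisymm b (Nat.le_of_mul_le_mul_left (f1.trans (Nat.mul_le_mul_right _ a))
    (Nat.mul_pos q q2)), (eq_of_le_of_card_le d (Nat.le_of_mul_le_mul_right (Nat.le_of_mul_le_mul_right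
      (f.trans (Nat.mul_le_mul a b)) p0) q2)).symm, le_antisymm a (Nat.le_of_mul_le_mul_right
        (f1.trans (Nat.mul_le_mul_left _ b)) p0)⟩

theorem dl_eq_one : dl g w = 1 ↔ Commute g w := by
  rw [dl, inv_mul_eq_one, eq_mul_inv_iff_mul_eq]; exact ⟨fun h => h.symm, fun h => h.symm⟩

theorem dl_mem_of {A B : Subgroup G} (h : ⁅A, ⊤⁆ ≤ B) (g : G) (hw : w ∈ A) : dl g w ∈ B :=
  dl_eq g w ▸ h (commutator_mem_commutator (inv_mem hw) trivial)

theorem conj_dl (g w : G) : g * w * g⁻¹ = w * dl g w := by simp [dl]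

theorem dl_mul {T : Subgroup G} [T.Normal] (ab : T ≤ CC(T)) (g : G) (hx : x ∈ T) (hy : y ∈ T) :
    dl g (x * y) = dl g x * dl g y := by
  have c := ab (inv_mem hy) _ (dl_mem_of (commutator_le_left T ⊤) g hx)
  calc dl g (x * y) = y⁻¹ * dl g x * (g * y * g⁻¹) := by simp [dl, mul_assoc]
    _ = _ := by rw [← c, mul_assoc]; rfl

theorem dl_zpow {T : Subgroup G} [T.Normal] (ab : T ≤ CC(T)) (g : G) (hx : x ∈ T) (k : ℤ) : dl g (x ^ k) = dl g x ^ k := by
  rw [dl, ← conj_zpow, conj_dl, (show Commute x _ from ab (dl_mem_of (commutator_le_left T ⊤) g hx) x hx).mul_zpow,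
    inv_mul_cancel_left]

def F1 (p n : ℕ) (G : Type*) [Group G] : Prop := 3 ≤ n ∧ ∃ x y z : G, closure ({x, y, z} : Set G) = ⊤ ∧ x ^ p = 1 ∧
  y ^ p = 1 ∧ z ^ p ^ (n - 2) = 1 ∧ x * z = z * x ∧ y * z = z * y ∧ x⁻¹ * y * x = y * z ^ p ^ (n - 3)

def F2 (p n : ℕ) (G : Type*) [Group G] : Prop := 4 ≤ n ∧ ∃ (s : ℕ) (x y z : G), (s = 1 ∨ ¬ IsSquare (s : ZMod p)) ∧
  closure ({x, y, z} : Set G) = ⊤ ∧ x ^ p = 1 ∧ y ^ p = 1 ∧ z ^ p ^ (n - 2) = 1 ∧ y * z = z * y ∧
    x⁻¹ * y * x = y * z ^ (s * p ^ (n - 3)) ∧ x⁻¹ * z * x = y * z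

def F3 (p n : ℕ) (G : Type*) [Group G] : Prop := p = 3 ∧ 2 ≤ n ∧ L G (n - 2) ≠ ⊥

namespace RK
variable (h : RK p n W)
include h

theorem pg : IsPGroup p G := IsPGroup.of_card h.card

theorem wT : W ≤ CC(W) := fun _ a => ((h.mem _).1 a).1

theorem wp (hw : w ∈ W) : w ^ p = 1 := ((h.mem _).1 hw).2

theorem nT : CC(W).Normal := by haveI := h.nW; infer_instance

theorem sup (hx : x ∉ CC(W)) : CC(W) ⊔ zpowers x = ⊤ :=
  sup_zpowers_eq_of_relIndex_prime ((relIndex_top_right _).trans h.idx) le_top trivial hx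

theorem ex : ∃ x, x ∉ CC(W) := not_forall.1 fun c => hp.out.one_lt.ne (((index_eq_one.2 ((eq_top_iff' _).2 c)).symm.trans h.idx))

theorem cen (hx : x ∉ CC(W)) (ht : t ∈ CC(CC(W))) (c : Commute x t) : t ∈ center G := mem_center_iff.2 fun g =>
  mem_centralizer_singleton_iff.1 ((h.sup hx).ge.trans (sup_le (fun y hy => mem_centralizer_singleton_iff.2 (ht y hy))
    (zpowers_le.2 (mem_centralizer_singleton_iff.2 c))) (mem_top g))

theorem memZ (hx : x ∉ CC(W)) (hw : w ∈ W) (c : Commute x w) : w ∈ W ⊓ center G :=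
  ⟨hw, h.cen hx (fun y hy => (hy w hw).symm) c⟩

theorem ltZ : W ⊓ center G < W := lt_of_le_of_ne inf_le_left fun e => by
  obtain ⟨x, hx⟩ := h.ex
  exact hx fun w hw => (mem_center_iff.1 (e.ge hw).2 x).symm

theorem cZ : Nat.card (W ⊓ center G : Subgroup G) = p := by
  haveI := h.nW
  have a := mul_card_le_of_lt (h.pg.to_subgroup W) h.ltZ
  rw [h.cW, sq] at a
  obtain ⟨w, w1, w2, -, w3⟩ := exists_central_of_ne_bot (h.pg.to_subgroup ⊤) (N := W) le_top (by rw [normalizer_eq_top])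
    fun e => not_lt_bot (e ▸ h.ltZ)
  have b := mul_card_le_of_lt (h.pg.to_subgroup (W ⊓ center G)) (bot_lt_iff_ne_bot.2 fun e =>
    w2 (mem_bot.1 (e.le ⟨w1, mem_center_iff.2 fun g => w3 g trivial⟩)))
  rw [card_bot, one_mul] at b
  exact le_antisymm (Nat.le_of_mul_le_mul_right a hp.out.pos) b

theorem zpZ (hw : w ∈ W ⊓ center G) (h1 : w ≠ 1) : zpowers w = W ⊓ center G :=
  CfsgFT.eq_zpowers_of_card_prime (h.cZ.symm ▸ hp.out) hw h1

theorem cmW : ⁅W, ⊤⁆ ≤ W ⊓ center G := by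
  haveI := h.nW
  exact commutator_le_of_card_succ (h.pg.to_subgroup ⊤) le_top (by rw [normalizer_eq_top]) (by rw [normalizer_eq_top])
    inf_le_left (by rw [h.cW, h.cZ, sq])

theorem supZ (hw : w ∈ W) (h1 : w ∉ W ⊓ center G) : W ⊓ center G ⊔ zpowers w = W :=
  sup_zpowers_eq_of_relIndex_prime (relIndex_eq_of_card inf_le_left (by rw [h.cW, h.cZ, sq])) inf_le_left hw h1

theorem onto (hx : x ∉ CC(W)) (hz : z ∈ W ⊓ center G) : ∃ w ∈ W, dl x w = z := by
  haveI := h.nW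
  obtain ⟨w, w1, w2⟩ := SetLike.exists_of_lt h.ltZ
  obtain ⟨k, hk⟩ := (h.zpZ (dl_mem_of h.cmW x w1) fun e => w2 (h.memZ hx w1 (dl_eq_one.1 e))).ge hz
  exact ⟨w ^ k, zpow_mem w1 k, (dl_zpow h.wT x w1 k).trans hk⟩

theorem cT : Nat.card CC(W) * p = p ^ n := by rw [← h.card, ← CC(W).card_mul_index, h.idx]

theorem fib (hx : x ∈ CC(W)) (hy : y ∈ CC(W)) (e : x ^ p = y ^ p) : x⁻¹ * y ∈ W :=
  (h.mem _).2 ⟨mul_mem (inv_mem hx) hy, congrArg Subtype.val ((pc_of h.p2 h.pg h.mem).1.fib (x := ⟨x, hx⟩) (y := ⟨y, hy⟩)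
    (Subtype.ext e))⟩

theorem mul (hx : x ∈ CC(W)) (hy : y ∈ CC(W)) (e : (y ^ p) ^ p = 1) : (x * y) ^ p = x ^ p * y ^ p :=
  congrArg Subtype.val ((pc_of h.p2 h.pg h.mem).1.mul ⟨x, hx⟩ (y := ⟨y, hy⟩) (Subtype.ext e))

theorem comm (hx : x ∈ CC(W)) (hy : y ∈ CC(W)) (e : (x ^ p) ^ p = 1) : ⁅x, y⁆ ^ p = 1 :=
  congrArg Subtype.val ((pc_of h.p2 h.pg h.mem).1.comm (x := ⟨x, hx⟩) ⟨y, hy⟩ (Subtype.ext e))

theorem caseA {v : G} (v1 : v ∈ CC(W)) (v2 : (v ^ p) ^ p = 1) (v3 : v ^ p ∉ W ⊓ center G) (hr : PRankLE p 2 G) :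
    F3 p n G := by
  haveI := h.nW
  haveI := h.nT
  obtain ⟨x, hx⟩ := h.ex
  have vW : v ^ p ∈ W := (h.mem _).2 ⟨pow_mem v1 p, v2⟩
  have u1 : dl x v ∈ CC(W) := dl_mem_of (commutator_le_left _ _) x v1
  have u2 : dl x v ^ p = dl x (v ^ p) := by
    rw [dl, h.mul (inv_mem v1) (Normal.conj_mem inferInstance _ v1 x) (by rw [conj_pow, conj_pow, v2]; simp), conj_pow,
      inv_pow, dl]
  have u3 : dl x v ^ p ≠ 1 := fun e => v3 (h.memZ hx vW (dl_eq_one.1 (u2 ▸ e)))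
  have xv : Commute (x ^ p) v := by
    refine mem_centralizer_singleton_iff.1 ((powerClosure_le_iff (K := centralizer {v})).2 (fun t ht => ?_)
      (h.pw.le (pc_mem (mem_top x))))
    have := h.mul ht (y := ⁅v, t⁆) (commutator_le_left _ _ (commutator_mem_commutator v1 ht)) (by rw [h.comm v1 ht v2, one_pow])
    have c := ht _ ((h.mem _).2 ⟨commutator_le_left _ _ (commutator_mem_commutator v1 ht), h.comm v1 ht v2⟩)
    rw [h.comm v1 ht v2, mul_one, ← c, commutatorElement_def, inv_mul_cancel_right, conj_pow, mul_inv_eq_iff_eq_mul] at this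
    rw [pow_one]
    exact mem_centralizer_singleton_iff.2 this.symm
  have key : centralizer {x} ⊓ CC(W) ≤ W ⊓ center G := fun c ⟨c1, c2⟩ => by
    by_contra a
    obtain ⟨k, hk⟩ := h.pg c
    obtain ⟨j, j1, j2⟩ := exists_pow_not_mem a (k := k) (hk ▸ one_mem _)
    have b1 : Commute x (c ^ p ^ j) := (show Commute c x from mem_centralizer_singleton_iff.1 c1).symm.pow_right _
    have b2 : c ^ p ^ j ∈ CC(W) := pow_mem c2 (p ^ j)
    generalize c ^ p ^ j = r at *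
    obtain ⟨k, hk⟩ := (h.zpZ j2 fun e => j1 (h.memZ hx ((h.mem _).2 ⟨b2, e⟩) b1)).ge (u2 ▸ dl_mem_of h.cmW x vW)
    have w1 := h.fib (zpow_mem b2 k) u1 (by rw [← hk, ← zpow_natCast, ← zpow_mul, mul_comm, zpow_mul, zpow_natCast])
    have w2 := dl_mem_of h.cmW x w1
    refine u3 (alperin_aux (conj_dl x v) (b := dl x ((r ^ k)⁻¹ * dl x v)) ?_ (mem_center_iff.1 w2.2 x).symm
      (mem_center_iff.1 w2.2 _).symm (h.wp w2.1) xv fun e => (h.p2 e).elim)
    have := conj_dl x ((r ^ k)⁻¹ * dl x v)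
    rw [← mul_assoc x, (b1.zpow_right k).inv_right.eq] at this
    simpa only [mul_assoc, mul_right_inj] using this
  have c1 : Nat.card (centralizer ({x} : Set G)) ≤ p ^ 2 := by
    have := card_inf_le (p := p) (A := CC(W)) (B := centralizer {x}) (H := centralizer {x})
      ((relIndex_le_of_le_right le_top index_ne_zero_of_finite).trans ((relIndex_top_right _).trans_le h.idx.le))
    rw [inf_idem] at this
    exact this.trans ((Nat.mul_le_mul_right p ((card_le_of_le key).trans h.cZ.le)).trans_eq (sq p).symm)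
  have n5 : 5 ≤ n := by
    by_contra c
    refine u3 (h.wp (dl_mem_of (commutator_le_of_card_succ (h.pg.to_subgroup ⊤) le_top (by rw [normalizer_eq_top])
      (by rw [normalizer_eq_top]) h.wT (Nat.le_of_mul_le_mul_right ?_ hp.out.pos)) x v1))
    rw [h.cT, h.cW, ← pow_succ, ← pow_succ]
    exact Nat.pow_le_pow_right hp.out.pos (by omega)
  have m : MX p n G := ⟨h.card, class_of_centralizer' h.card (by omega) c1, by omega⟩
  refine ⟨?_, by omega, fun e => by have := m.bot_iff.1 e; omega⟩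
  by_contra c
  have p4 : 4 ≤ p := by have := hp.out.two_le; have := h.p2; omega
  have := hr (L G (n - 4)) (isMulCommutative_iff_le_centralizer.2 (commutator_eq_bot_iff_le_centralizer.1 (le_bot_iff.1
    ((m.der_L (by omega)).trans (m.bot_iff.2 (by omega)).le)))) fun a ha =>
      mem_bot.1 ((m.bot_iff.2 (by omega)).le (m.pow_lev (by omega) ha))
  rw [m.card_L (by omega) (by omega), Nat.pow_le_pow_iff_right hp.out.one_lt] at this
  omega

theorem gen (hx : x ∉ CC(W)) (hy : y ∈ W) (hy' : y ∉ W ⊓ center G) (hz : W ⊔ zpowers z = CC(W))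
    (hZ : W ⊓ center G ≤ zpowers z) : closure ({x, y, z} : Set G) = ⊤ := by
  have a : zpowers z ≤ closure ({x, y, z} : Set G) := zpowers_le.2 (subset_closure (by simp))
  exact top_le_iff.1 ((h.sup hx).ge.trans (sup_le (hz.ge.trans (sup_le ((h.supZ hy hy').ge.trans (sup_le (hZ.trans a)
    (zpowers_le.2 (subset_closure (by simp))))) a)) (zpowers_le.2 (subset_closure (by simp)))))

theorem fam1 (h3 : 3 ≤ n) (hx : x ∉ CC(W)) (xp : x ^ p = 1) (hz : W ⊔ zpowers z = CC(W)) (zc : z ∈ center G)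
    (z1 : z ^ p ^ (n - 2) = 1) (z2 : z ^ p ^ (n - 3) ≠ 1) : F1 p n G := by
  have a : z ^ p ^ (n - 3) ∈ W ⊓ center G := ⟨(h.mem _).2 ⟨center_le_centralizer _ (pow_mem zc _), by
    rw [← pow_mul, ← pow_succ, show n - 3 + 1 = n - 2 by omega, z1]⟩, pow_mem zc _⟩
  obtain ⟨y, y1, y2⟩ := h.onto (mt inv_mem_iff.1 hx) a
  refine ⟨h3, x, y, z, h.gen hx y1 (fun e => z2 (y2 ▸ dl_eq_one.2 (mem_center_iff.1 e.2 _))) hz
    ((h.zpZ a z2).ge.trans (zpowers_le.2 (pow_mem (mem_zpowers z) _))), xp, h.wp y1, z1, mem_center_iff.1 zc x,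
    mem_center_iff.1 zc y, ?_⟩
  simpa [y2] using conj_dl x⁻¹ y

theorem fam2 (h4 : 4 ≤ n) (hx : x ∉ CC(W)) (xp : x ^ p = 1) (hz : W ⊔ zpowers z = CC(W)) (cT : ⁅CC(W), ⊤⁆ ≤ W)
    (z1 : z ^ p ^ (n - 2) = 1) (hZ : W ⊓ center G ≤ zpowers z) {s : ℕ} (hs : s = 1 ∨ ¬ IsSquare (s : ZMod p))
    (e : dl x⁻¹ (dl x⁻¹ z) = (z ^ p ^ (n - 3)) ^ s) (e1 : dl x⁻¹ (dl x⁻¹ z) ≠ 1) : F2 p n G := by
  have zT := hz.le (mem_sup_right (mem_zpowers z))
  have y1 := dl_mem_of cT x⁻¹ zT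
  refine ⟨h4, s, x, dl x⁻¹ z, z, hs, h.gen hx y1 (fun c => e1 (dl_eq_one.2 (mem_center_iff.1 c.2 _))) hz hZ, xp,
    h.wp y1, z1, zT _ y1, ?_, ?_⟩
  · simpa [e, ← pow_mul, mul_comm s] using conj_dl x⁻¹ (dl x⁻¹ z)
  · rw [zT _ y1]; simpa using conj_dl x⁻¹ z

theorem norm (ab : CC(W) ≤ CC(CC(W))) (cT : ⁅CC(W), ⊤⁆ ≤ W) (x : G) (ht : t ∈ CC(W)) :
    (t * x) ^ p = t ^ p * (dl x)^[p - 1] t * x ^ p := by
  haveI := h.nT
  have p1 := hp.out.pos
  have d : ∀ k, (dl x)^[k + 1] t ∈ W := fun k => by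
    induction k with
    | zero => exact dl_mem_of cT x ht
    | succ k ih => rw [Function.iterate_succ_apply']; exact dl_mem_of cT x (h.wT ih)
  have g : ∀ m : ℕ, (t * x) ^ m * (x ^ m)⁻¹ ∈ CC(W) := fun m => by
    rw [← q_eq_one, map_mul, map_pow, map_mul, q_eq_one.2 ht, one_mul, map_inv, map_pow, mul_inv_cancel]
  letI : CommGroup CC(W) := { (inferInstance : Group _) with mul_comm := fun a b => Subtype.ext (ab b.2 a a.2) }
  have e : ∀ k, ((dlt^[k + 1] (fun m => (⟨_, g m⟩ : CC(W))) 0 : CC(W)) : G) = (dl x)^[k] t := fun k => by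
    have := congrFun (map_dlt CC(W).subtype (fun m => ⟨_, g m⟩) (k + 1)) 0
    erw [dlt_iter] at this
    simpa using this.symm
  have := congrArg Subtype.val (newton_p' (p := p) (fun m => (⟨_, g m⟩ : CC(W))) fun k a _ => Subtype.ext (by
    obtain ⟨k, rfl⟩ : ∃ j, k = j + 1 + 1 := ⟨k - 2, by omega⟩
    rw [coe_pow, e]; exact h.wp (d k)))
  have e1 := e (p - 1)
  rw [Nat.sub_add_cancel p1] at e1
  have e0 : ((dlt (fun m => (⟨_, g m⟩ : CC(W))) 0 : CC(W)) : G) = t := e 0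
  rw [coe_mul, coe_mul, coe_pow, e1, e0] at this
  simpa [mul_inv_eq_iff_eq_mul] using this

theorem caseB (hB : ∀ v ∈ CC(W), (v ^ p) ^ p = 1 → v ^ p ∈ W ⊓ center G) : F1 p n G ∨ F2 p n G ∨ F3 p n G := by
  haveI := h.nW
  haveI := h.nT
  have p1 := hp.out.one_lt
  obtain ⟨z, hz⟩ : ∃ z, W ⊔ zpowers z = CC(W) := by
    obtain ⟨a, b⟩ := pc_of h.p2 h.pg h.mem
    obtain ⟨z, hz⟩ := a.cyc b (Z := (W ⊓ center G).subgroupOf _)
      ((Nat.card_congr (subgroupOfEquivOfLe (inf_le_left.trans h.wT)).toEquiv).trans h.cZ).le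
      fun x e => hB x x.2 (congrArg Subtype.val e)
    refine ⟨z, ?_⟩
    have := congrArg (Subgroup.map CC(W).subtype) hz
    rwa [Subgroup.map_sup, map_subgroupOf_eq_of_le h.wT, MonoidHom.map_zpowers, ← MonoidHom.range_eq_map,
      range_subtype] at this
  have zT := hz.le (mem_sup_right (mem_zpowers z))
  have ab : CC(W) ≤ CC(CC(W)) := isMulCommutative_iff_le_centralizer.1
    (isMulCommutative_of_sup_zpowers hz fun w hw y hy => (hy w hw).symm)
  have zp : ∀ k : ℤ, (z ^ k) ^ p = (z ^ p) ^ k := fun k => by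
    rw [← zpow_natCast, ← zpow_mul, mul_comm, zpow_mul, zpow_natCast]
  have hU : powerClosure p 1 CC(W) = zpowers (z ^ p) := le_antisymm (powerClosure_le_iff.2 fun t ht => by
    obtain ⟨w, w1, k, rfl⟩ := (mem_sup_zpowers (centralizer_le_normalizer _ zT)).1 (hz.ge ht)
    rw [pow_one, ((show Commute w z from zT w w1).zpow_right k).mul_pow, h.wp w1, one_mul, zp]
    exact ⟨k, rfl⟩) (zpowers_le.2 (pc_mem zT))
  have pw : ∀ g : G, g ^ p ∈ zpowers (z ^ p) := fun g => hU ▸ h.pw.le (pc_mem trivial)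
  haveI nU : (zpowers (z ^ p)).Normal := by rw [← hU, ← h.pw]; infer_instance
  obtain ⟨k, hk⟩ := (IsPGroup.iff_orderOf.1 h.pg) (z ^ p)
  have c := h.cT
  rw [h.cU, hU, Nat.card_zpowers, hk, ← pow_add, ← pow_succ] at c
  obtain rfl := Nat.pow_right_injective hp.out.two_le c
  have z1 : z ^ p ^ (k + 2 + 1 - 2) = 1 := by
    rw [show k + 2 + 1 - 2 = k + 1 by omega, pow_succ', pow_mul, ← hk, pow_orderOf_eq_one]
  obtain ⟨x, hx⟩ := h.ex
  rcases k with _ | k
  · obtain ⟨w, w1, w2⟩ := (W ⊓ center G).bot_or_exists_ne_one.resolve_left fun e => by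
      have := h.cZ; rw [e, card_bot] at this; omega
    have e : z ^ p = 1 := orderOf_eq_one_iff.1 hk
    refine .inl (h.fam1 le_rfl hx (by simpa [e] using pw x) (le_antisymm (sup_le h.wT (zpowers_le.2 (h.wT w1.1)))
      (hz.ge.trans (sup_le le_sup_left (zpowers_le.2 (mem_sup_left ((h.mem _).2 ⟨zT, e⟩)))))) w1.2
      (by simpa using h.wp w1.1) (by simpa using w2))
  have z2 : z ^ p ^ (k + 1) ≠ 1 := by
    rw [pow_succ', pow_mul, Ne, ← orderOf_dvd_iff_pow_eq_one, hk, Nat.pow_dvd_pow_iff_le_right p1]; omega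
  have oU : omegaOne p (zpowers (z ^ p)) = W ⊓ center G := by
    obtain ⟨c, c1, c2, c3, c4⟩ := exists_central_of_ne_bot (h.pg.to_subgroup ⊤) (N := zpowers (z ^ p)) le_top
      (by rw [normalizer_eq_top]) (by rw [Ne, zpowers_eq_bot]; rintro e; rw [pow_succ', pow_mul, e, one_pow] at z2; exact z2 rfl)
    have c5 : c ∈ center G := mem_center_iff.2 fun g => c4 g trivial
    exact (eq_of_le_of_card_le ((h.zpZ ⟨(h.mem _).2 ⟨center_le_centralizer _ c5, c3⟩, c5⟩ c2).ge.trans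
      (zpowers_le.2 (mem_omegaOne c1 c3))) ((card_omegaOne_le_of_isCyclic inferInstance).trans h.cZ.ge)).symm
  have zz : z ^ p ^ (k + 1) ∈ W ⊓ center G := oU.le (mem_omegaOne (by rw [pow_succ', pow_mul]; exact pow_mem (mem_zpowers _) _)
    (by rw [← pow_mul, ← pow_succ]; exact z1))
  have zZ := h.zpZ zz z2
  have dU : ∀ g, ∀ u ∈ zpowers (z ^ p), dl g u ∈ W ⊓ center G := by
    rintro g _ ⟨j, rfl⟩
    rw [dl_zpow ab g (pow_mem zT p)]
    refine zpow_mem (oU.le (mem_omegaOne (dl_mem_of (commutator_le_left _ _) g (mem_zpowers _)) ?_)) j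
    have := comm_pow_eq_one_of_cyclic h.p2 hk (y := g) (by rw [normalizer_eq_top]; trivial) (by
      obtain ⟨i, hi⟩ := pw g
      exact hi ▸ (Commute.refl _).zpow_left i)
    rw [show dl g (z ^ p) = (z ^ p)⁻¹ * (g * z ^ p * g⁻¹ * (z ^ p)⁻¹) * (z ^ p) by simp [dl, mul_assoc], icp, this]
    simp
  have dz : ∀ g, dl g z ∈ W := fun g => by
    have a : dl g z ∈ W ⊔ zpowers (z ^ p) := dl_mem_of (commutator_le_of_card_succ (h.pg.to_subgroup ⊤) le_top
      (by rw [normalizer_eq_top]) (by rw [normalizer_eq_top]) (sup_le h.wT (zpowers_le.2 (pow_mem zT p))) (by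
        by_cases c : z ∈ W ⊔ zpowers (z ^ p)
        · exact (card_le_of_le (hz.ge.trans (sup_le le_sup_left (zpowers_le.2 c)))).trans (Nat.le_mul_of_pos_right _ (by omega))
        · rw [← card_sup_zpowers (by rw [normalizer_eq_top]; trivial) c (mem_sup_right (mem_zpowers _))]
          exact card_le_of_le (hz.ge.trans (sup_le_sup_right le_sup_left _)))) g zT
    have aT := dl_mem_of (commutator_le_left CC(W) ⊤) g zT
    have b : dl g (dl g z) ∈ W ⊓ center G := by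
      obtain ⟨w, w1, u, u1, e⟩ := mem_sup_of_normal_left.1 a
      rw [← e, dl_mul ab g (h.wT w1) (zpowers_le.2 (pow_mem zT p) u1)]
      exact mul_mem (dl_mem_of h.cmW g w1) (dU g u u1)
    exact (h.mem _).2 ⟨aT, alperin_aux (conj_dl g z) (conj_dl g _) (mem_center_iff.1 b.2 g).symm (mem_center_iff.1 b.2 _).symm
      (h.wp b.1) (ab zT _ (zpowers_le.2 (pow_mem zT p) (pw g))) fun e => (h.p2 e).elim⟩
  have cT : ⁅CC(W), ⊤⁆ ≤ W := by
    rw [← hz]
    refine commutator_sup_le (by rw [normalizer_eq_top]; exact le_top) (by rw [normalizer_eq_top]; exact le_top)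
      (commutator_le_left _ _) (commutator_zpowers_le (by rw [normalizer_eq_top]; trivial) fun c _ => ?_)
    simpa [dl, mul_assoc] using inv_mem (Normal.conj_mem inferInstance _ (dz c) z)
  have d3 : ∀ g, ∀ t ∈ CC(W), dl g (dl g (dl g t)) = 1 := fun g t ht =>
    dl_eq_one.2 (mem_center_iff.1 (dl_mem_of h.cmW g (dl_mem_of cT g ht)).2 g)
  have L3 : L G 3 = ⊥ := by
    have a : L G 1 ≤ W := commutator_le_of_sup_zpowers (h.sup hx) (by rw [normalizer_eq_top]; exact le_top) cT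
    exact le_bot_iff.1 ((commutator_mono ((commutator_mono a le_rfl).trans (h.cmW.trans inf_le_right)) le_rfl).trans
      (commutator_eq_bot_iff_le_centralizer.2 (center_le_centralizer _)).le)
  by_cases f3 : F3 p (k + 1 + 2 + 1) G
  · exact .inr (.inr f3)
  obtain ⟨x, hx, xp⟩ : ∃ x, x ∉ CC(W) ∧ x ^ p = 1 := by
    have b : (dl x)^[p - 1] z ∈ zpowers ((z ^ p) ^ p) := by
      by_cases p3 : p = 3
      · subst p3
        rcases k with _ | k
        · rw [show (dl x)^[3 - 1] z = 1 from by_contra fun c => f3 ⟨rfl, by omega, fun e =>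
            c (mem_bot.1 (e.le (dl_iter (i := 0) x (mem_top z) 2)))⟩]
          exact one_mem _
        · refine zpowers_le.2 ?_ (zZ.ge (dl_mem_of h.cmW x (dz x)))
          rw [pow_succ' 3, pow_succ' 3, pow_mul, pow_mul]; exact pow_mem (mem_zpowers _) _
      · obtain ⟨j, hj⟩ : ∃ j, p - 1 = j + 3 := ⟨p - 4, by have := h.p2; omega⟩
        rw [hj, Function.iterate_add_apply, show (dl x)^[3] z = 1 from d3 x z zT, Function.iterate_fixed (by simp [dl])]
        exact one_mem _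
    obtain ⟨i, hi⟩ : z ^ p * (dl x)^[p - 1] z ∈ zpowers (z ^ p) :=
      mul_mem (mem_zpowers _) (zpowers_le.2 (pow_mem (mem_zpowers _) p) b)
    have e := (zpowers_eq_or_mem_pow hk i).resolve_right fun c => by
      have := orderOf_dvd_of_mem_zpowers ((mul_mem_cancel_right b).1 ((show _ ^ i = _ from hi) ▸ c))
      rw [orderOf_pow_of_dvd (x := z ^ p) (by omega) (hk ▸ dvd_pow_self p k.succ_ne_zero), hk, pow_succ,
        Nat.mul_div_cancel _ (by omega), ← pow_succ, Nat.pow_dvd_pow_iff_le_right p1] at this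
      omega
    obtain ⟨j, hj⟩ := e.ge (inv_mem (pw x))
    refine ⟨z ^ j * x, mt (mul_mem_cancel_left (zpow_mem zT j)).1 hx, ?_⟩
    have it : ∀ m, (dl x)^[m] z ∈ CC(W) ∧ (dl x)^[m] (z ^ j) = (dl x)^[m] z ^ j := fun m => by
      induction m with
      | zero => exact ⟨zT, rfl⟩
      | succ m ih =>
        rw [Function.iterate_succ_apply', Function.iterate_succ_apply', ih.2, dl_zpow ab x ih.1]
        exact ⟨dl_mem_of (commutator_le_left _ _) x ih.1, rfl⟩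
    rw [h.norm ab cT x (zpow_mem zT j), zp, (it _).2,
      ← (show Commute (z ^ p) _ from ab (it _).1 _ (pow_mem zT p)).mul_zpow, ← show _ ^ i = _ from hi,
      show _ ^ j = _ from hj, inv_mul_cancel]
  have hx' := mt inv_mem_iff.1 hx
  by_cases c : dl x⁻¹ z ∈ W ⊓ center G
  · obtain ⟨w, w1, w2⟩ := h.onto hx' (inv_mem c)
    have e : ∀ m, (z * w) ^ p ^ (m + 1) = z ^ p ^ (m + 1) := fun m => by
      rw [(show Commute w z from zT w w1).symm.mul_pow, pow_succ' p, pow_mul w, h.wp w1, one_pow, mul_one]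
    refine .inl (h.fam1 (z := z * w) (by omega) hx xp (le_antisymm (sup_le h.wT (zpowers_le.2 (mul_mem zT (h.wT w1))))
      (hz.ge.trans (sup_le le_sup_left (zpowers_le.2 ((mul_mem_cancel_right (mem_sup_left w1)).1
        (mem_sup_right (mem_zpowers _))))))) (h.cen hx' (ab (mul_mem zT (h.wT w1))) (dl_eq_one.1 (by
          rw [dl_mul ab _ zT (h.wT w1), w2, mul_inv_cancel]))) ((e (k + 1)).trans z1) ((e k).trans_ne z2))
  have zZ' : W ⊓ center G ≤ zpowers z := zZ.ge.trans (zpowers_le.2 (pow_mem (mem_zpowers z) _))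
  have e1 : dl x⁻¹ (dl x⁻¹ z) ≠ 1 := fun e => c (h.memZ hx' (dz _) (dl_eq_one.1 e))
  obtain ⟨s, hs⟩ := mem_powers_iff_mem_zpowers.2 (zZ.ge (dl_mem_of h.cmW x⁻¹ (dz x⁻¹)))
  by_cases sq : IsSquare (s : ZMod p)
  swap
  · exact .inr (.inl (h.fam2 (by omega) hx xp hz cT z1 zZ' (.inr sq) hs.symm e1))
  obtain ⟨r, hr⟩ := sq
  have r0 : r ≠ 0 := by
    rintro rfl
    obtain ⟨l, rfl⟩ := (ZMod.natCast_eq_zero_iff s p).1 (hr.trans (mul_zero _))
    exact e1 (by rw [← hs]; simp only [pow_mul _ p l, h.wp zz.1, one_pow])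
  have := dl_pow x⁻¹ z r⁻¹.val 2
  rw [← map_pow, QuotientGroup.mk'_eq_mk', L3] at this
  obtain ⟨_, rfl, e⟩ := this
  have e2 : dl (x ^ r⁻¹.val)⁻¹ (dl (x ^ r⁻¹.val)⁻¹ z) = (z ^ p ^ (k + 1)) ^ 1 := by
    rw [← inv_pow]
    refine (mul_one _).symm.trans (e.trans ?_)
    rw [show (dl x⁻¹)^[2] z = _ from hs.symm, ← pow_mul]
    refine pow_eq_pow_of_modEq ((ZMod.natCast_eq_natCast_iff _ _ _).1 ?_) (h.wp zz.1)
    push_cast
    rw [ZMod.natCast_zmod_val, hr]
    field_simp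
  refine .inr (.inl (h.fam2 (x := x ^ r⁻¹.val) (by omega) (fun a => z2 ?_) (by rw [← pow_mul, mul_comm, pow_mul, xp, one_pow])
    hz cT z1 zZ' (.inl rfl) e2 (by rw [e2, pow_one]; exact z2)))
  rw [← pow_one (z ^ _), ← e2, dl_eq_one]
  exact (inv_mem a _ (dz _)).symm

end RK

theorem s3888 (hp2 : p ≠ 2) (hG : Nat.card G = p ^ n) (hr : PRankLE p 2 G) :
    IsMetacyclic G ∨ F1 p n G ∨ F2 p n G ∨ F3 p n G := by
  refine or_iff_not_imp_left.2 fun hm => ?_
  obtain ⟨W, h⟩ := exists_rk hp2 hG hr hm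
  by_cases c : ∀ v ∈ CC(W), (v ^ p) ^ p = 1 → v ^ p ∈ W ⊓ center G
  · exact h.caseB c
  · push Not at c
    obtain ⟨v, a, b, d⟩ := c
    exact .inr (.inr (h.caseA a b d hr))

end CfsgMC
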