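import Cfsg.Agent.Lead.Sm12

/-! Breadth and the commutator subgroup of a `p`-group (Vaughan-Lee, Skutin). -/

set_option autoImplicit false
set_option linter.unusedSectionVars false

namespace CfsgMC
open Subgroup Cfsg CfsgH2
open scoped commutatorElement

local notation "C1(" x ")" => Subgroup.centralizer (Singleton.singleton x : Set _)
local notation "NN(" H ")" => Subgroup.normalizer (SetLike.coe H)

variable {Ω : Type*} [Group Ω] [Finite Ω] {p : ℕ} [hp : Fact p.Prime] {G A B C H M : Subgroup Ω} {g x : Ω}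

omit hp in
theorem not_two (hA : ¬ G ≤ A) (hB : ¬ G ≤ B) : ∃ g ∈ G, g ∉ A ∧ g ∉ B := by
  obtain ⟨a, a1, a2⟩ := SetLike.not_le_iff_exists.1 hA
  obtain ⟨b, b1, b2⟩ := SetLike.not_le_iff_exists.1 hB
  by_cases c : a ∈ B
  · by_cases d : b ∈ A
    · exact ⟨a * b, mul_mem a1 b1, mt (mul_mem_cancel_right d).1 a2, mt (mul_mem_cancel_left c).1 b2⟩
    · exact ⟨b, b1, d, b2⟩
  · exact ⟨a, a1, a2, c⟩

omit hp in
theorem card_ri (h : A ≤ B) : Nat.card B = Nat.card A * A.relIndex B := by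
  rw [← Nat.card_congr (subgroupOfEquivOfLe h).toEquiv]; exact (A.subgroupOf B).card_mul_index.symm

omit hp in
theorem ri_pos : 0 < A.relIndex B := Nat.pos_of_ne_zero index_ne_zero_of_finite

omit hp in
theorem ri_le (h : B ≤ C) : A.relIndex B ≤ A.relIndex C := relIndex_le_of_le_right h index_ne_zero_of_finite

theorem ri_pow (hG : IsPGroup p G) (A : Subgroup Ω) : ∃ k, A.relIndex G = p ^ k := hG.index _

theorem ri_le_of_lt (hG : IsPGroup p G) {m : ℕ} (h : A.relIndex G < p ^ (m + 1)) : A.relIndex G ≤ p ^ m := by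
  obtain ⟨k, hk⟩ := ri_pow hG A
  rw [hk, Nat.pow_lt_pow_iff_right hp.out.one_lt] at h
  exact hk ▸ Nat.pow_le_pow_right hp.out.pos (by omega)

theorem pow_mem_ri (hG : IsPGroup p G) (hM : M ≤ G) (iM : M.relIndex G = p) (hx : x ∈ G) : x ^ p ∈ M := by
  haveI := (normal_subgroupOf_iff_le_normalizer hM).2 (le_normalizer_of_relIndex_prime hG hM iM)
  exact iM ▸ (M.subgroupOf G).pow_index_mem ⟨x, hx⟩

theorem ri_inf (hG : IsPGroup p G) (hM : M ≤ G) (iH : H.relIndex G = p) (ne : ¬ M ≤ H) : (M ⊓ H).relIndex M = p := by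
  rw [inf_relIndex_left]
  obtain ⟨k, hk⟩ := ri_pow (hG.to_le hM) H
  have a := (ri_le (A := H) hM).trans_eq (iH.trans (pow_one p).symm)
  rw [hk, Nat.pow_le_pow_iff_right hp.out.one_lt] at a
  rcases k with _ | k
  · exact (ne (relIndex_eq_one.1 hk)).elim
  · rw [hk, show k = 0 by omega, zero_add, pow_one]

theorem third (hG : IsPGroup p G) (hM : M ≤ G) (hH : H ≤ G) (iM : M.relIndex G = p) (iH : H.relIndex G = p) (ne : ¬ M ≤ H) :
    ∃ C ≤ G, C.relIndex G = p ∧ C ⊓ M ≤ H ∧ C ⊓ H ≤ M ∧ ¬ C ≤ H ∧ (p ≠ 2 → ∃ g ∈ G, g ∉ C ∧ g ∉ M ∧ g ∉ H) := by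
  have ne' : ¬ H ≤ M := fun e => ne (eq_of_le_of_card_le e (Nat.le_of_mul_le_mul_right
    (by rw [← iM, ← card_ri hM, iM, ← iH, ← card_ri hH]) hp.out.pos)).ge
  obtain ⟨a, a1, a2⟩ := SetLike.not_le_iff_exists.1 ne
  obtain ⟨b, b1, b2⟩ := SetLike.not_le_iff_exists.1 ne'
  have nK := le_normalizer_inf' (le_normalizer_of_relIndex_prime hG hM iM) (le_normalizer_of_relIndex_prime hG hH iH)
  have ab := mul_mem (hM a1) (hH b1)
  have c1 : a * b ∉ M := mt (mul_mem_cancel_left a1).1 b2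
  have c2 : a * b ∉ H := mt (mul_mem_cancel_right b1).1 a2
  have pw : (a * b) ^ p ∈ M ⊓ H := ⟨pow_mem_ri hG hM iM ab, pow_mem_ri hG hH iH ab⟩
  have r := relIndex_sup_zpowers (nK ab) (fun e => c1 e.1) pw
  have l : M ⊓ H ⊔ zpowers (a * b) ≤ G := sup_le (inf_le_left.trans hM) (zpowers_le.2 ab)
  have m := mem_sup_right (S := M ⊓ H) (mem_zpowers (a * b))
  have k1 := (eq_or_eq_of_relIndex_prime r (le_inf le_sup_left inf_le_left) inf_le_left).resolve_right fun e => c1 (e.ge m).2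
  have k2 := (eq_or_eq_of_relIndex_prime r (le_inf le_sup_left inf_le_right) inf_le_left).resolve_right fun e => c2 (e.ge m).2
  have i : (M ⊓ H ⊔ zpowers (a * b)).relIndex G = p := by
    have e1 := relIndex_mul_relIndex _ _ _ le_sup_left l
    have e2 := relIndex_mul_relIndex _ _ _ (inf_le_left : M ⊓ H ≤ M) hM
    rw [ri_inf hG hM iH ne, iM, ← e1, r] at e2
    exact (Nat.eq_of_mul_eq_mul_left hp.out.pos e2).symm
  refine ⟨_, l, i, k1.le.trans inf_le_right, k2.le.trans inf_le_left, fun e => c2 (e m), fun p2 => ⟨a * b⁻¹,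
    mul_mem (hM a1) (inv_mem (hH b1)), fun e => b2 ?_, fun e => b2 (inv_mem_iff.1 ((mul_mem_cancel_left a1).1 e)),
    mt (mul_mem_cancel_right (inv_mem b1)).1 a2⟩⟩
  have : b ^ 2 ∈ M := (k2.le ⟨by simpa [sq] using mul_mem (inv_mem e) m, pow_mem b1 2⟩).1
  obtain ⟨j, hj⟩ := hp.out.odd_of_ne_two p2
  have d := pow_mem_ri hG hM iM (hH b1)
  rwa [hj, pow_succ, pow_mul, mul_mem_cancel_left (pow_mem this j)] at d

theorem brd (hG : IsPGroup p G) (hC : C ≤ G) (hi : C.relIndex G = p) (hg : g ∈ G) (hg' : g ∉ C) :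
    ∃ D ≤ C, Nat.card ↥⁅G, G⁆ ≤ Nat.card ↥⁅C, C⁆ * D.relIndex C ∧ D.relIndex C ≤ C1(g).relIndex G ∧
      ∀ x ∈ C, x ∉ D → C1(x).relIndex C * p ≤ C1(x).relIndex G := by
  have nC := le_normalizer_of_relIndex_prime hG hC hi
  have nN : G ≤ NN(⁅C, C⁆) := le_normalizer_commutator' nC nC
  have cm : ∀ x ∈ C, ∀ y ∈ G, ⁅x, y⁆ ∈ C := fun x a y b =>
    commutator_le_left_of_normalizer nC (commutator_mem_commutator a b)
  have mD : ∀ x, x ∈ C ⊓ centMod ⁅C, C⁆ {g} ↔ x ∈ C ∧ ⁅x, g⁆ ∈ ⁅C, C⁆ := fun x =>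
    ⟨fun a => ⟨a.1, (mem_centMod.1 a.2).2 g rfl⟩, fun a => ⟨a.1, mem_centMod.2 ⟨nN (hC a.1), by rintro _ rfl; exact a.2⟩⟩⟩
  refine ⟨C ⊓ centMod ⁅C, C⁆ {g}, inf_le_left, ?_, ?_, fun x a b => ?_⟩
  · let J : Subgroup Ω :=
      { carrier := {y | y ∈ C ∧ ∃ x ∈ C, ⁅x, g⁆⁻¹ * y ∈ ⁅C, C⁆}
        one_mem' := ⟨one_mem _, 1, one_mem _, by simp⟩
        mul_mem' := by
          rintro y y' ⟨a, x, b, c⟩ ⟨a', x', b', c'⟩
          refine ⟨mul_mem a a', x' * x, mul_mem b' b, ?_⟩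
          have := mul_mem (conj_mem_of_mem_normalizer' (nN (hC (cm _ b' g hg))) (mul_mem
            (commutator_mem_commutator b' (inv_mem (cm _ b g hg))) c)) c'
          simpa [commutatorElement_def, mul_assoc] using this
        inv_mem' := by
          rintro y ⟨a, x, b, c⟩
          refine ⟨inv_mem a, x⁻¹, inv_mem b, ?_⟩
          have := mul_mem (commutator_mem_commutator (inv_mem b) (cm _ b g hg))
            (conj_mem_of_mem_normalizer (nN (hC a)) (inv_mem c))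
          simpa [commutatorElement_def, mul_assoc] using this }
    have l : ⁅C, C⁆ ≤ J := fun y a => ⟨commutator_le_left_of_normalizer le_normalizer a, 1, one_mem _, by simpa using a⟩
    have s := sup_zpowers_eq_of_relIndex_prime hi hC hg hg'
    have nJ : G ≤ NN(J) := s.ge.trans (sup_le (fun c a => mem_normalizer_fintype fun y b => by
        simpa [commutatorElement_def] using mul_mem (l (commutator_mem_commutator a b.1)) b)
      (zpowers_le.2 (mem_normalizer_fintype fun y e => by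
        obtain ⟨a, x, b, c⟩ := e
        exact ⟨conj_mem_of_mem_normalizer (nC hg) a, g * x * g⁻¹, conj_mem_of_mem_normalizer (nC hg) b, by
          simpa [commutatorElement_def, mul_assoc] using conj_mem_of_mem_normalizer (nN hg) c⟩)))
    have k : ⁅G, G⁆ ≤ J := commutator_le_of_sup_zpowers s nJ (by
      rw [Subgroup.commutator_comm, ← s]
      exact commutator_sup_le (hC.trans nJ) ((zpowers_le.2 hg).trans nJ) l (commutator_zpowers_le (nJ hg) fun c a =>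
        comm_mem_symm ⟨cm c a g hg, c, a, by simp [commutatorElement_def, mul_assoc]⟩))
    have : ∀ y : ↥⁅G, G⁆, ∃ q : C ⧸ (C ⊓ centMod ⁅C, C⁆ {g}).subgroupOf C, ⁅(q.out : Ω), g⁆⁻¹ * y ∈ ⁅C, C⁆ := fun y => by
      obtain ⟨-, x, b, c⟩ := k y.2
      refine ⟨(⟨x, b⟩ : C), ?_⟩
      obtain ⟨d, hd⟩ := QuotientGroup.mk_out_eq_mul ((C ⊓ centMod ⁅C, C⁆ {g}).subgroupOf C) ⟨x, b⟩
      have := mul_mem (conj_mem_of_mem_normalizer' (nN (hC (cm _ b g hg)))
        (conj_mem_of_mem_normalizer (nN (hC b)) (inv_mem ((mD _).1 d.2).2))) c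
      rw [hd]
      simpa [commutatorElement_def, mul_assoc] using this
    choose f hf using this
    rw [relIndex, index, ← Nat.card_prod]
    refine Nat.card_le_card_of_injective (fun y => (⟨_, hf y⟩, f y)) fun a b e => Subtype.ext ?_
    have e1 := congrArg (fun z => z.1.1) e
    have e2 : f a = f b := congrArg Prod.snd e
    simp only [e2] at e1
    exact mul_left_cancel e1
  · rw [inf_relIndex_left]
    refine (Nat.le_of_dvd ri_pos ?_).trans (ri_le hC)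
    rw [← inf_relIndex_left (K := C1(g)), ← inf_relIndex_left (K := centMod _ _)]
    exact relIndex_dvd_of_le_left _ fun x a => (mD x).2 ⟨a.1, by
      rw [commutatorElement_eq_one_iff_mul_comm.2 (mem_centralizer_singleton_iff.1 a.2)]; exact one_mem _⟩
  · have k : G ⊓ C1(x) ≤ C := fun y c => by
      by_contra d
      obtain ⟨m, m1, j, e⟩ := (mem_sup_zpowers (nC c.1)).1 ((sup_zpowers_eq_of_relIndex_prime hi hC c.1 d).ge hg)
      refine b ((mD x).2 ⟨a, ?_⟩)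
      have f := ((show Commute y x from mem_centralizer_singleton_iff.1 c.2).zpow_left j).inv_inv.eq
      rw [← e, show ⁅x, m * y ^ j⁆ = ⁅x, m⁆ by
        simp only [commutatorElement_def, mul_inv_rev, mul_assoc]; rw [← mul_assoc x⁻¹, ← f]; simp [mul_assoc]]
      exact commutator_mem_commutator a m1
    rw [← hi, ← inf_relIndex_left (K := C1(x)) (H := G), ← relIndex_mul_relIndex _ _ _ k hC, ← inf_relIndex_left,
      ← inf_relIndex_left (K := G ⊓ _), ← inf_assoc, inf_eq_left.2 hC]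

theorem vl (G : Subgroup Ω) : IsPGroup p G → ∀ (n : ℕ) (A B : Subgroup Ω), ¬ G ≤ A → ¬ G ≤ B →
    (p = 2 → G ⊓ B ≤ A ∨ 4 ≤ B.relIndex G) → (∀ x ∈ G, x ∉ A → x ∉ B → C1(x).relIndex G < p ^ n) →
    Nat.card ↥⁅G, G⁆ ≤ p ^ n.choose 2 := by
  induction G using subgroup_induction_up with
  | _ G ih =>
  intro hG n A B hA hB h2 h
  have p1 := hp.out.one_lt
  obtain ⟨H, H1, H2, H3, -⟩ := exists_relIndex_prime hG (Q := G ⊓ A) (inf_lt_left.2 hA)
  have nH := (lt_of_relIndex_prime H3 H2).not_ge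
  have hAH : ∀ x ∈ G, x ∉ H → x ∉ A := fun x a b c => b (H1 ⟨a, c⟩)
  by_cases ab : ⁅G, G⁆ = ⊥
  · rw [ab, card_bot]; exact Nat.one_le_pow _ _ hp.out.pos
  obtain ⟨C, C1, C2, C3, C4, g, g1, g2, g3, g4⟩ : ∃ C ≤ G, C.relIndex G = p ∧ ¬ C ≤ H ∧ C ⊓ B ≤ H ∧
      ∃ g ∈ G, g ∉ C ∧ g ∉ H ∧ g ∉ B := by
    by_cases c : G ⊓ B ≤ H
    · obtain ⟨y, y1, y2⟩ := SetLike.not_le_iff_exists.1 nH
      obtain ⟨C, a, b, d, -⟩ := exists_relIndex_prime hG (Q := zpowers y) (lt_of_le_of_ne (zpowers_le.2 y1) fun e => ab (by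
        rw [← e, commutator_eq_bot_iff_le_centralizer]; exact isMulCommutative_iff_le_centralizer.1 inferInstance))
      obtain ⟨g, g1, g2, g3⟩ := not_two (lt_of_relIndex_prime d b).not_ge nH
      exact ⟨C, b, d, fun e => y2 (e (a (mem_zpowers y))), (inf_le_inf_right _ b).trans c, g, g1, g2, g3,
        fun e => g3 (c ⟨g1, e⟩)⟩
    obtain ⟨M, M1, M2, M3, -⟩ := exists_relIndex_prime hG (Q := G ⊓ B) (inf_lt_left.2 hB)
    obtain ⟨C, a, b, d, -, e, f⟩ := third hG M2 H2 M3 H3 fun e => c (M1.trans e)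
    refine ⟨C, a, b, e, fun x k => d ⟨k.1, M1 ⟨a k.1, k.2⟩⟩, ?_⟩
    by_cases p2 : p = 2
    · obtain ⟨g, g1, g2, g3⟩ := not_two (G := M) (A := H) (B := B) (fun e => c (M1.trans e)) fun e => by
        have := (h2 p2).resolve_left fun k => c fun x l => H1 ⟨l.1, k l⟩
        have := Nat.le_of_dvd ri_pos (relIndex_dvd_of_le_left G e)
        omega
      exact ⟨g, M2 g1, fun k => g2 (d ⟨k, g1⟩), g2, g3⟩
    · obtain ⟨g, g1, g2, g3, g4⟩ := f p2
      exact ⟨g, g1, g2, g4, fun k => g3 (M1 ⟨g1, k⟩)⟩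
  have hC := hG.to_le C1
  have lt := card_lt_of_lt (lt_of_relIndex_prime C2 C1)
  have h' : ∀ x ∈ C, x ∉ H → C1(x).relIndex G < p ^ n := fun x a b =>
    h x (C1 a) (hAH x (C1 a) b) fun c => b (C4 ⟨a, c⟩)
  obtain ⟨D, D1, D2, D3, D4⟩ := brd hG C1 C2 g1 g2
  have D5 := D3.trans_lt (h g g1 (hAH g g1 g3) g4)
  rcases n with _ | m
  · have := ri_pos (A := D) (B := C); rw [pow_zero] at D5; omega
  by_cases c : C ≤ D
  · rw [relIndex_eq_one.2 c, mul_one] at D2
    exact D2.trans (ih C lt hC _ H H C3 C3 (fun _ => .inl inf_le_right) fun x a b _ => (ri_le C1).trans_lt (h' x a b))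
  have h'' : ∀ x ∈ C, x ∉ H → x ∉ D → C1(x).relIndex C < p ^ m := fun x a b d =>
    Nat.lt_of_mul_lt_mul_right (pow_succ p m ▸ (D4 x a d).trans_lt (h' x a b))
  have ch : ∀ m : ℕ, (m + 1).choose 2 = m.choose 2 + m := fun m => by
    rw [Nat.choose_succ_succ', Nat.choose_one_right, add_comm]
  rw [ch, pow_add]
  by_cases d : p = 2 → C ⊓ D ≤ H ∨ 4 ≤ D.relIndex C
  · exact D2.trans (Nat.mul_le_mul (ih C lt hC m H D C3 c d h'') (ri_le_of_lt hC D5))
  push Not at d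
  obtain ⟨rfl, d1, d2⟩ := d
  have iD : D.relIndex C = 2 := by
    have := ri_le_of_lt hC (m := 1) d2
    have := ri_pos (A := D) (B := C)
    have := mt relIndex_eq_one.1 c
    omega
  have nD : ¬ D ≤ C ⊓ H := fun e => d1 (inf_le_right.trans (e.trans inf_le_right))
  obtain ⟨E, E1, E2, E3, E4, E5, -⟩ := third hC D1 inf_le_left iD (ri_inf hG C1 H3 C3) nD
  obtain ⟨y, y1, y2⟩ := SetLike.not_le_iff_exists.1 nD
  obtain ⟨F, -, F2, F3, F4⟩ := brd hC E1 E2 (D1 y1) fun e => y2 (E3 ⟨e, y1⟩)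
  have hE := hC.to_le E1
  have F5 := ri_le_of_lt hE (F3.trans_lt ((ri_le C1).trans_lt (h' y (D1 y1) fun e => y2 ⟨D1 y1, e⟩)))
  have lt' := (card_lt_of_lt (lt_of_relIndex_prime E2 E1)).trans lt
  have k : ∀ x ∈ E, x ∉ C ⊓ H → C1(x).relIndex C < 2 ^ m := fun x a b =>
    h'' x (E1 a) (fun e => b ⟨E1 a, e⟩) fun e => b (E3 ⟨a, e⟩)
  rcases m with _ | l
  · obtain ⟨x, a, b⟩ := SetLike.not_le_iff_exists.1 E5
    have := k x a b
    have := ri_pos (A := C1(x)) (B := C)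
    omega
  rw [iD] at D2
  by_cases e : F.relIndex E ≤ 2 ^ l
  · have := ih E lt' hE _ _ _ E5 E5 (fun _ => .inl inf_le_right) fun x a b _ => (ri_le E1).trans_lt (k x a b)
    rw [pow_succ 2 l, ← mul_assoc]
    exact D2.trans (Nat.mul_le_mul_right 2 (F2.trans (Nat.mul_le_mul this e)))
  have nF : ¬ E ≤ F := fun a => e (relIndex_eq_one.2 a ▸ Nat.one_le_two_pow)
  have k' : ∀ x ∈ E, x ∉ C ⊓ H → x ∉ F → C1(x).relIndex E < 2 ^ l := fun x a b c =>
    Nat.lt_of_mul_lt_mul_right (pow_succ 2 l ▸ (F4 x a c).trans_lt (k x a b))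
  rcases l with _ | j
  · obtain ⟨x, a, b, c⟩ := not_two E5 nF
    have := k' x a b c
    have := ri_pos (A := C1(x)) (B := E)
    omega
  have := ih E lt' hE _ _ _ E5 nF (fun _ => .inr (not_lt.1 fun a => e ((ri_le_of_lt hE (m := 1) a).trans
    (Nat.pow_le_pow_right two_pos (by omega))))) k'
  refine D2.trans ((Nat.mul_le_mul_right 2 (F2.trans (Nat.mul_le_mul this F5))).trans ?_)
  rw [ch (j + 1), ← pow_add, ← pow_add, ← pow_succ]
  exact Nat.pow_le_pow_right two_pos (by omega)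

theorem s3777 (hG : IsPGroup p Ω) (b : ℕ) (hb : ∀ x : Ω, C1(x).index ≤ p ^ b) :
    Nat.card (commutator Ω) ≤ p ^ (b * (b + 1) / 2) := by
  by_cases c : (⊤ : Subgroup Ω) ≤ ⊥
  · rw [le_bot_iff.1 (le_top.trans c : commutator Ω ≤ ⊥), card_bot]; exact Nat.one_le_pow _ _ hp.out.pos
  have := vl ⊤ (hG.to_subgroup ⊤) (b + 1) ⊥ ⊥ c c (fun _ => .inl inf_le_right) fun x _ _ _ => by
    rw [relIndex_top_right]; exact (hb x).trans_lt (Nat.pow_lt_pow_right hp.out.one_lt b.lt_succ_self)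
  rwa [Nat.choose_two_right, Nat.add_sub_cancel, mul_comm] at this

end CfsgMC
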