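import Mathlib
import Cfsg.Prelude.Def_GeometricClasses

set_option autoImplicit false
set_option linter.unusedSectionVars false

open Subgroup Module
open scoped commutatorElement

namespace CfsgPS

variable {F V Γ : Type*} [Field F] [AddCommGroup V] [Module F V] [Group Γ]

/-- fixed space of an element -/
def fx (ρ : Γ →* Module.End F V) (x : Γ) : Submodule F V := LinearMap.ker (ρ x - 1)

theorem mem_fx {ρ : Γ →* Module.End F V} {x : Γ} {v : V} : v ∈ fx ρ x ↔ ρ x v = v := by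
  simp [fx, sub_eq_zero]

/-- fixed space of a subgroup -/
def Fx (ρ : Γ →* Module.End F V) (B : Subgroup Γ) : Submodule F V := ⨅ b ∈ B, fx ρ b

theorem mem_Fx {ρ : Γ →* Module.End F V} {B : Subgroup Γ} {v : V} :
    v ∈ Fx ρ B ↔ ∀ b ∈ B, ρ b v = v := by
  simp [Fx, Submodule.mem_iInf, mem_fx]

theorem rho_mul (ρ : Γ →* Module.End F V) (x y : Γ) (v : V) : ρ (x * y) v = ρ x (ρ y v) := by
  rw [map_mul]; rfl

theorem rho_inv (ρ : Γ →* Module.End F V) (x : Γ) (v : V) : ρ x⁻¹ (ρ x v) = v := by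
  rw [← rho_mul]; simp

theorem rho_inv' (ρ : Γ →* Module.End F V) (x : Γ) (v : V) : ρ x (ρ x⁻¹ v) = v := by
  rw [← rho_mul]; simp

theorem rho_inj (ρ : Γ →* Module.End F V) (x : Γ) : Function.Injective (ρ x) :=
  Function.LeftInverse.injective (rho_inv ρ x)

/-- the stabiliser of a vector -/
def stab (ρ : Γ →* Module.End F V) (v : V) : Subgroup Γ where
  carrier := {x | ρ x v = v}
  mul_mem' {a b} ha hb := by
    simp only [Set.mem_setOf_eq] at *
    rw [rho_mul, hb, ha]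
  one_mem' := by simp
  inv_mem' {a} ha := by
    simp only [Set.mem_setOf_eq] at *
    conv_lhs => rw [← ha]
    exact rho_inv ρ a v

theorem mem_Fx' {ρ : Γ →* Module.End F V} {B : Subgroup Γ} {v : V} :
    v ∈ Fx ρ B ↔ B ≤ stab ρ v := mem_Fx

theorem indep_aux {ι : Type*} (U : Submodule F V) (W : ι → Submodule F V) (f : ι → Module.End F V)
    (s : Finset ι) (h0 : ∀ i ∈ s, ∀ v ∈ W i, f i v = 0)
    (h1 : ∀ i ∈ s, ∀ j ∈ s, ∀ v ∈ W j, f i v ∈ W j)
    (h2 : ∀ i ∈ s, ∀ v ∈ U, f i v ∈ U) (h3 : ∀ i ∈ s, ∀ v ∈ U, f i v = 0 → v = 0) :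
    ∀ v ∈ U, v ∈ s.sup W → v = 0 := by
  classical
  induction s using Finset.induction_on with
  | empty => intro v _ hv; simpa using hv
  | insert i s hi ih =>
    intro v hU hv
    rw [Finset.sup_insert, Submodule.mem_sup] at hv
    obtain ⟨a, ha, b, hb, rfl⟩ := hv
    have ih' := ih (fun j hj => h0 j (Finset.mem_insert_of_mem hj))
      (fun j hj k hk => h1 j (Finset.mem_insert_of_mem hj) k (Finset.mem_insert_of_mem hk))
      (fun j hj => h2 j (Finset.mem_insert_of_mem hj)) (fun j hj => h3 j (Finset.mem_insert_of_mem hj))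
    have hi' := Finset.mem_insert_self i s
    apply h3 i hi' _ hU
    apply ih' _ (h2 i hi' _ hU)
    rw [map_add, h0 i hi' a ha, zero_add]
    have : (s.sup W).map (f i) ≤ s.sup W := by
      rw [Submodule.map_le_iff_le_comap]
      refine Finset.sup_le fun j hj v hv => ?_
      exact (Finset.le_sup (f := W) hj) (h1 i hi' j (Finset.mem_insert_of_mem hj) v hv)
    exact this ⟨b, hb, rfl⟩

theorem map_Fx (ρ : Γ →* Module.End F V) (B : Subgroup Γ) (g : Γ) :
    (Fx ρ B).map (ρ g) = Fx ρ (B.map (MulAut.conj g).toMonoidHom) := by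
  ext v
  simp only [Submodule.mem_map, mem_Fx]
  constructor
  · rintro ⟨u, hu, rfl⟩ _ ⟨b, hb, rfl⟩
    simp only [MulEquiv.coe_toMonoidHom, MulAut.conj_apply]
    rw [rho_mul, rho_mul, rho_inv, hu b hb]
  · intro h
    refine ⟨ρ g⁻¹ v, fun b hb => ?_, rho_inv' ρ g v⟩
    have := h _ ⟨b, hb, rfl⟩
    simp only [MulEquiv.coe_toMonoidHom, MulAut.conj_apply] at this
    apply rho_inj ρ g
    rw [rho_inv', ← rho_mul, ← rho_mul, this]

/-- primitivity, in the form used -/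
def Prim (ρ : Γ →* Module.End F V) : Prop :=
  ∀ U : Submodule F V, U ≠ ⊥ →
    (∀ s : Finset Γ, (∀ g ∈ s, U.map (ρ g) ≠ U) → ∀ v ∈ U, v ∈ s.sup (fun g => U.map (ρ g)) → v = 0) →
    U = ⊤

theorem abel_fx [Finite Γ] (ρ : Γ →* Module.End F V) (hf : Function.Injective ρ) (hp : Prim ρ)
    (A : Subgroup Γ) [hA : A.Normal] (hc : ∀ x ∈ A, ∀ y ∈ A, x * y = y * x) (a : Γ) (ha : a ∈ A)
    (ha1 : a ≠ 1) : fx ρ a = ⊥ := by
  classical
  by_contra hne
  have h0 : (zpowers a) ∈ {B : Subgroup Γ | B ≤ A ∧ Fx ρ B ≠ ⊥} := by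
    refine ⟨by simpa using ha, ?_⟩
    obtain ⟨v, hv, hv0⟩ := Submodule.exists_mem_ne_zero_of_ne_bot hne
    refine (Submodule.ne_bot_iff _).2 ⟨v, mem_Fx'.2 ?_, hv0⟩
    rw [zpowers_le]; exact mem_fx.1 hv
  obtain ⟨B, haB, hB⟩ := Set.Finite.exists_le_maximal (Set.toFinite _) h0
  obtain ⟨hBA, hB0⟩ := hB.prop
  have hmax : ∀ b ∈ A, ∀ v ∈ Fx ρ B, v ≠ 0 → ρ b v = v → b ∈ B := by
    intro b hb v hv hv0 hbv
    have : B ⊔ zpowers b ∈ {B : Subgroup Γ | B ≤ A ∧ Fx ρ B ≠ ⊥} := by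
      refine ⟨sup_le hBA (by simpa using hb), (Submodule.ne_bot_iff _).2 ⟨v, mem_Fx'.2 ?_, hv0⟩⟩
      refine sup_le (mem_Fx'.1 hv) ?_
      rw [zpowers_le]; exact hbv
    have h2 := hB.le_of_ge this le_sup_left
    exact h2 (mem_sup_right (mem_zpowers b))
  have hpres : ∀ b ∈ A, ∀ B' ≤ A, ∀ v ∈ Fx ρ B', ρ b v ∈ Fx ρ B' := by
    intro b hb B' hB' v hv
    rw [mem_Fx] at hv ⊢
    intro c hcB
    rw [← rho_mul, hc c (hB' hcB) b hb, rho_mul, hv c hcB]
  have hconj : ∀ g : Γ, B.map (MulAut.conj g).toMonoidHom ≤ A := by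
    rintro g _ ⟨b, hb, rfl⟩
    exact hA.conj_mem b (hBA hb) g
  have htop : Fx ρ B = ⊤ := by
    refine hp _ hB0 fun s hs => ?_
    have hex : ∀ g : Γ, ∃ b : Γ, (Fx ρ B).map (ρ g) ≠ Fx ρ B →
        b ∈ B.map (MulAut.conj g).toMonoidHom ∧ b ∉ B := by
      intro g
      by_cases h : B.map (MulAut.conj g).toMonoidHom ≤ B
      · refine ⟨1, fun h' => absurd ?_ h'⟩
        have : B.map (MulAut.conj g).toMonoidHom = B := by
          refine Subgroup.eq_of_le_of_card_ge h ?_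
          rw [Subgroup.card_map_of_injective (MulAut.conj g).injective]
        rw [map_Fx, this]
      · obtain ⟨b, hb, hb'⟩ := SetLike.not_le_iff_exists.1 h
        exact ⟨b, fun _ => ⟨hb, hb'⟩⟩
    choose b hb using hex
    refine indep_aux _ _ (fun g => ρ (b g) - 1) s ?_ ?_ ?_ ?_
    · intro g hg v hv
      rw [map_Fx, mem_Fx] at hv
      simp [hv _ (hb g (hs g hg)).1]
    · intro g hg k _ v hv
      have h1 := hconj g (hb g (hs g hg)).1
      rw [map_Fx] at hv ⊢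
      simpa using Submodule.sub_mem _ (hpres _ h1 _ (hconj k) v hv) hv
    · intro g hg v hv
      have h1 := hconj g (hb g (hs g hg)).1
      simpa using Submodule.sub_mem _ (hpres _ h1 _ hBA v hv) hv
    · intro g hg v hv h
      by_contra hv0
      have h1 := hconj g (hb g (hs g hg)).1
      refine (hb g (hs g hg)).2 (hmax _ h1 v hv hv0 ?_)
      simpa [sub_eq_zero] using h
  apply ha1
  apply hf
  ext v
  have : v ∈ Fx ρ B := htop ▸ Submodule.mem_top
  simpa using mem_Fx.1 this a (haB (mem_zpowers a))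

theorem exists_cl2 [Finite Γ] [Group.IsSolvable Γ] : ∃ E : Subgroup Γ, E.Normal ∧
    (∀ x ∈ E, ∀ y ∈ E, ∀ z ∈ E, Commute ⁅x, y⁆ z) ∧ ∀ c : Γ, (∀ x ∈ E, Commute c x) → c ∈ E := by
  have h0 : (⊥ : Subgroup Γ) ∈ {E : Subgroup Γ | E.Normal ∧ ∀ x ∈ E, ∀ y ∈ E, ∀ z ∈ E, Commute ⁅x, y⁆ z} := by
    refine ⟨inferInstance, fun x _ y _ z hz => ?_⟩
    rw [mem_bot.1 hz]; exact Commute.one_right _
  obtain ⟨E, -, hE⟩ := Set.Finite.exists_le_maximal (Set.toFinite _) h0
  obtain ⟨hn, hcl⟩ := hE.prop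
  refine ⟨E, hn, hcl, ?_⟩
  by_contra hne
  push Not at hne
  obtain ⟨c, hc, hcE⟩ := hne
  have h1 : centralizer (E : Set Γ) ∈ {M : Subgroup Γ | M.Normal ∧ M ≤ centralizer (E : Set Γ) ∧ ¬ M ≤ E} := by
    refine ⟨inferInstance, le_rfl, fun h => hcE (h ?_)⟩
    intro x hx; exact (hc x hx).symm
  obtain ⟨M, -, hM⟩ := Set.Finite.exists_le_minimal (Set.toFinite _) h1
  obtain ⟨hMn, hMc, hME⟩ := hM.prop
  have hM0 : M ≠ ⊥ := fun h => hME (h ▸ bot_le)
  have hlt : ⁅M, M⁆ < M := Group.IsSolvable.commutator_lt_of_ne_bot hM0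
  have hMM : ⁅M, M⁆ ≤ E := by
    by_contra h
    exact hlt.not_ge (hM.le_of_le ⟨inferInstance, hlt.le.trans hMc, h⟩ hlt.le)
  have hcomm : ∀ e ∈ E, ∀ m ∈ M, Commute e m := fun e he m hm => hMc hm e he
  have h2 : E ⊔ M ∈ {E : Subgroup Γ | E.Normal ∧ ∀ x ∈ E, ∀ y ∈ E, ∀ z ∈ E, Commute ⁅x, y⁆ z} := by
    refine ⟨inferInstance, fun x hx y hy z hz => ?_⟩
    obtain ⟨e1, he1, m1, hm1, rfl⟩ := mem_sup_of_normal_right.1 hx
    obtain ⟨e2, he2, m2, hm2, rfl⟩ := mem_sup_of_normal_right.1 hy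
    obtain ⟨e3, he3, m3, hm3, rfl⟩ := mem_sup_of_normal_right.1 hz
    have : ⁅e1 * m1, e2 * m2⁆ = ⁅e1, e2⁆ * ⁅m1, m2⁆ := by
      have a1 := (hcomm e2 he2 m1 hm1).eq
      have a2 := (hcomm e1⁻¹ (inv_mem he1) _ (mul_mem (mul_mem hm1 hm2) (inv_mem hm1))).eq
      have a3 := (hcomm e2⁻¹ (inv_mem he2) _
        (mul_mem (mul_mem (mul_mem hm1 hm2) (inv_mem hm1)) (inv_mem hm2))).eq
      have a4 := (hcomm e1⁻¹ (inv_mem he1) _ (inv_mem hm2)).eq
      simp only [commutatorElement_def]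
      calc e1 * m1 * (e2 * m2) * (e1 * m1)⁻¹ * (e2 * m2)⁻¹
          = e1 * (m1 * e2) * m2 * m1⁻¹ * (e1⁻¹ * m2⁻¹) * e2⁻¹ := by group
        _ = e1 * e2 * ((m1 * m2 * m1⁻¹ * m2⁻¹) * e1⁻¹) * e2⁻¹ := by rw [← a1, a4]; group
        _ = e1 * e2 * e1⁻¹ * ((m1 * m2 * m1⁻¹ * m2⁻¹) * e2⁻¹) := by
          rw [← (hcomm e1⁻¹ (inv_mem he1) _
            (mul_mem (mul_mem (mul_mem hm1 hm2) (inv_mem hm1)) (inv_mem hm2))).eq]; group
        _ = _ := by rw [← a3]; group
    rw [this]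
    have hE1 : ⁅e1, e2⁆ ∈ E := by
      rw [commutatorElement_def]
      exact mul_mem (mul_mem (mul_mem he1 he2) (inv_mem he1)) (inv_mem he2)
    have hM1 : ⁅m1, m2⁆ ∈ M := by
      rw [commutatorElement_def]
      exact mul_mem (mul_mem (mul_mem hm1 hm2) (inv_mem hm1)) (inv_mem hm2)
    have hM2 : ⁅m1, m2⁆ ∈ E := hMM (commutator_mem_commutator hm1 hm2)
    exact Commute.mul_left (Commute.mul_right (hcl _ he1 _ he2 _ he3) (hcomm _ hE1 _ hm3))
      (Commute.mul_right (hcomm _ he3 _ hM1).symm (hcomm _ hM2 _ hm3))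
  exact hME (le_sup_right.trans (hE.le_of_ge h2 le_sup_left))

theorem fx_comm [FiniteDimensional F V] (ρ : Γ →* Module.End F V) (g y : Γ) :
    2 * finrank F (fx ρ g) ≤ finrank F V + finrank F (fx ρ ⁅g, y⁆) := by
  have h1 : finrank F ((fx ρ g).map (ρ y)) = finrank F (fx ρ g) :=
    (LinearEquiv.finrank_eq (Submodule.equivMapOfInjective _ (rho_inj ρ y) _)).symm
  have h2 : fx ρ g ⊓ (fx ρ g).map (ρ y) ≤ fx ρ ⁅g, y⁆ := by
    rintro _ ⟨hv, u, hu, rfl⟩
    have hv' := mem_fx.1 hv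
    have hu' := mem_fx.1 hu
    rw [mem_fx, commutatorElement_def, rho_mul, rho_mul, rho_mul, rho_inv]
    have : ρ g⁻¹ u = u := by
      conv_lhs => rw [← hu']
      exact rho_inv ρ g u
    rw [this, hv']
  have h3 := Submodule.finrank_sup_add_finrank_inf_eq (fx ρ g) ((fx ρ g).map (ρ y))
  have h4 := Submodule.finrank_mono h2
  have h5 := Submodule.finrank_le (fx ρ g ⊔ (fx ρ g).map (ρ y))
  omega

theorem main [Finite Γ] [Group.IsSolvable Γ] [FiniteDimensional F V] (ρ : Γ →* Module.End F V)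
    (hf : Function.Injective ρ) (hp : Prim ρ) (g : Γ) (hg : g ≠ 1) :
    4 * finrank F (fx ρ g) ≤ 3 * finrank F V := by
  obtain ⟨E, hn, hcl, hC⟩ := exists_cl2 (Γ := Γ)
  have hZ : ∀ c : Γ, c ≠ 1 → (∀ x ∈ E, Commute c x) → finrank F (fx ρ c) = 0 := by
    intro c hc1 hc
    have := abel_fx ρ hf hp (centralizer (E : Set Γ)) (fun x hx y hy => by
      exact hy x (hC x fun z hz => (hx z hz).symm)) c (fun x hx => (hc x hx).symm) hc1
    rw [this, finrank_bot]
  have hE : ∀ w ∈ E, w ≠ 1 → 2 * finrank F (fx ρ w) ≤ finrank F V := by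
    intro w hw hw1
    by_cases h : ∀ x ∈ E, Commute w x
    · rw [hZ w hw1 h]; omega
    · push Not at h
      obtain ⟨y, hy, hwy⟩ := h
      have h1 := fx_comm ρ w y
      rw [hZ ⁅w, y⁆ (fun h => hwy (commutatorElement_eq_one_iff_commute.1 h)) (hcl w hw y hy)] at h1
      omega
  by_cases h : ∀ x ∈ E, Commute g x
  · rw [hZ g hg h]; omega
  · push Not at h
    obtain ⟨y, hy, hgy⟩ := h
    have h1 := fx_comm ρ g y
    have h2 := hE ⁅g, y⁆ (by
      rw [commutatorElement_def]; exact mul_mem (hn.conj_mem y hy g) (inv_mem hy))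
      (fun h => hgy (commutatorElement_eq_one_iff_commute.1 h))
    omega

theorem prim_of [Finite Γ] [FiniteDimensional F V] (ρ : Γ →* Module.End F V)
    (hirr : ∀ W : Submodule F V, (∀ g, W.map (ρ g) ≤ W) → W = ⊥ ∨ W = ⊤)
    (hprim : ∀ (m t : ℕ) (D : Fin t → Submodule F V), 2 ≤ t → 0 < m → (∀ i, finrank F (D i) = m) →
      iSupIndep D → iSup D = ⊤ →
      ¬ ∀ g, ∃ σ : Equiv.Perm (Fin t), ∀ i, (D i).map (ρ g) = D (σ i)) : Prim ρ := by
  classical
  intro U hU hind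
  have := Fintype.ofFinite Γ
  set T : Finset (Submodule F V) := Finset.univ.image fun g => U.map (ρ g) with hT
  have hmem : ∀ W, W ∈ T ↔ ∃ g, U.map (ρ g) = W := by intro W; simp [hT]
  have hmm : ∀ g k : Γ, (U.map (ρ k)).map (ρ g) = U.map (ρ (g * k)) := by
    intro g k; rw [← Submodule.map_comp, map_mul]; rfl
  have hU1 : U.map (ρ 1) = U := by rw [map_one]; exact Submodule.map_id U
  have hUT : U ∈ T := (hmem U).2 ⟨1, hU1⟩
  have hTg : ∀ g, ∀ W ∈ T, W.map (ρ g) ∈ T := by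
    intro g W hW
    obtain ⟨k, rfl⟩ := (hmem W).1 hW
    exact (hmem _).2 ⟨g * k, (hmm g k).symm⟩
  by_cases h2 : 2 ≤ T.card
  · exfalso
    let e : Fin T.card ≃ T := T.equivFin.symm
    have hinj : ∀ g, Function.Injective (fun W : Submodule F V => W.map (ρ g)) :=
      fun g => Submodule.map_injective_of_injective (rho_inj ρ g)
    refine hprim (finrank F U) T.card (fun i => (e i : Submodule F V)) h2
      (Nat.pos_of_ne_zero fun h => hU (Submodule.finrank_eq_zero.1 h)) ?_ ?_ ?_ ?_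
    · intro i
      obtain ⟨k, hk⟩ := (hmem _).1 (e i).2
      show finrank F (e i : Submodule F V) = _
      rw [← hk]
      exact (LinearEquiv.finrank_eq (Submodule.equivMapOfInjective _ (rho_inj ρ k) _)).symm
    · intro i
      obtain ⟨k, hk⟩ := (hmem _).1 (e i).2
      rw [Submodule.disjoint_def]
      intro v hv hv'
      replace hv : v ∈ U.map (ρ k) := hk ▸ hv
      obtain ⟨u, hu, rfl⟩ := hv
      have hu0 : u = 0 := by
        refine hind (Finset.univ.filter fun g => U.map (ρ g) ≠ U) (by simp) u hu ?_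
        have : (⨆ j, ⨆ (_ : j ≠ i), (e j : Submodule F V)) ≤
            ((Finset.univ.filter fun g => U.map (ρ g) ≠ U).sup fun g => U.map (ρ g)).map (ρ k) := by
          refine iSup₂_le fun j hj => ?_
          obtain ⟨l, hl⟩ := (hmem _).1 (e j).2
          have h3 : (e j : Submodule F V) = (U.map (ρ (k⁻¹ * l))).map (ρ k) := by
            rw [hmm, ← hl]; simp
          rw [h3]
          refine Submodule.map_mono (Finset.le_sup (f := fun g => U.map (ρ g)) ?_)
          simp only [Finset.mem_filter, Finset.mem_univ, true_and]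
          intro h
          rw [h, hk] at h3
          exact hj (e.injective (Subtype.ext h3))
        obtain ⟨w, hw, hwu⟩ := this hv'
        rwa [← rho_inj ρ k hwu]
      rw [hu0, map_zero]
    · refine (hirr _ fun g => ?_).resolve_left ?_
      · rw [Submodule.map_iSup]
        refine iSup_le fun i => ?_
        refine le_iSup_of_le (e.symm ⟨_, hTg g _ (e i).2⟩) ?_
        simp
      · intro h
        apply hU
        rw [eq_bot_iff, ← h]
        refine le_iSup_of_le (e.symm ⟨U, hUT⟩) ?_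
        simp
    · intro g
      let f : Fin T.card → Fin T.card := fun i => e.symm ⟨_, hTg g _ (e i).2⟩
      have hf : Function.Injective f := by
        intro i j hij
        have h1 := e.symm.injective hij
        exact e.injective (Subtype.ext (hinj g (congrArg Subtype.val h1)))
      refine ⟨Equiv.ofBijective f (Finite.injective_iff_bijective.1 hf), fun i => ?_⟩
      simp [f]
  · have h1 : T.card ≤ 1 := by omega
    refine (hirr U fun g => ?_).resolve_left hU
    exact (Finset.card_le_one.1 h1 _ (hTg g U hUT) U hUT).le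

theorem s5876 {F : Type*} [Field F] [Fintype F] {n : ℕ} (G : Subgroup (Matrix.GeneralLinearGroup (Fin n) F))
    (hsol : IsSolvable G) (hirr : Cfsg.Geo.ActsIrreducibly (Cfsg.Geo.matrixSet G))
    (hprim : ∀ (m t : ℕ) (D : Fin t → Submodule F (Fin n → F)), 2 ≤ t → Cfsg.Geo.IsMDecomposition m D →
      ¬ G ≤ Cfsg.Geo.decompositionStabilizer D)
    (g : Matrix.GeneralLinearGroup (Fin n) F) (hg : g ∈ G) (hg1 : g ≠ 1) :
    4 * Module.finrank F (Module.End.eigenspace (Matrix.toLin' (g : Matrix (Fin n) (Fin n) F)) 1) ≤ 3 * n := by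
  classical
  let ρ : G →* Module.End F (Fin n → F) :=
    { toFun := fun x => Matrix.toLin' ((x : Matrix.GeneralLinearGroup (Fin n) F) : Matrix (Fin n) (Fin n) F)
      map_one' := by simp; rfl
      map_mul' := fun x y => by
        simp only [Subgroup.coe_mul, Units.val_mul, Matrix.toLin'_mul]; rfl }
  have hf : Function.Injective ρ := by
    intro x y h
    exact Subtype.ext (Units.ext (Matrix.toLin'.injective h))
  have hp : Prim ρ := by
    refine prim_of ρ (fun W hW => hirr W ?_) fun m t D h2 hm hD hi hs hall => ?_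
    · rintro _ ⟨x, hx, rfl⟩
      exact hW ⟨x, hx⟩
    · exact hprim m t D h2 ⟨h2, hm, hD, hi, hs⟩ fun x hx => hall ⟨x, hx⟩
  have : Group.IsSolvable G := hsol
  have := main ρ hf hp ⟨g, hg⟩ (fun h => hg1 (congrArg Subtype.val h))
  have h2 : Module.End.eigenspace (Matrix.toLin' (g : Matrix (Fin n) (Fin n) F)) 1 = fx ρ ⟨g, hg⟩ := by
    ext v
    rw [Module.End.mem_eigenspace_iff, mem_fx, one_smul]; rfl
  rw [h2]
  simpa using this

end CfsgPS
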