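import Cfsg.Agent.S3779

set_option autoImplicit false
set_option linter.unusedSectionVars false

open Subgroup Cfsg CfsgH2 CfsgH2.Kre
open scoped commutatorElement

namespace CfsgAlp

open TensorProduct in
/-- eigenspace decomposition after extending scalars -/
theorem lie_bound' {L : Type*} [LieRing L] {p : ℕ} [NeZero p] (hp : p.Prime) {R : Type*} [CommRing R] (T : ZMod p → R)
    (hT : ∀ i j, T i * T j = T (i + j)) (hT0 : T 0 = 1) (lam : R →ₗ[ℤ] ℤ) (h3 : lam (p - ∑ i, T i) = -1)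
    (f : L →+ L) (hf : ∀ x y, f ⁅x, y⁆ = ⁅f x, f y⁆)
    (hfp : ∀ x, f^[p] x = x) (q : ℕ) (hN : ∀ x, q • ∑ k ∈ Finset.range p, f^[k] x = 0) (c : ℕ)
    (H : ∀ A : ZMod p → AddSubgroup (R ⊗[ℤ] L), br A A ≤ A → A 0 = ⊥ → lcs A c = ⊥)
    (W : ℕ → AddSubgroup L) (hW : ∀ m, W (m + 1) ≤ AddSubgroup.closure {z | ∃ x ∈ W m, ∃ y, ⁅x, y⁆ = z}) :
    ∀ x ∈ W c, (p ^ c * (q * p) ^ (c + 1)) • x = 0 := by
  classical
  haveI := Fact.mk hp
  have la : ∀ u v w : R ⊗[ℤ] L, ⁅u, v + w⁆ = ⁅u, v⁆ + ⁅u, w⁆ := fun u v w => LieRing.lie_add u v w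
  have lz : ∀ u : R ⊗[ℤ] L, ⁅u, (0 : R ⊗[ℤ] L)⁆ = 0 := fun u => by simpa using la u 0 0
  have ls : ∀ (r : R) (u v : R ⊗[ℤ] L), ⁅u, r • v⁆ = r • ⁅u, v⁆ := fun r u v => LieAlgebra.lie_smul r u v
  have sl : ∀ (r : R) (u v : R ⊗[ℤ] L), ⁅r • u, v⁆ = r • ⁅u, v⁆ := fun r u v => by
    have h1 : ∀ u v : R ⊗[ℤ] L, ⁅u, v⁆ = -⁅v, u⁆ := fun u v => (lie_skew u v).symm
    rw [h1, ls, h1 u v, smul_neg]
  let Φ : R ⊗[ℤ] L →ₗ[R] R ⊗[ℤ] L := f.toIntLinearMap.baseChange R
  have hΦ : ∀ r x, Φ (r ⊗ₜ x) = r ⊗ₜ f x := fun r x => rfl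
  have hΦl : ∀ u v, Φ ⁅u, v⁆ = ⁅Φ u, Φ v⁆ := by
    intro u v
    induction u with
    | zero => simp
    | add u u' h1 h2 => simp only [add_lie, map_add, h1, h2]
    | tmul r x =>
    induction v with
    | zero => simp [lz]
    | add u u' h1 h2 => simp only [la, map_add, h1, h2]
    | tmul s y => simp only [LieAlgebra.ExtendScalars.bracket_tmul, hΦ, hf]
  let A : ZMod p → AddSubgroup (R ⊗[ℤ] L) := fun i =>
    { carrier := {v | Φ v = T i • v}
      add_mem' := fun {a b} h1 h2 => by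
        show Φ (a + b) = T i • (a + b)
        rw [map_add, smul_add, h1, h2]
      zero_mem' := by simp
      neg_mem' := fun {a} h1 => by
        show Φ (-a) = T i • (-a)
        rw [map_neg, smul_neg, h1] }
  have hA : br A A ≤ A := br_le fun i j a ha b hb => by
    show Φ _ = _
    rw [hΦl, ha, hb, sl, ls, smul_smul, hT]
  have hit : ∀ k r x, Φ^[k] (r ⊗ₜ x) = r ⊗ₜ f^[k] x := by
    intro k r x
    induction k with
    | zero => rfl
    | succ k ih => rw [Function.iterate_succ_apply', Function.iterate_succ_apply', ih, hΦ]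
  let B : ZMod p → AddSubgroup (R ⊗[ℤ] L) := fun i => (A i).map (nsmulAddMonoidHom (q * p))
  have lns : ∀ (k : ℕ) (u v : R ⊗[ℤ] L), ⁅u, k • v⁆ = k • ⁅u, v⁆ := fun k u v => by
    induction k with
    | zero => simp [lz]
    | succ k ih => rw [succ_nsmul, la, ih, succ_nsmul]
  have hB : br B B ≤ B := br_le fun i j a ha b hb => by
    obtain ⟨a, ha, rfl⟩ := ha
    obtain ⟨b, hb, rfl⟩ := hb
    refine ⟨(q * p) • ⁅a, b⁆, nsmul_mem (mem_of_br_le hA ha hb) _, ?_⟩
    simp only [nsmulAddMonoidHom_apply]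
    rw [nsmul_lie, lns]
  have h0 : B 0 = ⊥ := by
    rw [eq_bot_iff]
    rintro _ ⟨v, hv, rfl⟩
    have hv : Φ v = v := by
      have : Φ v = T 0 • v := hv
      rwa [hT0, one_smul] at this
    have h1 : ∀ v, q • ∑ k ∈ Finset.range p, Φ^[k] v = 0 := by
      intro v
      induction v with
      | zero => simp
      | add u u' h1 h2 => simp only [iterate_map_add, Finset.sum_add_distrib, smul_add, h1, h2, add_zero]
      | tmul r x => simp only [hit, ← tmul_sum]; rw [← tmul_smul, hN, tmul_zero]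
    have := h1 v
    simp only [Function.iterate_fixed hv, Finset.sum_const, Finset.card_range] at this
    simp only [nsmulAddMonoidHom_apply, AddSubgroup.mem_bot]
    rw [mul_smul, this]
  have hc := H B hB h0
  obtain ⟨N, hNd⟩ : ∃ N, N = ∑ i, T i := ⟨_, rfl⟩
  rw [← hNd] at h3
  have hNT : ∀ i, N * T i = N := fun i => by
    simp only [hNd, Finset.sum_mul, hT]
    exact Fintype.sum_equiv (Equiv.addRight i) _ _ fun _ => rfl
  have hθ : ((p : R) - N) * (p - N) = p • (p - N) := by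
    have : N * N = p * N := by
      nth_rw 2 [hNd]
      rw [Finset.mul_sum]; simp [hNT]
    rw [nsmul_eq_mul]; linear_combination this
  have hgen : ∀ x : L, (q * p) • (((p : R) - N) ⊗ₜ[ℤ] x) ∈ ⨆ i, B i := by
    intro x
    obtain ⟨s, rfl⟩ : ∃ s, p = s + 1 := ⟨p - 1, by have := hp.pos; omega⟩
    have h1 : ∀ i, ∑ k ∈ Finset.range (s + 1), T (-(i * k)) ⊗ₜ[ℤ] f^[k] x ∈ A i := by
      intro i
      show Φ _ = _
      have e1 := Finset.sum_range_succ (fun k : ℕ => T (-(i * k)) ⊗ₜ[ℤ] f^[k] x) (s + 1)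
      rw [Finset.sum_range_succ' _ (s + 1), hfp, ZMod.natCast_self] at e1
      simp only [Nat.cast_zero, Function.iterate_zero, id_eq, add_left_inj] at e1
      nth_rw 2 [← e1]
      rw [map_sum, Finset.smul_sum]
      refine Finset.sum_congr rfl fun k _ => ?_
      rw [hΦ, smul_tmul', smul_eq_mul, hT, Function.iterate_succ_apply']
      congr 2
      push_cast; ring
    have h2 : ∑ i, ∑ k ∈ Finset.range (s + 1), T (-(i * k)) ⊗ₜ[ℤ] f^[k] x =
        (((s + 1 : ℕ) : R) - N) ⊗ₜ[ℤ] x + N ⊗ₜ[ℤ] ∑ k ∈ Finset.range (s + 1), f^[k] x := by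
      rw [Finset.sum_comm, Finset.sum_range_succ']
      have e1 : ∀ k ∈ Finset.range s, ∑ i : ZMod (s + 1), T (-(i * (k + 1 : ℕ))) ⊗ₜ[ℤ] f^[k + 1] x =
          N ⊗ₜ[ℤ] f^[k + 1] x := by
        intro k hk
        rw [← sum_tmul, hNd]
        congr 1
        have : ((k + 1 : ℕ) : ZMod (s + 1)) ≠ 0 := by
          rw [Ne, ZMod.natCast_eq_zero_iff]
          exact Nat.not_dvd_of_pos_of_lt (by omega) (by have := Finset.mem_range.1 hk; omega)
        exact Fintype.sum_equiv ((Equiv.mulRight₀ _ this).trans (Equiv.neg _)) _ _ fun _ => rfl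
      rw [Finset.sum_congr rfl e1, ← tmul_sum, Finset.sum_range_succ' (fun k => f^[k] x), tmul_add]
      simp only [Nat.cast_zero, mul_zero, neg_zero, hT0, Function.iterate_zero, id_eq, ← sum_tmul, Finset.sum_const,
        Finset.card_univ, ZMod.card, sub_tmul, tmul_neg]
      rw [smul_tmul', nsmul_eq_mul, mul_one]
      abel
    have h4 : (q * (s + 1)) • (N ⊗ₜ[ℤ] ∑ k ∈ Finset.range (s + 1), f^[k] x) = 0 := by
      rw [mul_comm, mul_smul, ← tmul_smul q, hN, tmul_zero, smul_zero]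
    have h5 := congrArg (fun v => (q * (s + 1)) • v) h2
    simp only [smul_add, h4, add_zero] at h5
    rw [← h5, Finset.smul_sum]
    exact sum_mem fun i _ => AddSubgroup.mem_iSup_of_mem i ⟨_, h1 i, rfl⟩
  have key : ∀ m, ∀ x ∈ W m, (p ^ m * (q * p) ^ (m + 1)) • (((p : R) - N) ⊗ₜ[ℤ] x) ∈ ⨆ i, lcs B m i := by
    intro m
    induction m with
    | zero => intro x _; rw [pow_zero, one_mul, zero_add, pow_one]; exact hgen x
    | succ m ih =>
      intro x hx
      replace hx := hW m hx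
      induction hx using AddSubgroup.closure_induction with
      | zero => simp
      | add x y _ _ h1 h2 => rw [tmul_add, smul_add]; exact add_mem h1 h2
      | neg x _ h1 => rw [tmul_neg, smul_neg]; exact neg_mem h1
      | mem z hz =>
        obtain ⟨x, hx, y, rfl⟩ := hz
        have : (p ^ (m + 1) * (q * p) ^ (m + 1 + 1)) • (((p : R) - N) ⊗ₜ[ℤ] ⁅x, y⁆) =
            ⁅(p ^ m * (q * p) ^ (m + 1)) • (((p : R) - N) ⊗ₜ[ℤ] x), (q * p) • (((p : R) - N) ⊗ₜ[ℤ] y)⁆ := by
          rw [nsmul_lie, lns, LieAlgebra.ExtendScalars.bracket_tmul, hθ, ← smul_tmul', smul_smul, smul_smul]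
          congr 1; ring
        rw [this]
        generalize (p ^ m * (q * p) ^ (m + 1)) • (((p : R) - N) ⊗ₜ[ℤ] x) = u, ih x hx = hu,
          (q * p) • (((p : R) - N) ⊗ₜ[ℤ] y) = v, hgen y = hv
        induction hu using AddSubgroup.iSup_induction' with
        | hp i u hu =>
          induction hv using AddSubgroup.iSup_induction' with
          | hp j v hv => exact AddSubgroup.mem_iSup_of_mem (i + j) (lie_mem_br hu hv)
          | h1 => rw [lz]; exact zero_mem _
          | hadd a b _ _ h1 h2 => rw [la]; exact add_mem h1 h2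
        | h1 => simp
        | hadd a b _ _ h1 h2 => rw [add_lie]; exact add_mem h1 h2
  intro x hx
  have h1 := key c x hx
  simp only [hc, Pi.bot_apply, iSup_bot, AddSubgroup.mem_bot] at h1
  have h2 := congrArg (fun v => TensorProduct.lid ℤ L (TensorProduct.map lam LinearMap.id v)) h1
  simp only [map_nsmul, map_tmul, h3, LinearMap.id_apply, lid_tmul, map_zero, neg_smul, one_smul, smul_neg,
    neg_eq_zero] at h2
  exact h2


end CfsgAlp
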