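import Cfsg.Agent.Lead.Sm18

set_option autoImplicit false
set_option linter.unusedSectionVars false

open Subgroup Cfsg CfsgH2 CfsgH2.Kre
open scoped commutatorElement

namespace CfsgAlp

universe u
variable {G : Type u} [Group G] [Finite G] {p m : ℕ}

/-- at most `m` fixed points -/
def FP (α : MulAut G) (m : ℕ) : Prop := Set.ncard {g | α g = g} ≤ m

/-- the displacement map -/
def dd (α : MulAut G) (g : G) : G := g⁻¹ * α g

theorem fib {α : MulAut G} (h : FP α m) (S : Set G) : Set.ncard {g | dd α g ∈ S} ≤ S.ncard * m := by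
  classical
  have := Fintype.ofFinite G
  rw [Set.ncard_eq_toFinset_card', Set.ncard_eq_toFinset_card', mul_comm]
  refine Finset.card_le_mul_card_image_of_maps_to (f := dd α) (by simp) m fun b _ => ?_
  rcases Finset.eq_empty_or_nonempty ({g | dd α g ∈ S}.toFinset.filter fun a => dd α a = b) with h0 | ⟨a0, h0⟩
  · rw [h0]; simp
  · refine le_trans ?_ h
    rw [Set.ncard_eq_toFinset_card']
    refine Finset.card_le_card_of_injOn (fun a => a * a0⁻¹) (fun a ha => ?_) fun a _ b _ h => by simpa using h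
    have h1 : dd α a = b := (Finset.mem_filter.1 ha).2
    have h2 : dd α a0 = b := (Finset.mem_filter.1 h0).2
    have h3 : α a = a * b := by rw [← h1, dd]; group
    have h4 : α a0 = a0 * b := by rw [← h2, dd]; group
    simp only [Set.coe_toFinset, Set.mem_setOf_eq, map_mul, map_inv, h3, h4]; group

theorem fib_iter {α : MulAut G} (h : FP α m) (S : Set G) (k : ℕ) :
    Set.ncard {g | (dd α)^[k] g ∈ S} ≤ S.ncard * m ^ k := by
  induction k with
  | zero => simp
  | succ k ih =>
    have := fib h {g | (dd α)^[k] g ∈ S}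
    simp only [Function.iterate_succ_apply]
    refine le_trans this ?_
    rw [pow_succ, ← mul_assoc]
    exact Nat.mul_le_mul_right _ ih

theorem card_le_iter {α : MulAut G} (h : FP α m) {M N : Subgroup G} (k : ℕ)
    (hk : ∀ g ∈ M, (dd α)^[k] g ∈ N) : Nat.card M ≤ Nat.card N * m ^ k := by
  refine le_trans ?_ (fib_iter h (N : Set G) k)
  exact Set.ncard_le_ncard (s := (M : Set G)) hk (Set.toFinite _)

/-- elements fixed modulo `N` -/
def DD (α : MulAut G) (N : Subgroup G) [N.Normal] : Subgroup G :=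
  (QuotientGroup.mk' N).eqLocus ((QuotientGroup.mk' N).comp α.toMonoidHom)

theorem mem_DD {α : MulAut G} {N : Subgroup G} [N.Normal] {g : G} : g ∈ DD α N ↔ dd α g ∈ N :=
  QuotientGroup.eq

theorem relIndex_DD {α : MulAut G} (h : FP α m) {N : Subgroup G} [N.Normal] (hN : ∀ g ∈ N, α g ∈ N) :
    N.relIndex (DD α N) ≤ m := by
  have h1 : N ≤ DD α N := fun g hg => mem_DD.2 (mul_mem (inv_mem hg) (hN g hg))
  have h2 := card_le_iter h (M := DD α N) (N := N) 1 fun g hg => mem_DD.1 hg
  rw [← CfsgH1.card_mul_relIndex h1, pow_one] at h2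
  exact Nat.le_of_mul_le_mul_left h2 Nat.card_pos

theorem pow_mem_of_dd [hp : Fact p.Prime] (hG : IsPGroup p G) {α : MulAut G} (h : FP α m) {N : Subgroup G} [N.Normal]
    (hN : ∀ g ∈ N, α g ∈ N) {g : G} (hg : dd α g ∈ N) : g ^ p ^ m ∈ N := by
  have h1 := relIndex_DD h hN
  obtain ⟨k, hk⟩ := (IsPGroup.iff_card.1 (hG.to_subgroup (DD α N)))
  obtain ⟨a, -, ha⟩ := (Nat.dvd_prime_pow hp.out).1 (hk ▸ relIndex_dvd_card N (DD α N))
  have h2 := N.pow_relIndex_mem (mem_DD.2 hg)
  rw [ha] at h1 h2
  have h3 : a ≤ m := ((Nat.lt_pow_self hp.out.one_lt).le).trans h1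
  obtain ⟨b, rfl⟩ := Nat.exists_eq_add_of_le h3
  rw [pow_add, pow_mul]; exact pow_mem h2 _

theorem exists_res (α : MulAut G) (Q : Subgroup G) (hQ : ∀ g ∈ Q, α g ∈ Q) (hα : α ^ p = 1) (h : FP α m) :
    ∃ β : MulAut Q, (∀ x, (β x : G) = α x) ∧ β ^ p = 1 ∧ FP β m := by
  let f : Q →* Q := (α.toMonoidHom.comp Q.subtype).codRestrict Q fun x => hQ x x.2
  have hf : Function.Injective f := fun x y hxy => Subtype.ext (α.injective (congrArg Subtype.val hxy))
  let β : MulAut Q := MulEquiv.ofBijective f (Finite.injective_iff_bijective.1 hf)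
  have h1 : ∀ x, (β x : G) = α x := fun x => rfl
  refine ⟨β, h1, ?_, le_trans ?_ h⟩
  · have : ∀ k x, ((β ^ k) x : G) = (α ^ k) x := by
      intro k
      induction k with
      | zero => intro x; rfl
      | succ k ih => intro x; rw [pow_succ', pow_succ', MulAut.mul_apply, MulAut.mul_apply, h1, ih]
    ext x
    rw [this, hα]; rfl
  · refine Set.ncard_le_ncard_of_injOn (fun x => (x : G)) (fun x hx => ?_) (fun x _ y _ h => Subtype.ext h)
      (Set.toFinite _)
    exact congrArg Subtype.val hx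

theorem exists_quo (α : MulAut G) (N : Subgroup G) [N.Normal] (hN : ∀ g ∈ N, α g ∈ N) (hα : α ^ p = 1)
    (h : FP α m) : ∃ β : MulAut (G ⧸ N), (∀ x : G, β x = (α x : G)) ∧ β ^ p = 1 ∧ FP β m := by
  let f : G ⧸ N →* G ⧸ N := QuotientGroup.map N N α.toMonoidHom hN
  have hf : Function.Surjective f := by
    intro x
    induction x using QuotientGroup.induction_on with | _ x => ?_
    exact ⟨(α.symm x : G), by simp [f]⟩
  let β : MulAut (G ⧸ N) := MulEquiv.ofBijective f (Finite.surjective_iff_bijective.1 hf)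
  have h1 : ∀ x : G, β x = (α x : G) := fun x => rfl
  refine ⟨β, h1, ?_, le_trans ?_ (relIndex_DD h hN)⟩
  · have : ∀ k (x : G), (β ^ k) x = ((α ^ k) x : G) := by
      intro k
      induction k with
      | zero => intro x; rfl
      | succ k ih => intro x; rw [pow_succ', pow_succ', MulAut.mul_apply, MulAut.mul_apply, ih, h1]
    ext x
    induction x using QuotientGroup.induction_on with | _ x => ?_
    rw [this, hα]; rfl
  · have h2 := relIndex_ker (K := DD α N) (QuotientGroup.mk' N)
    rw [QuotientGroup.ker_mk'] at h2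
    rw [h2]
    refine Set.ncard_le_ncard (t := ((DD α N).map (QuotientGroup.mk' N) : Set (G ⧸ N))) ?_ (Set.toFinite _)
    intro x hx
    induction x using QuotientGroup.induction_on with | _ x => ?_
    exact ⟨x, (show β x = x from hx).symm, rfl⟩

theorem end_pow (hp : p.Prime) {T : Type*} [AddCommGroup T] (f : AddMonoid.End T) (hf : f ^ p = 1) :
    ∃ r : AddMonoid.End T, ∀ K x, ((f - 1) ^ (p * K)) x = p ^ K • (r ^ K) x := by
  obtain ⟨r, hr⟩ := (Commute.one_right (f - 1)).exists_add_pow_prime_eq hp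
  rw [sub_add_cancel, hf, one_pow, mul_one] at hr
  refine ⟨-((f - 1) * r), fun K x => ?_⟩
  have h1 : (f - 1) ^ p = (p : AddMonoid.End T) * -((f - 1) * r) := by
    rw [mul_neg, ← mul_assoc, eq_neg_iff_add_eq_zero]
    have : (f - 1) ^ p + 1 + ↑p * (f - 1) * r - 1 = 0 := by rw [← hr, sub_self]
    rw [← this]; abel
  rw [pow_mul, h1, (Nat.cast_commute p _).mul_pow, ← Nat.cast_pow]; rfl

theorem e_iter {T : Type*} [AddCommGroup T] (α : MulAut G) (M : Subgroup G) (hM : ∀ g ∈ M, α g ∈ M) (e : G → T)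
    (he : ∀ g ∈ M, ∀ h ∈ M, e (g * h) = e g + e h) (f : AddMonoid.End T) (hf : ∀ g ∈ M, f (e g) = e (α g))
    (k : ℕ) : ∀ g ∈ M, (dd α)^[k] g ∈ M ∧ e ((dd α)^[k] g) = ((f - 1) ^ k) (e g) := by
  induction k with
  | zero => intro g hg; exact ⟨hg, rfl⟩
  | succ k ih =>
    intro g hg
    obtain ⟨h1, h2⟩ := ih g hg
    rw [Function.iterate_succ_apply']
    generalize (dd α)^[k] g = x at h1 h2
    refine ⟨mul_mem (inv_mem h1) (hM x h1), ?_⟩
    have h3 : e x + e (dd α x) = e (α x) := by
      rw [dd, ← he x h1 _ (mul_mem (inv_mem h1) (hM x h1))]; simp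
    rw [pow_succ', AddMonoid.End.coe_mul, Function.comp_apply, ← h2]
    show _ = f (e x) - e x
    rw [hf x h1, ← h3]; abel

theorem group_bound' [hp : Fact p.Prime] (hG : IsPGroup p G) (α : MulAut G) (hα : α ^ p = 1) (h : FP α m) (c : ℕ)
    (H : ∀ (M : Type u) [LieRing M] (A : ZMod p → AddSubgroup M), br A A ≤ A → A 0 = ⊥ → lcs A c = ⊥) :
    Nat.card (γ G c) ≤ Nat.card (γ G (c + 1)) * m ^ (p * (c + (m + 1) * (c + 1))) := by
  classical
  obtain ⟨f, hf, hf'⟩ := exists_aut α
  have hit : ∀ k i, ∀ g ∈ γ G i, f^[k] (e i g) = e i ((α ^ k) g) := by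
    intro k i g hg
    induction k with
    | zero => rfl
    | succ k ih => rw [Function.iterate_succ_apply', ih, hf _ _ (aut_mem_γ _ hg), pow_succ', MulAut.mul_apply]
  have hfp : ∀ x, f^[p] x = x := by
    intro x
    induction x using LG_induction with
    | hadd x y h1 h2 => rw [iterate_map_add, h1, h2]
    | he i g hg => rw [hit _ _ _ hg, hα]; rfl
  have := lie_bound' (R := AddMonoidAlgebra ℤ (ZMod p)) hp.out (fun i => AddMonoidAlgebra.single i 1)
    (fun i j => by simp only [AddMonoidAlgebra.single_mul_single, mul_one]) rfl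
    ((Finsupp.lapply 1).comp (AddMonoidAlgebra.coeffLinearEquiv ℤ).toLinearMap) ?_ f hf' hfp (p ^ m) ?_ c (H _)
    (fun m => AddSubgroup.closure (e m '' γ G m)) ?_
  · refine card_le_iter h _ fun g hg => ?_
    let F : AddMonoid.End (LG G) := f
    have hF : F ^ p = 1 := by
      ext x
      rw [AddMonoid.End.coe_pow]; exact hfp x
    obtain ⟨r, hr⟩ := end_pow hp.out F hF
    obtain ⟨h1, h2⟩ := e_iter α (γ G c) (fun g hg => aut_mem_γ α hg) (e c) (fun g hg h hh => e_mul hg hh) F
      (hf c) (p * (c + (m + 1) * (c + 1))) g hg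
    refine (e_eq_zero h1).1 ?_
    have h3 := this (e c g) (AddSubgroup.subset_closure ⟨g, hg, rfl⟩)
    rw [← pow_succ, ← pow_mul, ← pow_add] at h3
    rw [h2, hr, ← map_nsmul, h3, map_zero]
  · simp [AddMonoidAlgebra.natCast_def, Finsupp.single_apply]
  · intro x
    induction x using LG_induction with
    | hadd x y h1 h2 => simp only [iterate_map_add, Finset.sum_add_distrib, smul_add, h1, h2, add_zero]
    | he i g hg =>
      have h1 : ∀ n, ∃ y ∈ γ G i, ∑ k ∈ Finset.range n, f^[k] (e i g) = e i y := by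
        intro n
        induction n with
        | zero => exact ⟨1, one_mem _, by simp [e_one]⟩
        | succ n ih =>
          obtain ⟨y, hy, ih⟩ := ih
          refine ⟨y * (α ^ n) g, mul_mem hy (aut_mem_γ _ hg), ?_⟩
          rw [Finset.sum_range_succ, ih, hit _ _ _ hg, e_mul hy (aut_mem_γ _ hg)]
      obtain ⟨y, hy, h2⟩ := h1 p
      have h3 : f (e i y) = e i y := by
        rw [← h2, map_sum]
        have e1 := Finset.sum_range_succ (fun k => f^[k] (e i g)) p
        rw [Finset.sum_range_succ', hfp] at e1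
        simp only [Function.iterate_succ_apply', Function.iterate_zero, id_eq, add_left_inj] at e1
        exact e1
      have h4 : dd α y ∈ γ G (i + 1) := by
        refine (e_eq_zero (mul_mem (inv_mem hy) (aut_mem_γ α hy))).1 ?_
        rw [e_mul (inv_mem hy) (aut_mem_γ α hy), e_inv hy, ← hf _ _ hy, h3, neg_add_cancel]
      rw [h2, ← e_pow hy]
      exact e_zero (pow_mem_of_dd hG h (fun g hg => aut_mem_γ α hg) h4)
  · intro m
    refine (AddSubgroup.closure_le _).2 ?_
    rintro _ ⟨g, hg, rfl⟩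
    replace hg : g ∈ Subgroup.closure _ := hg
    induction hg using Subgroup.closure_induction with
    | mem x hx =>
      obtain ⟨a, ha, b, hb, rfl⟩ := hx
      exact AddSubgroup.subset_closure ⟨e m a, AddSubgroup.subset_closure ⟨a, ha, rfl⟩, e 0 b, lie_e ha hb⟩
    | one => rw [e_one]; exact zero_mem _
    | mul x y hx hy h1 h2 => rw [e_mul hx hy]; exact add_mem h1 h2
    | inv x hx h1 => rw [e_inv hx]; exact neg_mem h1

/-- iterated commutator with the whole group -/
def it (A : Subgroup G) : ℕ → Subgroup G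
  | 0 => A
  | k + 1 => ⁅it A k, ⊤⁆

instance it_normal (A : Subgroup G) [A.Normal] (k : ℕ) : (it A k).Normal := by
  induction k with
  | zero => assumption
  | succ k ih => exact commutator_normal _ _

theorem it_mono {A B : Subgroup G} (h : A ≤ B) (k : ℕ) : it A k ≤ it B k := by
  induction k with
  | zero => exact h
  | succ k ih => exact commutator_mono ih le_rfl

theorem it_succ' (A : Subgroup G) (k : ℕ) : it A (k + 1) = it ⁅A, ⊤⁆ k := by
  induction k with
  | zero => rfl
  | succ k ih => show ⁅it A (k + 1), ⊤⁆ = ⁅it ⁅A, ⊤⁆ k, ⊤⁆; rw [ih]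

theorem it_le_self (A : Subgroup G) [A.Normal] (k : ℕ) : it A k ≤ A := by
  induction k with
  | zero => exact le_rfl
  | succ k ih => exact (commutator_le_left _ _).trans ih

theorem comm_le_it (j : ℕ) : ∀ (A : Subgroup G) [A.Normal], ⁅A, γ G j⁆ ≤ it A (j + 1) := by
  induction j with
  | zero => intro A _; exact le_rfl
  | succ j ih =>
    intro A _
    have a : ⁅⁅A, γ G j⁆, ⊤⁆ ≤ it A (j + 1 + 1) := commutator_mono (ih A) le_rfl
    have b := ih ⁅A, ⊤⁆
    rw [← it_succ', Subgroup.commutator_comm A ⊤] at b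
    rw [Subgroup.commutator_comm]
    show ⁅⁅γ G j, ⊤⁆, A⁆ ≤ _
    rw [← QuotientGroup.ker_mk' (it A (j + 1 + 1)), ← Subgroup.map_eq_bot_iff] at a b ⊢
    simp only [Subgroup.map_commutator] at a b ⊢
    exact commutator_commutator_eq_bot_of_rotate b a

theorem le_of_le_comm (hn : Group.IsNilpotent G) {A B : Subgroup G} [B.Normal] (h : A ≤ ⁅A, ⊤⁆ ⊔ B) : A ≤ B := by
  obtain ⟨n, hn⟩ := Subgroup.nilpotent_iff_lowerCentralSeries.1 hn
  have h1 : A.map (QuotientGroup.mk' B) ≤ ⁅A.map (QuotientGroup.mk' B), ⊤⁆ := by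
    have := map_mono (f := QuotientGroup.mk' B) h
    rw [Subgroup.map_sup, Subgroup.map_commutator, (Subgroup.map_eq_bot_iff B).2 (QuotientGroup.ker_mk' B).ge,
      sup_bot_eq] at this
    exact this.trans (commutator_mono le_rfl le_top)
  have h2 : ∀ k, A.map (QuotientGroup.mk' B) ≤ ((⊤ : Subgroup G).lowerCentralSeries k).map (QuotientGroup.mk' B) := by
    intro k
    induction k with
    | zero => exact map_mono le_top
    | succ k ih =>
      rw [Subgroup.lowerCentralSeries_succ, Subgroup.map_commutator,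
        map_top_of_surjective _ (QuotientGroup.mk'_surjective B)]
      exact h1.trans (commutator_mono ih le_rfl)
  have h3 := h2 n
  rw [hn, Subgroup.map_bot, le_bot_iff, Subgroup.map_eq_bot_iff, QuotientGroup.ker_mk'] at h3
  exact h3

theorem it_le (hn : Group.IsNilpotent G) (B : Subgroup G) [B.Normal] (t : ℕ) :
    ∀ (A : Subgroup G) [A.Normal], B ≤ A → B.relIndex A ≤ t → it A t ≤ B := by
  induction t with
  | zero =>
    intro A _ _ h
    exact absurd (Nat.le_zero.1 h) FiniteIndex.index_ne_zero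
  | succ t ih =>
    intro A _ hBA h
    by_cases hA : A ≤ B
    · exact (it_le_self A _).trans hA
    have h1 : ⁅A, ⊤⁆ ⊔ B < A :=
      lt_of_le_of_ne (sup_le (commutator_le_left _ _) hBA) fun h => hA (le_of_le_comm hn h.ge)
    rw [it_succ']
    refine (it_mono le_sup_left t).trans (ih (⁅A, ⊤⁆ ⊔ B) le_sup_right ?_)
    have h2 := CfsgH1.card_mul_relIndex hBA
    have h3 := CfsgH1.card_mul_relIndex (le_sup_right : B ≤ ⁅A, ⊤⁆ ⊔ B)
    have h4 : Nat.card (⁅A, ⊤⁆ ⊔ B : Subgroup G) < Nat.card A :=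
      Set.ncard_lt_ncard (s := ((⁅A, ⊤⁆ ⊔ B : Subgroup G) : Set G)) (t := (A : Set G)) h1 (Set.toFinite _)
    rw [← h2, ← h3] at h4
    have := Nat.lt_of_mul_lt_mul_left h4
    omega

theorem der_add (Q : Subgroup G) {a : ℕ} (h : derivedSeries G a ≤ Q) (b : ℕ) :
    derivedSeries G (a + b) ≤ (derivedSeries Q b).map Q.subtype := by
  induction b with
  | zero => rw [derivedSeries_zero, ← MonoidHom.range_eq_map, range_subtype]; exact h
  | succ b ih => rw [← add_assoc, derivedSeries_succ, derivedSeries_succ, Subgroup.map_commutator]; exact commutator_mono ih ih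

theorem der_add_bot (Q : Subgroup G) {a b : ℕ} (h : derivedSeries G a ≤ Q) (h2 : derivedSeries Q b = ⊥) :
    derivedSeries G (a + b) = ⊥ := by
  have := der_add Q h b
  rwa [h2, Subgroup.map_bot, le_bot_iff] at this

theorem der_le_ker {G' : Type*} [Group G'] (f : G →* G') {a : ℕ} (h : derivedSeries G' a = ⊥) :
    derivedSeries G a ≤ f.ker := by
  rw [← Subgroup.map_eq_bot_iff, ← le_bot_iff, ← h]; exact map_derivedSeries_le_derivedSeries f a

theorem der_of_card {H : Type*} [Group H] [Finite H] [Group.IsSolvable H] {t : ℕ} (h : Nat.card H ≤ t) :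
    derivedSeries H t = ⊥ := by
  have : ∀ k, derivedSeries H k = ⊥ ∨ Nat.card (derivedSeries H k) + k ≤ Nat.card H := by
    intro k
    induction k with
    | zero => right; simp
    | succ k ih =>
      by_cases h0 : derivedSeries H k = ⊥
      · left; rw [derivedSeries_succ, h0, commutator_bot_left]
      · right
        have h1 := Group.IsSolvable.commutator_lt_of_ne_bot h0
        have h4 : Nat.card (⁅derivedSeries H k, derivedSeries H k⁆ : Subgroup H) < Nat.card (derivedSeries H k) :=
          Set.ncard_lt_ncard (s := ((⁅derivedSeries H k, derivedSeries H k⁆ : Subgroup H) : Set H))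
            (t := (derivedSeries H k : Set H)) h1 (Set.toFinite _)
        have := ih.resolve_left h0
        rw [derivedSeries_succ]; omega
  refine (this t).resolve_right fun h1 => ?_
  have : 0 < Nat.card (derivedSeries H t) := Nat.card_pos
  omega

theorem pgroup_bound (p m : ℕ) [hp : Fact p.Prime] : ∃ l, ∀ (G : Type u) [Group G] [Finite G], IsPGroup p G →
    ∀ α : MulAut G, α ^ p = 1 → FP α m → derivedSeries G l = ⊥ := by
  obtain ⟨c, hc⟩ : ∃ c, ∀ (M : Type u) [LieRing M] (A : ZMod p → AddSubgroup M), br A A ≤ A → A 0 = ⊥ →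
      lcs A c = ⊥ := ⟨_, fun M _ A h1 h2 => kostrikin hp.out _ A h1 h2 (kreknin h1 h2)⟩
  have hc' : ∀ (M : Type u) [LieRing M] (A : ZMod p → AddSubgroup M), br A A ≤ A → A 0 = ⊥ →
      lcs A (c + 1) = ⊥ := by
    intro M _ A h1 h2
    show br (lcs A c) A = ⊥
    rw [hc M A h1 h2, ← le_bot_iff]
    refine br_le fun i j a ha b hb => ?_
    have : a = 0 := ha
    simp [this]
  obtain ⟨t, ht⟩ : ∃ t, t = m ^ (p * (c + 1 + (m + 1) * (c + 1 + 1))) * m ^ (p * (c + (m + 1) * (c + 1))) := ⟨_, rfl⟩
  refine ⟨t + (c + 1), fun G _ _ hG α hα h => ?_⟩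
  have hn : Group.IsNilpotent G := hG.isNilpotent
  obtain ⟨β, -, hβ, hβ'⟩ := exists_res α (γ G t) (fun g hg => aut_mem_γ α hg) hα h
  have h1 := group_bound' (hG.to_subgroup _) β hβ hβ' c hc
  have h2 := group_bound' (hG.to_subgroup _) β hβ hβ' (c + 1) hc'
  have h3 : Nat.card (γ (γ G t) c) ≤ Nat.card (γ (γ G t) (c + 1 + 1)) * t := by
    refine h1.trans ?_
    rw [ht, ← mul_assoc, ← ht]
    exact Nat.mul_le_mul_right _ h2
  rw [← CfsgH1.card_map_subtype, ← CfsgH1.card_map_subtype (K := γ (γ G t) (c + 1 + 1)),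
    top_subtype_lowerCentralSeries, top_subtype_lowerCentralSeries] at h3
  have h4 : (γ G t).lowerCentralSeries (c + 1 + 1) ≤ (γ G t).lowerCentralSeries c :=
    Subgroup.lowerCentralSeries_antitone _ (by omega)
  rw [← CfsgH1.card_mul_relIndex h4] at h3
  have h5 := it_le hn _ t _ h4 (Nat.le_of_mul_le_mul_left h3 Nat.card_pos)
  have h6 : (γ G t).lowerCentralSeries (c + 1) ≤ (γ G t).lowerCentralSeries (c + 1 + 1) :=
    (comm_le_it t _).trans ((commutator_le_left _ _).trans h5)
  rw [← top_subtype_lowerCentralSeries (γ G t), ← top_subtype_lowerCentralSeries (γ G t),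
    map_le_map_iff_of_injective (subtype_injective _)] at h6
  have h7 : (⊤ : Subgroup (γ G t)).lowerCentralSeries (c + 1) ≤ ⊥ :=
    le_of_le_comm (hG.to_subgroup _).isNilpotent (h6.trans le_sup_left)
  exact der_add_bot (γ G t) (Subgroup.derived_le_lower_central t) (le_bot_iff.1 ((Subgroup.derived_le_lower_central _).trans h7))

theorem card_le_frattini [hp : Fact p.Prime] (hG : IsPGroup p G) (α : MulAut G) (hα : α ^ p = 1) (h : FP α m) :
    (frattini G).index ≤ m ^ p := by
  let F : AddMonoid.End (Additive (Abelianization G)) := MonoidHom.toAdditive (Abelianization.map α.toMonoidHom)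
  let e : G → Additive (Abelianization G) := fun g => Additive.ofMul (Abelianization.of g)
  have hf : ∀ g, F (e g) = e (α g) := fun g => rfl
  have hF : F ^ p = 1 := by
    have : ∀ k g, (F ^ k) (e g) = e ((α ^ k) g) := by
      intro k g
      induction k with
      | zero => rfl
      | succ k ih => rw [pow_succ', AddMonoid.End.coe_mul, Function.comp_apply, ih, hf, pow_succ', MulAut.mul_apply]
    refine AddMonoidHom.ext fun x => ?_
    obtain ⟨g, hg⟩ := QuotientGroup.mk_surjective (Additive.toMul x)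
    obtain rfl : x = e g := congrArg Additive.ofMul hg.symm
    exact (this p g).trans (by rw [hα]; rfl)
  obtain ⟨r, hr⟩ := end_pow hp.out F hF
  have h1 := card_le_iter h (M := ⊤) (N := frattini G) (p * 1) fun g _ => by
    obtain ⟨-, h2⟩ := e_iter α ⊤ (fun _ _ => mem_top _) e (fun g _ h _ => by simp [e]) F (fun g _ => hf g) (p * 1) g
      (mem_top _)
    rw [hr] at h2
    obtain ⟨y, hy⟩ := QuotientGroup.mk_surjective (Additive.toMul ((r ^ 1) (e g)))
    have h3 : (r ^ 1) (e g) = e y := congrArg Additive.ofMul hy.symm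
    rw [h3, pow_one] at h2
    have h4 : Abelianization.of (y ^ p) = Abelianization.of ((dd α)^[p * 1] g) := by
      rw [map_pow]; exact (congrArg Additive.toMul h2).symm
    have h5 : (y ^ p)⁻¹ * (dd α)^[p * 1] g ∈ _root_.commutator G := QuotientGroup.eq.1 h4
    have := mul_mem (pow_mem_frattini hG y) (commutator_le_frattini hG h5)
    simpa using this
  rw [card_top, ← (frattini G).card_mul_index, mul_one] at h1
  exact Nat.le_of_mul_le_mul_left h1 Nat.card_pos

theorem core_bound (p m : ℕ) [hp : Fact p.Prime] : ∃ l, ∀ (G : Type u) [Group G] [Finite G] [Group.IsSolvable G],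
    pPrimeCore p G = ⊥ → ∀ α : MulAut G, α ^ p = 1 → FP α m → derivedSeries G l = ⊥ := by
  obtain ⟨l, hl⟩ := pgroup_bound.{u} p m
  refine ⟨(m ^ p).factorial + l, fun G _ _ _ h0 α hα h => ?_⟩
  have hc := CfsgH1.IsPSolvable.centralizer_pCore_le (p := p) (G := G) CfsgH1.isPSolvable_of_isSolvable h0
  have hP := CfsgH1.isPGroup_pCore p G
  set P := pCore p G with hPd
  obtain ⟨β, -, hβ, hβ'⟩ := exists_res α P
    (fun g hg => (characteristic_iff_le_comap.1 (CfsgH1.pCore_characteristic p G) α) hg) hα h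
  refine der_add_bot P ?_ (hl P hP β hβ hβ')
  have h1 := card_le_frattini hP β hβ hβ'
  let ψ : G →* Equiv.Perm (P ⧸ frattini P) :=
    { toFun := fun g => (QuotientGroup.congr (frattini P) (frattini P) (MulAut.conjNormal g)
        (characteristic_iff_map_eq.1 inferInstance _)).toEquiv
      map_one' := by
        ext x
        induction x using QuotientGroup.induction_on with | _ x => ?_
        simp
      map_mul' := fun a b => by
        ext x
        induction x using QuotientGroup.induction_on with | _ x => ?_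
        simp; rfl }
  have hψ : ∀ g (x : P), ψ g (x : P ⧸ frattini P) = (MulAut.conjNormal g x : P) := fun g x => rfl
  have h2 : derivedSeries G (m ^ p).factorial ≤ ψ.ker := by
    rw [← MonoidHom.ker_rangeRestrict]
    have : Group.IsSolvable ψ.range := Group.isSolvable_of_surjective ψ.rangeRestrict_surjective
    refine der_le_ker _ (der_of_card ?_)
    refine (Nat.le_of_dvd Nat.card_pos (card_subgroup_dvd_card _)).trans ?_
    rw [Nat.card_perm]
    exact Nat.factorial_le h1
  refine h2.trans (CfsgH1.le_pCore ?_)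
  have h3 : ∀ x ∈ ψ.ker, (orderOf x).Coprime p → x = 1 := by
    intro x hx hxp
    have h4 : P ≤ centralizer ((zpowers x : Subgroup G) : Set G) := by
      refine CfsgH1.le_centralizer_of_commutator_le_frattini (le_normalizer_of_normal) ?_ ?_
      · rw [Nat.card_zpowers]
        obtain ⟨k, hk⟩ := IsPGroup.iff_card.1 (hP.to_subgroup (frattini P))
        rw [hk]; exact hxp.pow_right k
      · refine commutator_le.2 fun a ha b hb => ?_
        have h5 : ψ b = 1 := (zpowers_le.2 hx) hb
        have h6 := hψ b ⟨a⁻¹, inv_mem ha⟩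
        rw [h5] at h6
        refine ⟨_, QuotientGroup.eq.1 h6, ?_⟩
        simp [commutatorElement_def, mul_assoc]
    have h7 : x ∈ P := hc fun a ha => (h4 ha x (mem_zpowers x)).symm
    obtain ⟨k, hk⟩ := hP ⟨x, h7⟩
    have h8 : orderOf x ∣ p ^ k := orderOf_dvd_of_pow_eq_one (congrArg Subtype.val hk)
    exact orderOf_eq_one_iff.1 (Nat.Coprime.eq_one_of_dvd (hxp.pow_right k) h8)
  intro x
  obtain ⟨k, n, hn, hk⟩ := Nat.exists_eq_pow_mul_and_not_dvd (orderOf_pos (x : G)).ne' p hp.out.ne_one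
  refine ⟨k, Subtype.ext (h3 _ (pow_mem x.2 _) ?_)⟩
  have : orderOf ((x : G) ^ p ^ k) ∣ n := orderOf_dvd_of_pow_eq_one (by rw [← pow_mul, ← hk, pow_orderOf_eq_one])
  exact Nat.Coprime.coprime_dvd_left this ((hp.out.coprime_iff_not_dvd).2 hn).symm

theorem s3782 (p : ℕ) (hp : p.Prime) (n : ℕ) : ∃ l : ℕ, ∀ (G : Type) [Group G] [Finite G], Group.IsSolvable G →
    ∀ α : MulAut G, orderOf α = p → Nat.card {g : G // α g = g} = p ^ n → derivedSeries G l = ⊥ := by
  have := Fact.mk hp
  obtain ⟨l, hl⟩ := core_bound.{0} p (p ^ n)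
  refine ⟨l + Finset.sum (Finset.range (2 ^ (p - 1) - 1)) (fun i => (p - 1) ^ i), fun G _ _ hs α hα hc => ?_⟩
  have hα' : α ^ p = 1 := hα ▸ pow_orderOf_eq_one α
  have h : FP α (p ^ n) := le_of_eq hc
  have hN : ∀ g ∈ pPrimeCore p G, α g ∈ pPrimeCore p G := fun g hg =>
    (characteristic_iff_le_comap.1 (inferInstance : (pPrimeCore p G).Characteristic) α) hg
  obtain ⟨β, -, hβ, hβ'⟩ := exists_quo α (pPrimeCore p G) hN hα' h
  have h1 := der_le_ker (QuotientGroup.mk' (pPrimeCore p G))
    (hl _ (CfsgH1.pPrimeCore_quotient_pPrimeCore p G) β hβ hβ')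
  rw [QuotientGroup.ker_mk'] at h1
  refine der_add_bot _ h1 ?_
  obtain ⟨δ, hδ0, hδ, -⟩ := exists_res α (pPrimeCore p G) hN hα' h
  have hf : ∀ x, δ x = x → x = 1 := by
    intro x hx
    have h2 : (x : G) ∈ α.toMonoidHom.eqLocus (MonoidHom.id G) := by
      show α x = x
      rw [← hδ0, hx]
    have h3 : orderOf (x : G) ∣ p ^ n := by
      rw [← hc]; exact Subgroup.orderOf_dvd_natCard _ h2
    have h4 : orderOf (x : G) ∣ Nat.card (pPrimeCore p G) := Subgroup.orderOf_dvd_natCard _ x.2
    have h5 := ((CfsgH1.coprime_card_pPrimeCore p G).pow_right n)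
    exact Subtype.ext (orderOf_eq_one_iff.1 (Nat.eq_one_of_dvd_coprimes h5 h4 h3))
  by_cases h6 : δ = 1
  · rw [eq_bot_iff]
    intro x _
    exact hf x (by rw [h6]; rfl)
  · have := (Cfsg.Agent.S3779.result hp δ (orderOf_eq_prime hδ h6) hf).2.2
    exact le_bot_iff.1 ((Subgroup.derived_le_lower_central _).trans this.le)

end CfsgAlp
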