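import Cfsg.Agent.H9.Beq
import Cfsg.Agent.H2.Q8b

set_option autoImplicit false
set_option linter.unusedSectionVars false

open Subgroup Cfsg CfsgH2
open scoped commutatorElement

namespace CfsgBq

variable {G : Type*} [Group G] [Finite G] {p : ℕ} [hp : Fact p.Prime]

theorem cube_center (hc : Nat.card G = p ^ 3) (hn : ¬ IsMulCommutative G) :
    Nat.card (center G) = p ∧ ∀ a b : G, ⁅a, b⁆ ∈ center G := by
  have hG : IsPGroup p G := .of_card hc
  have : Nontrivial G := by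
    by_contra h
    have := not_nontrivial_iff_subsingleton.1 h
    exact hn ⟨⟨fun a b => Subsingleton.elim _ _⟩⟩
  have h0 := hG.center_nontrivial
  obtain ⟨i, hi, h1⟩ := (Nat.dvd_prime_pow hp.out).1 (hc ▸ card_subgroup_dvd_card (center G))
  have h2 := card_eq_card_quotient_mul_card_subgroup (center G)
  rw [hc, h1] at h2
  have hpos := hp.out.pos
  have h3 : Nat.card (G ⧸ center G) = p ^ (3 - i) := by
    apply Nat.eq_of_mul_eq_mul_right (pow_pos hpos i)
    rw [← h2, ← pow_add]; congr 1; omega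
  have h4 : ¬ IsCyclic (G ⧸ center G) := fun _ => hn (isMulCommutative_of_isCyclic_quotient_center_self G)
  interval_cases i
  · exact absurd h1 (by simpa using (Finite.one_lt_card (α := center G)).ne')
  · refine ⟨by simpa using h1, fun a b => ?_⟩
    have := IsPGroup.isMulCommutative_of_card_eq_prime_sq (p := p) h3
    rw [← QuotientGroup.eq_one_iff]
    show QuotientGroup.mk' _ ⁅a, b⁆ = 1
    rw [map_commutatorElement, commutatorElement_eq_one_iff_mul_comm]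
    exact this.is_comm.comm _ _
  · exact absurd (isCyclic_of_prime_card (p := p) (by simpa using h3)) h4
  · have : Subsingleton (G ⧸ center G) := (Nat.card_eq_one_iff_unique.1 (by simpa using h3)).1
    exact absurd isCyclic_of_subsingleton h4

theorem exists_w (P : Sylow p G) (hc : Nat.card P = p ^ 3) (hn : ¬ IsMulCommutative P) (he : ∀ x ∈ P, x ^ p = 1)
    (hC : ∀ H K : Subgroup G, Nat.card H = p → Nat.card K = p → ∃ g : G, K = H.map (MulAut.conj g).toMonoidHom) :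
    ∃ u a b : G, orderOf u = p ∧ a ^ p = 1 ∧ b ^ p = 1 ∧ (b * a * b) ^ 2 * u * ((b * a * b) ^ 2)⁻¹ = u⁻¹ := by
  obtain ⟨h1, h2⟩ := cube_center hc hn
  have hZ : ∀ z : P, z ∈ center P → z ≠ 1 → ∀ y ∈ center P, y ∈ zpowers z := by
    intro z hz hz1 y hy
    have h3 : zpowers z = center P := by
      refine eq_of_le_of_card_le (zpowers_le.2 hz) ?_
      refine h1.le.trans ?_
      rw [Nat.card_zpowers, orderOf_eq_prime (Subtype.ext (he z z.2)) hz1]
    rwa [h3]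
  have hnc : ∀ x : P, x ∉ center P → ∃ a : P, ⁅a, x⁆ ≠ 1 := by
    intro x hx
    by_contra h
    push Not at h
    exact hx (mem_center_iff.2 fun a => commutatorElement_eq_one_iff_mul_comm.1 (h a))
  obtain ⟨x, hx⟩ : ∃ x : P, x ∉ center P := by
    by_contra h
    push Not at h
    exact hn ⟨⟨fun a b => mem_center_iff.1 (h b) a⟩⟩
  obtain ⟨a, ha⟩ := hnc x hx
  set z := ⁅a, x⁆ with hz
  have hzc : z ∈ center P := h2 a x
  have hx1 : x ≠ 1 := fun h => hx (h ▸ one_mem _)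
  have ho : ∀ y : P, y ≠ 1 → orderOf (y : G) = p := fun y hy =>
    orderOf_eq_prime (he y y.2) fun h => hy (Subtype.ext h)
  obtain ⟨g0, hg0⟩ := hC (zpowers (x : G)) (zpowers (z : G)) (by rw [Nat.card_zpowers, ho x hx1])
    (by rw [Nat.card_zpowers, ho z ha])
  have hPz : (P : Subgroup G) ≤ centralizer {(z : G)} := fun y hy =>
    mem_centralizer_singleton_iff.2 (congrArg Subtype.val (mem_center_iff.1 hzc ⟨y, hy⟩))
  have hxz : Commute (x : G) z := congrArg Subtype.val (mem_center_iff.1 hzc x)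
  have h3 : g0 * z * g0⁻¹ ∈ centralizer {(z : G)} := by
    have : (z : G) ∈ (zpowers (x : G)).map (MulAut.conj g0).toMonoidHom := hg0 ▸ mem_zpowers _
    obtain ⟨_, ⟨k, rfl⟩, hk⟩ := this
    rw [mem_centralizer_singleton_iff]
    have hk : g0 * (x : G) ^ k * g0⁻¹ = z := hk
    have e := (hxz.zpow_left k).eq
    nth_rw 2 3 [← hk]
    calc g0 * z * g0⁻¹ * (g0 * x ^ k * g0⁻¹) = g0 * (z * x ^ k) * g0⁻¹ := by group
      _ = _ := by rw [← e]; group
  obtain ⟨c, hc1, hc2⟩ := (IsSylowIn.of_sylow P hPz).exists_cj_le (Q := zpowers (g0 * z * g0⁻¹))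
    (isPGroup_zpowers_of_orderOf (k := 1) (by rw [orderOf_conj', ho z ha, pow_one])) (zpowers_le.2 h3)
  rw [cj_zpowers, zpowers_le] at hc2
  obtain ⟨k, hk⟩ : g0 * x * g0⁻¹ ∈ zpowers (z : G) := hg0 ▸ ⟨x, mem_zpowers _, rfl⟩
  have hk : (z : G) ^ k = g0 * x * g0⁻¹ := hk
  have hcz : Commute c (z : G) := mem_centralizer_singleton_iff.1 hc1
  obtain ⟨g, hg⟩ : ∃ g, g = c * g0 := ⟨_, rfl⟩
  have hgx : g * x * g⁻¹ = (z : G) ^ k := by
    calc g * x * g⁻¹ = c * (g0 * x * g0⁻¹) * c⁻¹ := by rw [hg]; group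
      _ = _ := by rw [← hk, (hcz.zpow_right k).eq]; group
  have hy : g * z * g⁻¹ ∈ (P : Subgroup G) := by
    have : g * z * g⁻¹ = c * (g0 * z * g0⁻¹) * c⁻¹ := by rw [hg]; group
    rwa [this]
  let y : P := ⟨_, hy⟩
  have hy1 : y ≠ 1 := fun h => ha (Subtype.ext (by simpa [y] using congrArg Subtype.val h))
  have hyc : y ∉ center P := by
    intro h
    obtain ⟨j, hj⟩ := hZ y h hy1 (z ^ k) (zpow_mem hzc k)
    have hj : (g * z * g⁻¹) ^ j = (z : G) ^ k := congrArg Subtype.val hj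
    rw [conj_zpow, ← hgx] at hj
    have : x = z ^ j := Subtype.ext (by simpa using hj.symm)
    exact hx (this ▸ zpow_mem hzc j)
  obtain ⟨a', ha'⟩ := hnc y hyc
  obtain ⟨m, hm⟩ := hZ _ (h2 a' y) ha' (z ^ k)⁻¹ (inv_mem (zpow_mem hzc k))
  have hm : ⁅a', y⁆ ^ m = (z ^ k)⁻¹ := hm
  have h4 : ∀ n : ℤ, a' ^ n * y * (a' ^ n)⁻¹ = ⁅a', y⁆ ^ n * y := by
    have e : a' * y * a'⁻¹ = ⁅a', y⁆ * y := by simp [commutatorElement_def]
    have hw := h2 a' y
    generalize ⁅a', y⁆ = w at e hw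
    have cw : ∀ n : ℤ, ∀ s : P, s * w ^ n = w ^ n * s := fun n s => mem_center_iff.1 (zpow_mem hw n) s
    have e' : a'⁻¹ * y * a' = w⁻¹ * y := by
      have := cw 1 a'⁻¹
      rw [zpow_one] at this
      calc a'⁻¹ * y * a' = w⁻¹ * (w * a'⁻¹) * y * a' := by group
        _ = w⁻¹ * a'⁻¹ * (w * y) * a' := by rw [← this]; group
        _ = _ := by rw [← e]; group
    intro n
    induction n using Int.induction_on with
    | zero => simp
    | succ n ih =>
      calc a' ^ ((n : ℤ) + 1) * y * (a' ^ ((n : ℤ) + 1))⁻¹ = a' * (a' ^ (n : ℤ) * y * (a' ^ (n : ℤ))⁻¹) * a'⁻¹ := by group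
        _ = (a' * w ^ (n : ℤ)) * y * a'⁻¹ := by rw [ih]; group
        _ = w ^ (n : ℤ) * (a' * y * a'⁻¹) := by rw [cw]; group
        _ = _ := by rw [e]; group
    | pred n ih =>
      calc a' ^ (-(n : ℤ) - 1) * y * (a' ^ (-(n : ℤ) - 1))⁻¹
          = a'⁻¹ * (a' ^ (-(n : ℤ)) * y * (a' ^ (-(n : ℤ)))⁻¹) * a' := by group
        _ = (a'⁻¹ * w ^ (-(n : ℤ))) * y * a' := by rw [ih]; group
        _ = w ^ (-(n : ℤ)) * (a'⁻¹ * y * a') := by rw [cw]; group
        _ = _ := by rw [e']; group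
  have h5 := h4 m
  rw [hm] at h5
  obtain ⟨u, hu⟩ : ∃ u : G, u = (z : G) ^ k := ⟨_, rfl⟩
  obtain ⟨v, hv⟩ : ∃ v : G, v = g * z * g⁻¹ := ⟨_, rfl⟩
  obtain ⟨A, hA⟩ : ∃ A : G, A = (a' ^ m : P) := ⟨_, rfl⟩
  obtain ⟨B, hB⟩ : ∃ B : G, B = g * a * g⁻¹ := ⟨_, rfl⟩
  have e1 : A * v * A⁻¹ = u⁻¹ * v := by rw [hA, hu, hv]; exact congrArg Subtype.val h5
  have e2 : A * u * A⁻¹ = u := by
    have := congrArg Subtype.val (mem_center_iff.1 (zpow_mem hzc k) (a' ^ m))
    rw [hA, hu, mul_inv_eq_iff_eq_mul]; exact this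
  have e3 : B * u * B⁻¹ = v * u := by
    have : (z : G) = a * x * (a : G)⁻¹ * (x : G)⁻¹ := rfl
    rw [hB, hu, hv, ← hgx, this]; group
  have e4 : B * v * B⁻¹ = v := by
    have := congrArg Subtype.val (mem_center_iff.1 hzc a)
    have : (a : G) * z = z * a := this
    rw [hB, hv]
    calc g * a * g⁻¹ * (g * z * g⁻¹) * (g * a * g⁻¹)⁻¹ = g * (a * z) * (a : G)⁻¹ * g⁻¹ := by group
      _ = _ := by rw [this]; group
  have e5 : v * u = u * v := by
    have := congrArg Subtype.val (mem_center_iff.1 (zpow_mem hzc k) y)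
    rw [hu, hv]; exact this
  have f1 : B * A * B * u * (B * A * B)⁻¹ = v := by
    calc B * A * B * u * (B * A * B)⁻¹ = B * (A * (B * u * B⁻¹) * A⁻¹) * B⁻¹ := by group
      _ = B * ((A * v * A⁻¹) * (A * u * A⁻¹)) * B⁻¹ := by rw [e3]; group
      _ = B * (u⁻¹ * (v * u)) * B⁻¹ := by rw [e1, e2]; group
      _ = _ := by rw [e5, inv_mul_cancel_left, e4]
  have f2 : B * A * B * v * (B * A * B)⁻¹ = u⁻¹ := by
    calc B * A * B * v * (B * A * B)⁻¹ = B * (A * (B * v * B⁻¹) * A⁻¹) * B⁻¹ := by group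
      _ = B * (A * v * A⁻¹) * B⁻¹ := by rw [e4]
      _ = (B * u * B⁻¹)⁻¹ * (B * v * B⁻¹) := by rw [e1]; group
      _ = _ := by rw [e3, e4]; group
  refine ⟨u, A, B, by rw [hu, ← hgx, orderOf_conj', ho x hx1], hA ▸ he _ (a' ^ m).2, ?_, ?_⟩
  · rw [hB, conj_pow, he a a.2]; group
  · generalize B * A * B = w at f1 f2
    calc w ^ 2 * u * (w ^ 2)⁻¹ = w * (w * u * w⁻¹) * w⁻¹ := by rw [sq]; group
      _ = _ := by rw [f1, f2]

theorem s4020 (hD : ∀ p : ℕ, p.Prime → ∀ H K : Subgroup G, IsPGroup p H → IsPGroup p K → Nat.card H = Nat.card K →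
      ∃ g : G, K = H.map (MulAut.conj g).toMonoidHom) (P : Sylow p G) :
    IsCyclic P ∨ Cfsg.IsElementaryAbelian p (P : Subgroup G) ∨ Nonempty ((P : Subgroup G) ≃* QuaternionGroup 2) := by
  rcases CfsgH9.sylow_beq (hD p hp.out) P.isPGroup' with h | h | h | ⟨h2, hn, hc, he⟩
  · exact .inl h
  · exact .inr (.inl h)
  · exact .inr (.inr h.2)
  exfalso
  have hC : ∀ H K : Subgroup G, Nat.card H = p → Nat.card K = p → ∃ g : G, K = H.map (MulAut.conj g).toMonoidHom :=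
    fun H K a b => hD p hp.out H K (.of_card (a.trans (pow_one p).symm)) (.of_card (b.trans (pow_one p).symm))
      (a.trans b.symm)
  obtain ⟨u, a, b, hu, ha, hb, hw⟩ := exists_w P hc hn he hC
  have hodd := hp.out.odd_of_ne_two h2
  have hcop : Nat.Coprime 2 p := (Nat.coprime_primes Nat.prime_two hp.out).2 (Ne.symm h2)
  obtain ⟨e, m, hm, hem⟩ := Nat.exists_eq_two_pow_mul_odd (orderOf_pos (b * a * b)).ne'
  obtain ⟨t, ht⟩ : ∃ t, t = (b * a * b) ^ m := ⟨_, rfl⟩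
  have ht1 : t ^ 2 ^ e = 1 := by rw [ht, ← pow_mul, mul_comm m, ← hem, pow_orderOf_eq_one]
  have ht2 : t ^ 2 * u * (t ^ 2)⁻¹ = u⁻¹ := by
    rw [ht, ← pow_mul, mul_comm m, pow_mul]
    generalize (b * a * b) ^ 2 = s at hw
    obtain ⟨j, rfl⟩ := hm
    have h1 : s * u⁻¹ * s⁻¹ = u := by rw [← conj_inv, hw, inv_inv]
    have h3 : Commute (s ^ 2) u := by
      show s ^ 2 * u = u * s ^ 2
      calc s ^ 2 * u = s * (s * u * s⁻¹) * s⁻¹ * s ^ 2 := by rw [sq]; group
        _ = _ := by rw [hw, h1]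
    calc s ^ (2 * j + 1) * u * (s ^ (2 * j + 1))⁻¹ = s * ((s ^ 2) ^ j * u) * ((s ^ 2) ^ j)⁻¹ * s⁻¹ := by
          rw [← pow_mul]; group
      _ = _ := by rw [(h3.pow_left j).eq, ← hw]; group
  have hu2 : ∀ N : Subgroup G, u ^ 2 ∈ N → u ∈ N := fun N h =>
    (zpowers_le.2 h) (mem_zpowers_pow_iff.2 (by rw [hu]; exact hcop))
  have ht3 : t ^ 2 ≠ 1 := by
    intro h
    rw [h, one_mul, inv_one, mul_one] at ht2
    have : u ∈ (⊥ : Subgroup G) := hu2 _ (by rw [mem_bot, sq]; nth_rw 2 [ht2]; exact mul_inv_cancel u)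
    rw [mem_bot.1 this, orderOf_one] at hu
    exact hp.out.one_lt.ne hu
  obtain ⟨k, -, hk⟩ := (Nat.dvd_prime_pow Nat.prime_two).1 (orderOf_dvd_of_pow_eq_one ht1)
  have hO : u ∉ pPrimeCore 2 G := by
    intro h
    have h1 : p ∣ Nat.card (pPrimeCore 2 G) := hu ▸ Subgroup.orderOf_dvd_natCard _ h
    have h3 := CfsgH9.mem_of_conj_p hC h1 ha
    have h4 := CfsgH9.mem_of_conj_p hC h1 hb
    have h5 : t ∈ pPrimeCore 2 G := ht ▸ pow_mem (mul_mem (mul_mem h4 h3) h4) m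
    have h6 := Subgroup.orderOf_dvd_natCard _ h5
    have h7 : orderOf t = 1 := Nat.eq_one_of_dvd_coprimes ((CfsgH1.coprime_card_pPrimeCore 2 G).pow_right k) h6
      (hk ▸ dvd_rfl)
    exact ht3 (by rw [orderOf_eq_one_iff.1 h7, one_pow])
  obtain ⟨S⟩ : Nonempty (Sylow 2 G) := inferInstance
  obtain ⟨g, hg⟩ := exists_conj_mem_sylow S hk
  rcases CfsgH9.sylow_beq (hD 2 Nat.prime_two) S.isPGroup' with h | h | ⟨-, ⟨f⟩⟩ | h
  · have h1 : (Nat.card G).minFac = 2 := by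
      rw [Nat.minFac_eq_two_iff]
      refine dvd_trans ?_ (orderOf_dvd_natCard t)
      rw [hk]
      refine dvd_pow_self 2 fun h0 => ht3 ?_
      rw [h0, pow_zero, orderOf_eq_one_iff] at hk
      rw [hk, one_pow]
    let φ := MonoidHom.transferSylow S (IsCyclic.normalizer_le_centralizer h1 h)
    refine hO (CfsgH1.le_pPrimeCore (N := φ.ker) ?_ ?_)
    · exact ((Nat.Prime.coprime_iff_not_dvd Nat.prime_two).2 (MonoidHom.not_dvd_card_ker_transferSylow S _)).symm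
    · obtain ⟨j, hj⟩ := S.isPGroup' (φ u)
      have h3 : φ u ^ p = 1 := by rw [← map_pow, ← hu, pow_orderOf_eq_one, map_one]
      exact (pow_eq_one_iff_of_coprime (hcop.pow_left j)).1 ⟨hj, h3⟩
  · have := h.2 _ hg
    rw [conj_pow] at this
    exact ht3 (by simpa using this)
  · have h4 : ∀ x : QuaternionGroup 2, x ^ 4 = 1 := by decide
    have h5 : ∀ x y : QuaternionGroup 2, x * x = 1 → x ≠ 1 → y * y = 1 → y ≠ 1 → x = y := by decide
    have hU : UniqInv (S : Subgroup G) := by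
      intro x hx y hy h1 h3
      obtain ⟨a1, a2⟩ := orderOf_two_iff.1 h1
      obtain ⟨b1, b2⟩ := orderOf_two_iff.1 h3
      refine congrArg Subtype.val (f.injective (h5 (f ⟨x, hx⟩) (f ⟨y, hy⟩) ?_ ?_ ?_ ?_))
      · rw [← map_mul, ← map_one f]; exact congrArg f (Subtype.ext a1)
      · exact fun h => a2 (congrArg Subtype.val (f.map_eq_one_iff.1 h))
      · rw [← map_mul, ← map_one f]; exact congrArg f (Subtype.ext b1)
      · exact fun h => b2 (congrArg Subtype.val (f.map_eq_one_iff.1 h))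
    have h6 : t ^ 4 = 1 := by
      have := h4 (f ⟨_, hg⟩)
      rw [← map_pow, f.map_eq_one_iff] at this
      have h7 : (g * t * g⁻¹) ^ 4 = 1 := congrArg Subtype.val this
      rw [conj_pow] at h7
      simpa using h7
    have h8 := brauer_suzuki (IsSylowIn.of_sylow_top S) hU (t := t ^ 2)
      (orderOf_two_of (by rw [← pow_add]; exact h6) ht3) u
    rw [ht2] at h8
    exact hO (hu2 _ (by simpa [sq] using inv_mem h8))
  · exact h.1 rfl

end CfsgBq
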