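import Cfsg.Agent.H1.PLength
import Cfsg.Agent.H1.SZ
import Cfsg.Agent.H1.Coprime
import Cfsg.Agent.H2.Critical

set_option autoImplicit false
set_option linter.unusedSectionVars false

open Subgroup Cfsg CfsgH2
open scoped commutatorElement Pointwise

namespace CfsgGY

variable {G : Type*} [Group G] [Finite G] {p : ℕ} [hp : Fact p.Prime]

/-- characteristic subgroups of order divisible by `p` contain all elements of order `p` -/
def TT (p : ℕ) (G : Type*) [Group G] : Prop :=
  ∀ H : Subgroup G, H.Characteristic → p ∣ Nat.card H → ∀ x : G, x ^ p = 1 → x ∈ H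

theorem TT.quot (h : TT p G) (N : Subgroup G) [N.Characteristic] (hN : (Nat.card N).Coprime p) : TT p (G ⧸ N) := by
  intro H hH hd x hx
  induction x using QuotientGroup.induction_on with | _ x => ?_
  have h1 : x ^ p ∈ N := (QuotientGroup.eq_one_iff _).1 hx
  have h2 : (x ^ Nat.card N) ^ p = 1 := by
    rw [← pow_mul, mul_comm, pow_mul]
    exact congrArg Subtype.val (pow_card_eq_one' (G := N) (x := ⟨_, h1⟩))
  have h3 := h (H.comap (QuotientGroup.mk' N)) (Characteristic.comap_quotient_mk hH)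
    (by rw [CfsgH1.card_comap_of_surjective _ (QuotientGroup.mk'_surjective N)]; exact hd.mul_right _) _ h2
  have h4 : (x : G ⧸ N) ^ Nat.card N ∈ H := h3
  refine (zpowers_le.2 h4) (mem_zpowers_pow_iff.2 ?_)
  exact Nat.Coprime.coprime_dvd_right (orderOf_dvd_of_pow_eq_one hx) hN

theorem core (hp2 : p ≠ 2) (hG : IsPSolvable p G) (h0 : pPrimeCore p G = ⊥) (h : TT p G) : PLengthLE p 1 G := by
  rw [CfsgH1.pLengthLE_one_iff, CfsgH1.pPrimePCore_eq_pCore h0, Nat.coprime_comm, hp.out.coprime_iff_not_dvd]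
  intro hd
  have hc := CfsgH1.IsPSolvable.centralizer_pCore_le hG h0
  have hF := CfsgH1.isPGroup_pCore p G
  have hq := CfsgH1.pCore_quotient_pCore p G
  have hch := CfsgH1.pCore_characteristic p G
  have hsq := CfsgH1.IsPSolvable.quotient hG (pCore p G)
  set F := pCore p G with hFd
  set K := (pPrimeCore p (G ⧸ F)).comap (QuotientGroup.mk' F) with hK
  have hKc : K.Characteristic := Characteristic.comap_quotient_mk inferInstance
  have hFK : F ≤ K := fun x hx => by
    show QuotientGroup.mk' F x ∈ pPrimeCore p (G ⧸ F)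
    rw [(QuotientGroup.eq_one_iff (N := F) x).2 hx |> fun e => (e : QuotientGroup.mk' F x = 1)]; exact one_mem _
  have hri : F.relIndex K = Nat.card (pPrimeCore p (G ⧸ F)) := by
    have := relIndex_ker (K := K) (QuotientGroup.mk' F)
    rw [QuotientGroup.ker_mk', hK, map_comap_eq_self_of_surjective (QuotientGroup.mk'_surjective F)] at this
    exact this
  have hcop : (F.relIndex K).Coprime p := hri ▸ CfsgH1.coprime_card_pPrimeCore p _
  obtain ⟨Q, hQK, hQc, hdis, hsup⟩ := CfsgH1.sz_exists hFK le_normalizer_of_normal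
    (CfsgH1.IsPGroup.coprime_card_of_coprime hF hcop)
  have hQp : (Nat.card Q).Coprime p := hQc ▸ hcop
  have hfr : normalizer (Q : Set G) ⊔ F = ⊤ := by
    rw [eq_top_iff]
    intro g _
    obtain ⟨n, hn, h1⟩ := CfsgH1.sz_le (B := cj g Q) le_normalizer_of_normal hdis
      (by rw [hsup, ← cj_eq_of_normal g K]; exact map_mono hQK)
      (by rw [card_cj]; exact (CfsgH1.IsPGroup.coprime_card_of_coprime hF hQp).symm)
      (Or.inr (by have := hF.isNilpotent; infer_instance))
    have h2 : n * g ∈ normalizer (Q : Set G) := mem_normalizer_of_conj_mem fun x hx => by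
      refine h1 ⟨g * x * g⁻¹, ⟨x, hx, rfl⟩, ?_⟩
      simp [mul_assoc]
    have : g = n⁻¹ * (n * g) := by group
    rw [this]
    exact mul_mem (mem_sup_right (inv_mem hn)) (mem_sup_left h2)
  have h1 : p ∣ Nat.card (normalizer (Q : Set G)) := by
    refine hd.trans ?_
    rw [← relIndex_top_right, ← hfr, relIndex_sup_right]
    exact relIndex_dvd_card _ _
  obtain ⟨v, hv⟩ := exists_prime_orderOf_dvd_card' p h1
  have hv' : orderOf (v : G) = p := by rw [Subgroup.orderOf_coe]; exact hv
  have hvp : (v : G) ^ p = 1 := hv' ▸ pow_orderOf_eq_one _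
  have hF0 : F ≠ ⊥ := by
    intro h2
    rw [h2] at hc
    have : (⊤ : Subgroup G) ≤ ⊥ := fun x _ => hc fun y hy => by rw [mem_bot.1 hy]; simp
    have h3 : F = ⊤ := top_le_iff.1 (this.trans bot_le)
    rw [h3, index_top] at hd
    exact hp.out.not_dvd_one hd
  have hZ : (v : G) ∈ (center F).map F.subtype := by
    refine h _ inferInstance ?_ _ hvp
    rw [CfsgH1.card_map_subtype]
    have := (nontrivial_iff_ne_bot F).2 hF0
    have := hF.center_nontrivial
    obtain ⟨k, hk⟩ := IsPGroup.iff_card.1 (hF.to_subgroup (center F))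
    rw [hk]
    refine dvd_pow_self p fun h2 => ?_
    rw [h2, pow_zero] at hk
    exact (Finite.one_lt_card (α := center F)).ne' hk
  obtain ⟨z, hz, hzv⟩ := hZ
  have hzv : (z : G) = v := hzv
  have h2 : (v : G) ∈ centralizer (Q : Set G) := CfsgH1.mem_centralizer_of_mem_normalizer le_normalizer_of_normal hdis
    (hzv ▸ z.2) fun a ha => conj_mem_of_mem_normalizer v.2 ha
  have h3 : (v : G) ∈ centralizer (K : Set G) := by
    rw [← zpowers_le, le_centralizer_iff, ← hsup, sup_le_iff, ← le_centralizer_iff, ← le_centralizer_iff (K := Q),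
      zpowers_le, zpowers_le]
    exact ⟨fun x hx => hzv ▸ congrArg Subtype.val (mem_center_iff.1 hz ⟨x, hx⟩), h2⟩
  have h4 := h (centralizer (K : Set G)) inferInstance (hv' ▸ Subgroup.orderOf_dvd_natCard _ h3)
  have h5 : Q ≤ F := (le_centralizer_of_omegaOne hp2 hQp F hF le_normalizer_of_normal
    fun x _ hx => centralizer_le (SetLike.coe_subset_coe.2 hQK) (h4 x hx)).trans hc
  have h6 : Nat.card (pPrimeCore p (G ⧸ F)) = 1 := by
    rw [← hri, relIndex_eq_one, ← hsup]; exact sup_le le_rfl h5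
  rw [card_eq_one] at h6
  by_cases h7 : (⊤ : Subgroup (G ⧸ F)) = ⊥
  · have : F.index = 1 := by rw [index_eq_card, ← card_top, h7, card_bot]
    exact hp.out.not_dvd_one (this ▸ hd)
  · obtain ⟨M, hM, hM0, -, h8 | h8⟩ := CfsgH1.IsPSolvable.exists_normal_le hsq ⊤ h7
    · exact hM0 (le_bot_iff.1 (h6 ▸ CfsgH1.le_pPrimeCore h8))
    · exact hM0 (le_bot_iff.1 (hq ▸ CfsgH1.le_pCore h8))

theorem s3798 (hp2 : p ≠ 2) (hG : IsPSolvable p G)
    (htrans : ∀ U V : Subgroup G, Nat.card U = p → Nat.card V = p → ∃ a : MulAut G, U.map a.toMonoidHom = V) :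
    PLengthLE p 1 G := by
  have h : TT p G := by
    intro H hH hd x hx
    by_cases hx1 : x = 1
    · rw [hx1]; exact one_mem _
    obtain ⟨v, hv⟩ := exists_prime_orderOf_dvd_card' p hd
    obtain ⟨a, ha⟩ := htrans (zpowers (v : G)) (zpowers x) (by rw [Nat.card_zpowers, Subgroup.orderOf_coe, hv])
      (by rw [Nat.card_zpowers, orderOf_eq_prime hx hx1])
    rw [← zpowers_le, ← ha]
    exact (map_mono (zpowers_le.2 v.2)).trans (characteristic_iff_map_le.1 hH a)
  refine CfsgH1.PLengthLE.of_quotient_coprime (pPrimeCore p G) (CfsgH1.coprime_card_pPrimeCore p G) ?_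
  exact core hp2 (CfsgH1.IsPSolvable.quotient hG _) (CfsgH1.pPrimeCore_quotient_pPrimeCore p G)
    (h.quot _ (CfsgH1.coprime_card_pPrimeCore p G))

end CfsgGY
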