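import Cfsg.Agent.Lead.Sm14

set_option autoImplicit false
set_option linter.unusedSectionVars false

namespace CfsgMC
open Subgroup Cfsg CfsgH2
open scoped commutatorElement

section
variable {G : Type*} [Group G] [Finite G] {p n : ℕ} [hp : Fact p.Prime]

theorem exists_not_mem (hG : IsPGroup p G) (H : ℕ → Subgroup G) (h : ∀ i < p, H i ≠ ⊤) : ∃ g, ∀ i < p, g ∉ H i := by
  classical
  by_contra! c
  have := Fintype.ofFinite G
  have h1 : (Finset.univ.erase (1 : G)) ⊆ (Finset.range p).biUnion fun i => (H i : Set G).toFinset.erase 1 := by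
    intro g hg
    obtain ⟨i, hi, hg'⟩ := c g
    simp only [Finset.mem_biUnion, Finset.mem_range, Finset.mem_erase, Set.mem_toFinset, SetLike.mem_coe]
    exact ⟨i, hi, (Finset.mem_erase.1 hg).1, hg'⟩
  have h2 := (Finset.card_le_card h1).trans Finset.card_biUnion_le
  have h3 : ∀ i ∈ Finset.range p, ((H i : Set G).toFinset.erase 1).card * p + p ≤ Nat.card G := by
    intro i hi
    have e := mul_card_le_of_lt (hG.to_subgroup ⊤) (lt_top_iff_ne_top.2 (h i (Finset.mem_range.1 hi)))
    rw [card_top] at e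
    have e2 : ((H i : Set G).toFinset.erase 1).card + 1 = Nat.card (H i) := by
      rw [Finset.card_erase_add_one (by simp), ← Set.ncard_eq_toFinset_card']; rfl
    rw [← e2] at e; linarith
  have h4 := Finset.sum_le_sum h3
  rw [Finset.sum_add_distrib, ← Finset.sum_mul] at h4
  simp only [Finset.sum_const, Finset.card_range, smul_eq_mul] at h4
  have h5 : (Finset.univ.erase (1 : G)).card + 1 = Nat.card G := by
    rw [Finset.card_erase_add_one (by simp), Nat.card_eq_fintype_card, Finset.card_univ]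
  have := hp.out.two_le
  generalize ∑ i ∈ Finset.range p, ((H i : Set G).toFinset.erase 1).card = a at h2 h4
  generalize (Finset.univ.erase (1 : G)).card = b at h2 h5
  rw [← h5] at h4
  nlinarith

theorem MX.exists_adv' (h : MX p n G) {M : Subgroup G} (hM : M ≠ ⊤) : ∃ s : G, s ∉ M ∧ Adv s (n - 1) := by
  have n3 := h.three
  have p2 := hp.out.two_le
  obtain ⟨s, hs0⟩ := exists_not_mem h.pg (fun i => if i = 0 then M else if i + 3 ≤ n then Cn G i else Cn G 0) fun i _ => by
    split_ifs with a b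
    exacts [hM, h.Cn_ne b, h.Cn_ne (by omega)]
  have hs : Adv s (min (p + 1) (n - 1)) := by
    intro j j1 j2
    rcases j with _ | j
    · refine hs0 1 (by omega) ?_
      simp only [one_ne_zero, if_false]
      split_ifs
      · exact L1_le_Cn 1 (h.Cn_zero j2)
      · exact j2
    · refine hs0 (j + 1) (by omega) ?_
      simp only [Nat.succ_ne_zero, if_false]
      rw [if_pos (by omega)]; exact j2
  refine ⟨s, by simpa using hs0 0 (by omega), ?_⟩
  suffices ∀ t, Adv s (min (p + 1 + t) (n - 1)) by simpa [show n - 1 ≤ p + 1 + n by omega] using this n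
  intro t
  induction t with
  | zero => exact hs
  | succ t ih =>
    by_cases c : p + 1 + t + 2 ≤ n
    · rw [min_eq_left (by omega)] at ih ⊢
      exact h.step (m := p + 1 + t) ih (by omega) c
    · rwa [min_eq_right (by omega)] at ih ⊢

theorem MX.L_le_adv (h : MX p n G) {K : Subgroup G} {s : G} (hs : Adv s (n - 1)) (hK : s ∈ K) (t : ℕ) :
    ∀ j, n ≤ j + t → 1 ≤ j → ∀ w ∈ K, w ∈ L G j → w ∉ L G (j + 1) → L G j ≤ K := by
  induction t with
  | zero => exact fun j a _ _ _ _ _ => (h.bot_iff.2 (by omega)).trans_le bot_le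
  | succ t ih =>
    intro j a b w w1 w2 w3
    by_cases c : j + 2 ≤ n
    swap
    · exact (h.bot_iff.2 (by omega)).trans_le bot_le
    rw [← sup_zpowers_eq_of_relIndex_prime (h.ridx b c) (L_le j.le_succ) w2 w3]
    refine sup_le ?_ (zpowers_le.2 w1)
    by_cases d : j + 3 ≤ n
    swap
    · exact (h.bot_iff.2 (by omega)).trans_le bot_le
    exact ih (j + 1) (by omega) (by omega) _ (mul_mem (inv_mem w1) (mul_mem (mul_mem hK w1) (inv_mem hK)))
      (dl_mem s w2) fun e => w3 (h.adv (hs j (by omega)) b c w2 e)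

theorem MX.L_le_of_notMem (h : MX p n G) {K : Subgroup G} [K.Normal] {w : G} (hw : w ∈ K) (j : ℕ) :
    1 ≤ j → w ∉ L G (j + 1) → L G j ≤ K := by
  induction j with
  | zero => omega
  | succ j ih =>
    intro _ h1
    by_cases c : w ∈ L G (j + 1)
    · exact h.L_le_of n _ (by omega) (by omega) w hw c h1
    rcases j with _ | j
    · obtain ⟨y, hy⟩ := not_forall.1 (mt mem_Cn.2 fun e => c (h.Cn_zero e))
      obtain ⟨-, hy⟩ := Classical.not_imp.1 hy
      refine h.L_le_of n 1 (by omega) le_rfl (dl w y) ?_ (dl_mem w (i := 0) trivial) hy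
      have : dl w y = y⁻¹ * w * y⁻¹⁻¹ * w⁻¹ := by simp [dl, mul_assoc]
      rw [this]
      exact mul_mem (Normal.conj_mem inferInstance _ hw _) (inv_mem hw)
    · exact (L_le (by omega)).trans (ih (by omega) c)

/-- the chain through a uniform element -/
def BB (s : G) (j : ℕ) : Subgroup G := L G j ⊔ zpowers s

variable {s : G} (h : MX p n G) (hs : Adv s (n - 1))
include h hs

theorem MX.notMem1 : s ∉ L G 1 := fun e => hs 0 (by have := h.three; omega) (L1_le_Cn 0 e)

theorem MX.ridx_B {j : ℕ} (h1 : 1 ≤ j) (h2 : j + 2 ≤ n) : (L G j).relIndex (BB s j) = p :=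
  relIndex_sup_zpowers (le_normalizer_of_normal (mem_top s)) (fun e => h.notMem1 hs (L_le h1 e))
    (L_le (by omega) (h.pow_cent hs (by omega)))

theorem MX.card_B {j : ℕ} (h2 : j + 2 ≤ n) : Nat.card (BB s j) = p ^ (n - j) := by
  rcases j with _ | j
  · have : BB s 0 = ⊤ := top_sup_eq _
    rw [this, Subgroup.card_top, h.card, Nat.sub_zero]
  · have e : L G (j + 1) ≤ BB s (j + 1) := le_sup_left
    rw [← card_mul_relIndex e, h.ridx_B hs (by omega) h2,
      h.card_L (by omega) (by omega), ← pow_succ]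
    congr 1; omega

theorem MX.B_le {j : ℕ} (h1 : 1 ≤ j) (h2 : j + 2 ≤ n) {y : G} (hy : y ∈ BB s j) (hy' : y ∉ L G j) {K : Subgroup G}
    (hK : L G j ≤ K) (hyK : y ∈ K) : s ∈ K := by
  have := sup_zpowers_eq_of_relIndex_prime (h.ridx_B hs h1 h2) le_sup_left hy hy'
  refine (sup_le hK (zpowers_le.2 hyK)) ?_
  rw [this]; exact mem_sup_right (mem_zpowers s)

theorem MX.adv_B {j : ℕ} (h1 : 1 ≤ j) (h2 : j + 2 ≤ n) {y : G} (hy : y ∈ BB s j) (hy' : y ∉ L G j) :
    Adv y (n - 1) := fun i hi e => hs i hi (h.B_le hs h1 h2 hy hy' ((L_le h1).trans (L1_le_Cn i)) e)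

omit h hs in
theorem B_norm (s : G) (j : ℕ) : BB s j ≤ normalizer (BB s (j + 1) : Set G) := by
  refine sup_le (fun y hy => mem_normalizer_of_conj_mem fun b hb => ?_)
    (zpowers_le.2 (le_normalizer (mem_sup_right (mem_zpowers s))))
  have : y * b * y⁻¹ = ⁅y, b⁆ * b := by simp [commutatorElement_def]
  rw [this]
  exact mul_mem (mem_sup_left (cm_mem hy (j := 0) trivial le_rfl)) hb

theorem MX.mem_L1 {j : ℕ} (h1 : 1 ≤ j) (h2 : j + 2 ≤ n) {M : Subgroup G} [M.Normal] (hM : s ∉ M) {u : G}
    (hu : u ∈ BB s j) (huM : u ∈ M) : u ∈ L G 1 := by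
  by_contra c
  exact hM (h.B_le hs h1 h2 hu (fun e => c (L_le h1 e))
    ((L_le h1).trans (h.L_le_of_notMem huM 1 le_rfl fun e => c (L_le (by omega) e))) huM)

end

section
variable {G : Type*} [Group G] [Finite G] {p n : ℕ} [hp : Fact p.Prime] {P : Sylow p G}

theorem norm_map {S : Subgroup G} {A B : Subgroup S} (h : A ≤ normalizer (B : Set S)) :
    A.map S.subtype ≤ normalizer (B.map S.subtype : Set G) := by
  rintro _ ⟨a, ha, rfl⟩
  refine mem_normalizer_of_conj_mem ?_
  rintro _ ⟨b, hb, rfl⟩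
  exact ⟨_, conj_mem_of_mem_normalizer (h ha) hb, rfl⟩

theorem cent_p2 (h : MX p n (P : Subgroup G)) {N : Subgroup G} [N.Normal] (hN : ¬ (P : Subgroup G) ≤ N)
    (hN2 : ¬ N.subgroupOf P ≤ L (P : Subgroup G) (n - 2)) :
    ∃ x ∈ (P : Subgroup G), (Nat.card (centralizer ({x} : Set G))).factorization p = 2 := by
  have n3 := h.three
  obtain ⟨s, hsM, hs⟩ := h.exists_adv' (M := N.subgroupOf P) (fun e => hN (subgroupOf_eq_top.1 e))
  obtain ⟨w, hw, hw'⟩ := SetLike.not_le_iff_exists.1 hN2
  have hL : ∀ j, 1 ≤ j → n ≤ j + 3 → L (P : Subgroup G) j ≤ N.subgroupOf P := by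
    intro j h1 h2
    by_cases c : n = 3
    · subst c
      exact (L_le h1).trans (h.L_le_of_notMem hw 1 le_rfl fun e => hw' (L_le (by omega) e))
    · exact (L_le (by omega)).trans (h.L_le_of_notMem hw (n - 3) (by omega)
        fun e => hw' (L_le (by omega) e))
  let B : ℕ → Subgroup G := fun j => (BB s j).map (P : Subgroup G).subtype
  have hBp : ∀ j, IsPGroup p (B j) := fun j => P.isPGroup'.to_le (map_subtype_le _)
  have hBc : ∀ j, j + 2 ≤ n → Nat.card (B j) = p ^ (n - j) := fun j hj => by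
    rw [CfsgH1.card_map_subtype, h.card_B hs hj]
  have hBn : ∀ j, B j ≤ normalizer (B (j + 1) : Set G) := fun j => norm_map (B_norm s j)
  have hsB : ∀ j, (s : G) ∈ B j := fun j => ⟨s, mem_sup_right (mem_zpowers s), rfl⟩
  have key : ∀ j, j + 3 ≤ n → IsSylowIn p (B j) (normalizer (B (j + 1) : Set G)) → ∀ Q : Subgroup G, IsPGroup p Q →
      B (j + 1) < Q → ∃ g ∈ normalizer (B (j + 1) : Set G), ∃ y ∈ BB s (j + 1), g * s * g⁻¹ = y ∧
        B j ≤ cj g Q := by
    intro j hj hS Q hQ hlt
    have h1 := lt_inf_normalizer hQ hlt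
    obtain ⟨g, hg, h2⟩ := hS.exists_cj_le (hQ.to_le inf_le_left) inf_le_right
    obtain ⟨y, hy, e⟩ := conj_mem_of_mem_normalizer hg (hsB (j + 1))
    refine ⟨g, hg, y, hy, e.symm, le_trans (eq_of_le_of_card_le h2 ?_).ge (cj_mono g inf_le_left)⟩
    rw [card_cj]
    refine le_trans ?_ (mul_card_le_of_lt (hQ.to_le inf_le_left) h1)
    rw [hBc j (by omega), hBc (j + 1) (by omega), ← pow_succ]
    exact le_of_eq (by congr 1; omega)
  have hsyl : ∀ j, j + 3 ≤ n → IsSylowIn p (B j) (normalizer (B (j + 1) : Set G)) := by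
    intro j
    induction j with
    | zero =>
      intro _
      have e : B 0 = P := by
        have : BB s 0 = ⊤ := top_sup_eq _
        simp only [B, this]
        rw [← MonoidHom.range_eq_map, range_subtype]
      have := hBn 0
      rw [e] at this ⊢
      exact IsSylowIn.of_sylow P this
    | succ j ih =>
      intro hj
      refine IsSylowIn.of_maximal (hBn _) (hBp _) fun Q hQ h1 h2 => ?_
      by_contra c
      obtain ⟨g, hg, y, hy, e, h3⟩ := key j (by omega) (ih (by omega)) Q hQ (lt_of_le_of_ne h1 fun e => c e.ge)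
      have h4 : B j ≤ normalizer (cj g (B (j + 1 + 1)) : Set G) := by
        rw [← cj_normalizer]; exact h3.trans (cj_mono g h2)
      have hyD : (y : G) ∈ cj g (B (j + 1 + 1)) := e ▸ conj_mem_cj g (hsB _)
      have hy' : y ∉ L (P : Subgroup G) (j + 1) := by
        intro hyL
        have h5 : cj g⁻¹ ((L (P : Subgroup G) (n - 3)).map (P : Subgroup G).subtype) ≤
            (L (P : Subgroup G) (n - 2)).map (P : Subgroup G).subtype := by
          rw [cj_le_iff]
          rintro _ ⟨u, hu, rfl⟩
          have a1 : (u : G) ∈ B (j + 1) := ⟨u, mem_sup_left (L_le (by omega) hu), rfl⟩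
          obtain ⟨v, hv, ev⟩ := conj_mem_of_mem_normalizer (inv_mem hg) a1
          have ev : (v : G) = g⁻¹ * u * g⁻¹⁻¹ := ev
          refine ⟨v, ?_, ev⟩
          have a2 : v ∈ N.subgroupOf P := by
            rw [mem_subgroupOf, ev]
            exact Normal.conj_mem inferInstance _ (mem_subgroupOf.1 (hL (n - 3) (by omega) (by omega) hu)) _
          have a3 := h.mem_L1 hs (by omega) (by omega) hsM hv a2
          have a4 : ⁅y, u⁆ = 1 := by
            have := cm_mem (m := n - 1) hyL hu (by omega)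
            rwa [h.bot_iff.2 le_rfl, mem_bot] at this
          have a5 : (y : G) * u = u * y := congrArg Subtype.val (commutatorElement_eq_one_iff_mul_comm.1 a4)
          have a6 : dl s v = 1 := by
            apply Subtype.ext
            show (v : G)⁻¹ * (s * v * (s : G)⁻¹) = 1
            rw [← e] at a5
            rw [ev]
            calc (g⁻¹ * u * g⁻¹⁻¹)⁻¹ * (s * (g⁻¹ * u * g⁻¹⁻¹) * (s : G)⁻¹)
                = g⁻¹ * (u : G)⁻¹ * (g * s * g⁻¹ * u) * g * (s : G)⁻¹ := by group
              _ = 1 := by rw [a5]; group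
          have := h.fix hs (by omega) a3 (a6 ▸ one_mem _)
          rwa [show n - 1 - 1 = n - 2 by omega] at this
        have h6 := card_le_of_le h5
        rw [card_cj, CfsgH1.card_map_subtype, CfsgH1.card_map_subtype, h.card_L (by omega) (by omega),
          h.card_L (by omega) (by omega), Nat.pow_le_pow_iff_right hp.out.one_lt] at h6
        omega
      have hya := h.adv_B hs (by omega) (by omega) hy hy'
      obtain ⟨u, hu⟩ := not_forall.1 (mt mem_Cn.2 (hya j (by omega)))
      obtain ⟨hu, hu'⟩ := Classical.not_imp.1 hu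
      have h7 : L (P : Subgroup G) (j + 1) ≤ (cj g (B (j + 1 + 1))).subgroupOf P := by
        refine h.L_le_adv hya hyD n _ (by omega) (by omega) (dl y u) ?_ (dl_mem y hu) hu'
        have : ((dl y u : P) : G) = (u : G)⁻¹ * y * u * (y : G)⁻¹ := by simp [dl, mul_assoc]
        rw [mem_subgroupOf, this]
        exact mul_mem (conj_mem_of_mem_normalizer' (h4 ⟨u, mem_sup_left hu, rfl⟩) hyD) (inv_mem hyD)
      have h8 : (L (P : Subgroup G) (j + 1)).map (P : Subgroup G).subtype < cj g (B (j + 1 + 1)) := by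
        refine lt_of_le_of_ne (map_le_iff_le_comap.2 h7) fun e => hy' ?_
        rw [← e] at hyD
        obtain ⟨v, hv, ev⟩ := hyD
        rwa [← Subtype.ext ev]
      have h9 := card_lt_of_lt h8
      rw [card_cj, hBc _ (by omega), CfsgH1.card_map_subtype, h.card_L (by omega) (by omega),
        Nat.pow_lt_pow_iff_right hp.out.one_lt] at h9
      omega
  obtain ⟨j, rfl⟩ : ∃ j, n = j + 3 := ⟨n - 3, by omega⟩
  have hA : B (j + 1) ≤ centralizer {(s : G)} := by
    rw [map_le_iff_le_comap]
    refine sup_le (fun u hu => ?_) (zpowers_le.2 (mem_centralizer_singleton_iff.2 rfl))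
    have := cm_mem (m := j + 2) hu (j := 0) (y := s) trivial le_rfl
    rw [h.bot_iff.2 (by omega), mem_bot] at this
    exact mem_centralizer_singleton_iff.2 (congrArg Subtype.val (commutatorElement_eq_one_iff_mul_comm.1 this))
  have hS : IsSylowIn p (B (j + 1)) (centralizer {(s : G)}) := by
    refine IsSylowIn.of_maximal hA (hBp _) fun Q hQ h1 h2 => ?_
    by_contra c
    obtain ⟨g, hg, y, hy, e, h3⟩ := key j le_rfl (hsyl j le_rfl) Q hQ (lt_of_le_of_ne h1 fun e => c e.ge)
    have h4 : B j ≤ centralizer {(y : G)} := by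
      rw [← e, ← cj_centralizer_singleton]; exact h3.trans (cj_mono g h2)
    have hy' : y ∉ L (P : Subgroup G) (j + 1) := by
      intro hyL
      have a1 : (y : G) ∈ N := hL (j + 1) (by omega) (by omega) hyL
      rw [← e] at a1
      exact hsM (mem_subgroupOf.2 (by simpa [mul_assoc] using Normal.conj_mem inferInstance _ a1 g⁻¹))
    have hya := h.adv_B hs (by omega) (by omega) hy hy'
    obtain ⟨u, hu⟩ := not_forall.1 (mt mem_Cn.2 (hya j (by omega)))
    obtain ⟨hu, hu'⟩ := Classical.not_imp.1 hu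
    have a2 : (u : G) * y = y * u := mem_centralizer_singleton_iff.1 (h4 ⟨u, mem_sup_left hu, rfl⟩)
    have : dl y u = 1 := by
      apply Subtype.ext
      show (u : G)⁻¹ * (y * u * (y : G)⁻¹) = 1
      rw [← a2]; group
    exact hu' (this ▸ one_mem _)
  refine ⟨s, s.2, ?_⟩
  have := hS.card_eq
  rw [hBc _ (by omega), show j + 3 - (j + 1) = 2 by omega] at this
  exact (Nat.pow_right_injective hp.out.two_le this).symm

theorem le_of_inf_le (hO : pPrimeCore p G = ⊥) {N Z : Subgroup G} [N.Normal] (hZ : Nat.card Z = p)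
    (hZ1 : Z ≤ ⁅(P : Subgroup G), (P : Subgroup G)⁆) (hZ2 : (P : Subgroup G) ≤ centralizer (Z : Set G))
    (h : (P : Subgroup G) ⊓ N ≤ Z) : N ≤ Z := by
  have hS := IsSylowIn.sylow_inf_normal P N
  have hnpc : HasNormalPComplement p N := by
    rcases (Nat.dvd_prime hp.out).1 (hZ ▸ card_dvd_of_le h) with h1 | h1
    · rw [card_eq_one] at h1
      exact hasNPC_of_not_dvd (hS.eq_bot_iff.1 h1)
    have e : (P : Subgroup G) ⊓ N = Z := eq_of_le_of_card_le h (by rw [h1, hZ])
    rw [e] at hS
    have hc : ∀ x ∈ N, x ∈ normalizer (Z : Set G) → x ∈ centralizer (Z : Set G) := by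
      intro x hx hxZ
      have a1 : (P : Subgroup G) ≤ centralizer (Z : Set G) ⊓ (N ⊔ P) := le_inf hZ2 le_sup_right
      have a2 : cj x (centralizer (Z : Set G) ⊓ (N ⊔ P)) = centralizer (Z : Set G) ⊓ (N ⊔ P) := by
        rw [cj_inf, cj_centralizer, cj_eq_iff_mem_normalizer.2 hxZ, cj_eq_of_mem (mem_sup_left hx)]
      have a3 := (IsSylowIn.of_sylow P a1).cj x
      rw [a2] at a3
      obtain ⟨c, hc, a4⟩ := a3.exists_cj_eq (IsSylowIn.of_sylow P a1)
      rw [cj_cj, cj_eq_iff_mem_normalizer] at a4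
      obtain ⟨k, hk, y, hy, a5⟩ := mem_sup_of_normal_left.1 (mul_mem hc.2 (mem_sup_left hx))
      have a6 : k ∈ normalizer ((P : Subgroup G) : Set G) := by
        have : k = c * x * y⁻¹ := by rw [← a5]; group
        rw [this]; exact mul_mem a4 (inv_mem (Subgroup.le_normalizer hy))
      have a7 : ∀ a ∈ (P : Subgroup G), ∃ z ∈ Z, k * a * k⁻¹ = z * a := fun a ha =>
        ⟨k * a * k⁻¹ * a⁻¹, h ⟨(P : Subgroup G).mul_mem (conj_mem_of_mem_normalizer a6 ha) (inv_mem ha), by
          have hk' : k ∈ N := hk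
          simpa [mul_assoc] using mul_mem hk' (Normal.conj_mem inferInstance _ (inv_mem hk') a)⟩, by group⟩
      have a8 : ⁅(P : Subgroup G), (P : Subgroup G)⁆ ≤ centralizer {k} := by
        refine commutator_le.2 fun a ha b hb => mem_centralizer_singleton_iff.2 ?_
        obtain ⟨z, hz, ez⟩ := a7 a ha
        obtain ⟨t, ht, et⟩ := a7 b hb
        have hzP : z ∈ (P : Subgroup G) := (e ▸ hz : z ∈ (P : Subgroup G) ⊓ N).1
        have c1 : Commute z a := hZ2 ha z hz
        have c2 : Commute z b := hZ2 hb z hz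
        have c3 : Commute t a := hZ2 ha t ht
        have c4 : Commute t b := hZ2 hb t ht
        have c5 : Commute t z := hZ2 hzP t ht
        have : k * ⁅a, b⁆ * k⁻¹ = ⁅a, b⁆ := by
          rw [conjugate_commutatorElement, ez, et, commutatorElement_def, commutatorElement_def]
          have d1 : Commute z (a * (t * b) * a⁻¹) := (c1.mul_right (c5.symm.mul_right c2)).mul_right c1.inv_right
          have d2 : Commute t (a⁻¹) := c3.inv_right
          calc z * a * (t * b) * (z * a)⁻¹ * (t * b)⁻¹ = z * (a * (t * b) * a⁻¹) * z⁻¹ * (t * b)⁻¹ := by group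
            _ = (a * t) * (b * a⁻¹ * b⁻¹) * t⁻¹ := by rw [d1.eq]; group
            _ = t * (a * b * a⁻¹ * b⁻¹) * t⁻¹ := by rw [← c3.eq]; group
            _ = _ := by rw [(((c3.mul_right c4).mul_right d2).mul_right c4.inv_right).eq]; group
        rw [← mul_inv_eq_iff_eq_mul.1 this]
      have : x = c⁻¹ * (k * y) := by rw [a5]; group
      rw [this]
      refine mul_mem (inv_mem hc.1) (mul_mem (fun z hz => ?_) (hZ2 hy))
      exact mem_centralizer_singleton_iff.1 (a8 (hZ1 hz))
    have hT : normalizer (hS.toSylow : Set N) ≤ centralizer (hS.toSylow : Set N) := by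
      intro x hx y hy
      refine Subtype.ext (hc x x.2 (mem_normalizer_of_conj_mem fun z hz => ?_) y hy)
      exact (mem_normalizer_iff.1 hx ⟨z, hS.le hz⟩).1 hz
    exact ⟨hS.toSylow, _, inferInstance, MonoidHom.ker_transferSylow_isComplement' _ hT⟩
  obtain ⟨T, K, hK, hc⟩ := hnpc
  have h1 : K ≤ pPrimeCore p N := CfsgH1.le_pPrimeCore
    ((hp.out.coprime_iff_not_dvd.2 (hc.index_eq_card ▸ T.not_dvd_index)).symm)
  have h2 := CfsgH1.map_pPrimeCore_le_of_normal (p := p) N
  rw [hO, le_bot_iff, map_eq_bot_iff_of_injective _ (subtype_injective N)] at h2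
  rw [h2, le_bot_iff] at h1
  rw [h1, isComplement'_bot_left] at hc
  have h3 : IsPGroup p N := (hc ▸ T.isPGroup' : IsPGroup p (⊤ : Subgroup N)).of_equiv topEquiv
  exact (le_inf ((CfsgH1.le_pCore h3).trans (CfsgH1.pCore_le_sylow P)) le_rfl).trans h

theorem s3865 (P : Sylow p G) (hP : Nat.card P = p ^ n) (hn : 2 ≤ n)
    (hmax : Group.nilpotencyClass (P : Subgroup G) = n - 1) (hcore : pPrimeCore p G = ⊥)
    (hres : ∀ N : Subgroup G, N.Normal → (N.index).Coprime p → N = ⊤) :
    (∃ x ∈ (P : Subgroup G), (Nat.card (centralizer ({x} : Set G))).factorization p = 2) ∨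
      (IsQuasisimple G ∧ Nat.card (center G) ≤ p) := by
  rcases hn.eq_or_lt with rfl | hn
  · refine .inl ⟨1, one_mem _, ?_⟩
    have : centralizer ({1} : Set G) = ⊤ := by
      rw [eq_top_iff]; intro x _; exact mem_centralizer_singleton_iff.2 (by simp)
    rw [this, card_top]
    have h1 := P.card_eq_multiplicity
    exact (Nat.pow_right_injective hp.out.two_le (hP.symm.trans h1)).symm
  have h : MX p n (P : Subgroup G) := ⟨hP, hmax, hn⟩
  refine or_iff_not_imp_left.2 fun hx => ?_
  have htop : ∀ N : Subgroup G, N.Normal → (P : Subgroup G) ≤ N → N = ⊤ := fun N hN e =>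
    hres N hN (hp.out.coprime_iff_not_dvd.2 fun d => P.not_dvd_index (d.trans (index_dvd_of_le e))).symm
  let Z := (L (P : Subgroup G) (n - 2)).map (P : Subgroup G).subtype
  have hZ : Nat.card Z = p := by
    rw [CfsgH1.card_map_subtype, h.card_L (by omega) (by omega), show n - 1 - (n - 2) = 1 by omega, pow_one]
  have hZ2 : (P : Subgroup G) ≤ centralizer (Z : Set G) := by
    rintro y hy _ ⟨u, hu, rfl⟩
    have := cm_mem (m := n - 1) hu (j := 0) (y := ⟨y, hy⟩) trivial (by omega)
    rw [h.bot_iff.2 le_rfl, mem_bot] at this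
    exact congrArg Subtype.val (commutatorElement_eq_one_iff_mul_comm.1 this)
  have hall : ∀ N : Subgroup G, N.Normal → N ≠ ⊤ → N ≤ Z := by
    intro N hN hN'
    refine le_of_inf_le (P := P) hcore hZ ?_ hZ2 ?_
    · rw [← map_subtype_commutator]
      exact map_mono (L_le (i := 1) (by omega))
    · by_contra c
      refine hx (cent_p2 h (fun e => hN' (htop N hN e)) fun e => c fun y hy => ⟨⟨y, hy.1⟩, e hy.2, rfl⟩)
  have hPZ : ¬ (P : Subgroup G) ≤ Z := fun e => by
    have := card_le_of_le e
    rw [hZ] at this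
    have h2 : p ^ n ≤ p ^ 1 := by rw [pow_one, ← hP]; exact this
    rw [Nat.pow_le_pow_iff_right hp.out.one_lt] at h2
    omega
  have hc : center G ≠ ⊤ := by
    intro e
    have : L (P : Subgroup G) 1 = ⊥ := by
      rw [eq_bot_iff]
      refine commutator_le.2 fun a _ b _ => mem_bot.2 (commutatorElement_eq_one_iff_mul_comm.2 (Subtype.ext ?_))
      exact mem_center_iff.1 (e ▸ mem_top (b : G) : (b : G) ∈ center G) a
    have := h.bot_iff.1 this
    omega
  refine ⟨⟨⟨?_⟩, ?_⟩, hZ ▸ card_le_of_le (hall _ inferInstance hc)⟩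
  · by_contra c
    have h1 : _root_.commutator G ≤ Z := hall _ inferInstance c
    have h2 := htop P (Normal.of_commutator_le _ (h1.trans (map_subtype_le _))) le_rfl
    obtain ⟨s, hs⟩ := h.exists_adv
    have h3 : Z ≤ (BB s 1).map (P : Subgroup G).subtype := map_mono ((L_le (by omega)).trans le_sup_left)
    have h4 := h.card_B hs (j := 1) (by omega)
    rw [← CfsgH1.card_map_subtype] at h4
    have h5 := card_le_of_le (hall _ (Normal.of_commutator_le _ (h1.trans h3)) fun e => by
      have h6 : Nat.card (P : Subgroup G) = p ^ n := hP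
      rw [e, ← h2, h6] at h4
      have := Nat.pow_right_injective hp.out.two_le h4
      omega)
    rw [h4, hZ] at h5
    have h7 : p ^ (n - 1) ≤ p ^ 1 := by rwa [pow_one]
    rw [Nat.pow_le_pow_iff_right hp.out.one_lt] at h7
    omega
  · have : Nontrivial (G ⧸ center G) := QuotientGroup.nontrivial_iff.2 hc
    refine ⟨fun K hK => ?_⟩
    by_cases e : K.comap (QuotientGroup.mk' _) = ⊤
    · right
      rw [← map_comap_eq_self_of_surjective (QuotientGroup.mk'_surjective _) K, e]
      exact map_top_of_surjective _ (QuotientGroup.mk'_surjective _)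
    · left
      have h1 := hall _ (hK.comap _) e
      have h2 := htop (centralizer (K.comap (QuotientGroup.mk' _) : Set G)) inferInstance
        (hZ2.trans (centralizer_le (SetLike.coe_subset_coe.2 h1)))
      rw [eq_bot_iff]
      intro x hxK
      induction x using QuotientGroup.induction_on with | _ x => ?_
      refine mem_bot.2 ((QuotientGroup.eq_one_iff _).2 (mem_center_iff.2 fun g => ?_))
      exact ((h2 ▸ mem_top g : g ∈ centralizer _) x hxK).symm

end
end CfsgMC
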