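import Cfsg.Agent.Lead.Sm23

set_option autoImplicit false
set_option linter.unusedSectionVars false

namespace CfsgStd

open Subgroup Cfsg CfsgH1 CfsgH2 CfsgFT CfsgLead CfsgH9
open scoped commutatorElement

local notation "CC(" H ")" => Subgroup.centralizer (SetLike.coe H)
local notation "NN(" H ")" => Subgroup.normalizer (SetLike.coe H)

universe u
variable {G : Type u} [Group G] [Finite G] {P : Subgroup G}

theorem rank_uniq {K : Subgroup G} (hr : PRankLE 2 1 K) {s t : G} (hs : orderOf s = 2)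
    (ht : orderOf t = 2) (hsK : s ∈ K) (htK : t ∈ K) (h : Commute s t) : s = t := by
  by_contra c
  have h4 := isKleinFour_closure hs ht c h
  have hle : closure ({s, t} : Set G) ≤ K := (closure_le _).2 (by rintro x (rfl | rfl) <;> assumption)
  have := hr ((closure ({s, t} : Set G)).subgroupOf K)
    ⟨⟨fun x y => Subtype.ext (Subtype.ext (IsKleinFour_comm h4 x.2 y.2))⟩⟩
    (fun a ha => Subtype.ext (by
      have := (isKleinFour_iff.1 h4).2 _ ha
      simpa [pow_two] using this))
  rw [Nat.card_congr (subgroupOfEquivOfLe hle).toEquiv, h4.card_four] at this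
  omega

theorem s3153 (hP : IsStandardSubgroup P) (hr : PRankLE 2 1 CC(P)) (hZ : Odd (Nat.card (center P)))
    {S : Subgroup G} (hS : IsSylowIn 2 S NN(P)) (t : G) (ht : orderOf t = 2) (htS : t ∈ S) (htP : t ∈ CC(P))
    (g : G) (hgN : ∀ s ∈ S, g * s * g⁻¹ ∈ S) (hgS : g ∉ S) (hg2 : g ^ 2 ∈ S) (hgt : g * t * g⁻¹ ∈ P ⊔ CC(P)) :
    ⁅P, pPrimeCore 2 G⁆ = ⊥ ∧ ∀ L : Subgroup G, IsPComponent 2 L → P ≤ L → IsQuasisimple L := by
  have ht2 := mul_self_of_orderOf_two ht
  have hcS : ∀ s ∈ S, s * t * s⁻¹ = t := by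
    have hp : IsPGroup 2 (S ⊓ CC(P) : Subgroup G) := hS.pgroup.to_inf_left
    have : Nontrivial (S ⊓ CC(P) : Subgroup G) :=
      ⟨⟨⟨t, htS, htP⟩, 1, fun e => ne_one_of_orderOf_two ht (congrArg Subtype.val e)⟩⟩
    have := hp.center_nontrivial
    obtain ⟨n, hn, e⟩ := (hp.to_subgroup (center _)).nontrivial_iff_card.1 this
    obtain ⟨z, hz⟩ := exists_prime_orderOf_dvd_card' (G := center (S ⊓ CC(P) : Subgroup G)) 2
      (e ▸ dvd_pow_self 2 hn.ne')
    have hz2 : orderOf ((z : (S ⊓ CC(P) : Subgroup G)) : G) = 2 := by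
      rw [Subgroup.orderOf_coe, Subgroup.orderOf_coe, hz]
    have key : ∀ s ∈ S ⊓ CC(P), orderOf s = 2 → s = z := fun s hs h2 =>
      rank_uniq hr h2 hz2 hs.2 z.1.2.2 (congrArg Subtype.val (mem_center_iff.1 z.2 ⟨s, hs⟩))
    intro s hs
    rw [key _ ⟨S.mul_mem (S.mul_mem hs htS) (S.inv_mem hs), CfsgH2.conj_mem_of_mem_normalizer
      (CfsgH2.normalizer_le_normalizer_centralizer P (hS.le hs)) htP⟩ (by rw [orderOf_conj', ht]), ← key t ⟨htS, htP⟩ ht]
  have hgP : g ∉ NN(P) := by
    intro c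
    have h1 : IsPGroup 2 (zpowers g) := by
      obtain ⟨k, hk⟩ := hS.pgroup ⟨_, hg2⟩
      have hk' : g ^ 2 ^ (k + 1) = 1 := by
        rw [pow_succ', pow_mul]; exact congrArg Subtype.val hk
      obtain ⟨j, -, hj⟩ := (Nat.dvd_prime_pow Nat.prime_two).1 (orderOf_dvd_of_pow_eq_one hk')
      exact isPGroup_zpowers_of_orderOf hj
    have := hS.eq_of_le (h1.to_sup_of_normal_right' hS.pgroup (zpowers_le.2 (CfsgH2.mem_normalizer_of_conj_mem hgN)))
      le_sup_right (sup_le (zpowers_le.2 c) hS.le)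
    exact hgS (this ▸ mem_sup_left (mem_zpowers g))
  obtain ⟨u, hu⟩ : ∃ u, u = g * t * g⁻¹ := ⟨_, rfl⟩
  have hu2 : orderOf u = 2 := by rw [hu, orderOf_conj', ht]
  have huS : u ∈ S := hu ▸ hgN t htS
  have huP : u ∉ CC(P) := by
    intro c
    have h1 := hP.2.1.2 g (hP.2.2.2 ▸ hgP)
    have h3 := Subgroup.orderOf_dvd_natCard (CC(P) ⊓ (CC(P)).map (MulAut.conj g).toMonoidHom)
      ⟨c, t, htP, hu.symm⟩
    rw [hu2] at h3
    exact (Nat.not_even_iff_odd.2 h1) (even_iff_two_dvd.2 h3)
  have hut : Commute u t := mul_inv_eq_iff_eq_mul.1 (hcS u huS)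
  have hgu : g * u * g⁻¹ = t := by
    rw [← hcS _ hg2, hu, pow_two]; group
  have hdec : ∃ a ∈ P, u = a ∨ u = a * t := by
    rw [← hu] at hgt
    obtain ⟨a, ha, c, hc, e⟩ := (mem_sup_of_normalizer (Subgroup.centralizer_le_normalizer _)).1 hgt
    have hac : Commute a c := hc a ha
    have h1 : a * a * (c * c) = 1 := by
      have := mul_self_of_orderOf_two hu2
      rw [← e] at this
      rw [← this, mul_assoc, mul_assoc, ← mul_assoc a c, ← mul_assoc c a, hac.eq]
    obtain ⟨k, hk⟩ := hZ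
    have h2 : (a * a) ^ (2 * k + 1) = 1 := by
      have hm : (⟨a * a, mul_mem ha ha⟩ : P) ∈ center P := by
        rw [mem_center_iff]
        intro y
        have h3 := inv_mem (mul_mem hc hc) y y.2
        rw [← eq_inv_of_mul_eq_one_left h1] at h3
        exact Subtype.ext h3
      have := pow_card_eq_one' (x := (⟨_, hm⟩ : center P))
      rw [hk] at this
      exact congrArg (fun x : center P => ((x : P) : G)) this
    have h3 : u = a ^ (2 * k + 1) * c ^ (2 * k + 1) := by
      rw [← hac.mul_pow, e, pow_succ, pow_mul, pow_two, mul_self_of_orderOf_two hu2, one_pow, one_mul]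
    have h4 : c ^ (2 * k + 1) * c ^ (2 * k + 1) = 1 := by
      rw [← (Commute.refl c).mul_pow, eq_inv_of_mul_eq_one_right h1, inv_pow, h2, inv_one]
    refine ⟨a ^ (2 * k + 1), pow_mem ha _, ?_⟩
    by_cases h5 : c ^ (2 * k + 1) = 1
    · left; rw [h3, h5, mul_one]
    · right
      rw [h3, rank_uniq hr (orderOf_two_of h4 h5) ht (pow_mem hc _) htP]
      have h6 : Commute (a ^ (2 * k + 1)) t := htP _ (pow_mem ha _)
      have := h6.inv_left.mul_left hut
      rwa [h3, inv_mul_cancel_left] at this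
  have hO1 : ∀ x ∈ pPrimeCore 2 G ⊓ C1(t), Commute x u := by
    intro x hx
    obtain ⟨a, ha, e⟩ := hdec
    have h1 : Commute x a := (core_cent hP ht htP hx a ha).symm
    rcases e with e | e
    · exact e ▸ h1
    · exact e ▸ h1.mul_right (mem_centralizer_singleton_iff.1 hx.2)
  have hne : t ≠ u := fun e => huP (e ▸ htP)
  have h4 := isKleinFour_closure ht hu2 hne hut.symm
  have m1 : t ∈ closure ({t, u} : Set G) := subset_closure (by simp)
  have m2 : u ∈ closure ({t, u} : Set G) := subset_closure (by simp)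
  have hwO : pPrimeCore 2 G ≤ C1(t * u) := by
    refine le_of_forall_cent1 (B := closure ({t, u} : Set G)) (fun x hx y hy => IsKleinFour_comm h4 hy hx)
      h4.not_isCyclic le_normalizer_of_normal (by rw [h4.card_four]; exact ((coprime_card_pPrimeCore 2 G).pow_right 2).symm)
      fun b hb hb1 => ?_
    rcases (mem_kleinFour h4 m1 m2 (ne_one_of_orderOf_two ht) (ne_one_of_orderOf_two hu2) hne).1 hb with
      rfl | rfl | rfl | rfl
    · exact absurd rfl hb1
    · exact fun x hx => mem_centralizer_singleton_iff.2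
        (Commute.mul_right (mem_centralizer_singleton_iff.1 hx.2) (hO1 x hx))
    · intro x hx
      have hxb : x * b = b * x := mem_centralizer_singleton_iff.1 hx.2
      have h1 : g⁻¹ * x * g ∈ pPrimeCore 2 G ⊓ C1(t) := by
        refine ⟨by simpa using Normal.conj_mem inferInstance _ hx.1 g⁻¹, mem_centralizer_singleton_iff.2 ?_⟩
        rw [hu] at hxb
        calc g⁻¹ * x * g * t = g⁻¹ * (x * (g * t * g⁻¹)) * g := by group
          _ = _ := by rw [hxb]; group
      have h2 := (hO1 _ h1).eq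
      refine mem_centralizer_singleton_iff.2 (Commute.mul_right ?_ hxb)
      show x * t = t * x
      rw [← hgu]
      calc x * (g * b * g⁻¹) = g * (g⁻¹ * x * g * b) * g⁻¹ := by group
        _ = _ := by rw [h2]; group
    · exact inf_le_right
  have hPO : P ≤ CC(pPrimeCore 2 G) := by
    rcases qs_normal hP.1 (N := P ⊓ CC(pPrimeCore 2 G)) inf_le_left
      (CfsgLead.le_normalizer_inf le_normalizer le_normalizer_of_normal) with h | h
    · exact h.ge.trans inf_le_right
    · have h0 : t * u ∈ CC(pPrimeCore 2 G) := fun x hx => mem_centralizer_singleton_iff.1 (hwO hx)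
      have h1 : ⁅zpowers (t * u), P⁆ ≤ P ⊓ CC(pPrimeCore 2 G) :=
        le_inf (le_normalizer_iff_commutator_le_right.1 (zpowers_le.2 (hS.le (mul_mem htS huS))))
          ((commutator_mono (zpowers_le.2 h0) le_rfl).trans (commutator_le_left _ _))
      have h2 := commutator_eq_bot_of_perfect (U := zpowers (t * u)) (qs_perfect hP.1)
        (le_bot_iff.1 ((commutator_mono h1 le_rfl).trans h.le))
      rw [Subgroup.commutator_comm] at h2
      have h3 := mul_mem (inv_mem htP) (commutator_eq_bot_iff_le_centralizer.1 h2 (mem_zpowers _))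
      rw [inv_mul_cancel_left] at h3
      exact absurd h3 huP
  refine ⟨commutator_eq_bot_iff_le_centralizer.2 hPO, fun L hL hPL => ?_⟩
  have hK := isPComponent_iff.1 hL
  rcases hK.le_or_comm (SN.of_normal (H := CC(pPrimeCore 2 G)) le_top le_normalizer_of_normal) with h | h
  · have h5 : Opi {2}ᶜ L ≤ pPrimeCore 2 G := Opi_compl_top' (G := G) (p := 2) ▸ Opi_le_Opi_of_sn hK.sn
    exact hK.pq.qs (commutator_eq_bot_iff_le_centralizer.2 (h5.trans (le_centralizer_iff.1 h)))
  · have h5 : P ≤ pPrimeCore 2 G :=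
      (qs_perfect hP.1).ge.trans ((commutator_mono hPL hPO).trans (Opi_compl_top' (G := G) (p := 2) ▸ h))
    exact absurd ((two_dvd_of_qs hP.1).trans (card_dvd_of_le h5)) (not_dvd_card_pPrimeCore 2 G)

end CfsgStd
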