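import Cfsg.Agent.H2.CSize
import Cfsg.Agent.H2.Sympl
import Cfsg.Agent.H2.Transfer
import Cfsg.Agent.H2.Focal
import Cfsg.Agent.H1.BHM
import Cfsg.Agent.FT.PF14c

set_option autoImplicit false
set_option linter.unusedSectionVars false
set_option linter.style.haveILetI false
open Subgroup Cfsg CfsgH2 MulAction
open scoped commutatorElement

/-! Coprime actions all of whose orbits have 2-power length. -/
namespace CfsgLead
universe u

theorem qb_num {q n d w : ℕ} (hq : Odd q) (hq3 : 3 ≤ q) (hd : 1 ≤ d) (hw : 2 * w ≤ d)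
    (h1 : 2 ^ n ∣ q ^ d - 1) (h2 : 2 * (q ^ d - 1) ≤ 2 ^ n * (q ^ w - 1)) :
    2 ^ n = 2 * (q ^ w + 1) ∧ q ^ d = q ^ w * q ^ w := by
  have hp : ∀ k, 1 ≤ q ^ k := fun k => Nat.one_le_pow _ _ (by omega)
  rcases Nat.even_or_odd' d with ⟨e, rfl | rfl⟩
  · have hs : q ^ w ≤ q ^ e := Nat.pow_le_pow_right (by omega) (by omega)
    have hs3 : 3 ≤ q ^ e := hq3.trans (Nat.le_self_pow (by omega) q)
    obtain ⟨t, ht⟩ : Odd (q ^ e) := hq.pow
    have e1 : q ^ (2 * e) = q ^ e * q ^ e := by rw [two_mul, pow_add]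
    obtain ⟨c, hc⟩ : ∃ c, q ^ w = c + 1 := ⟨q ^ w - 1, by have := hp w; omega⟩
    rw [e1, ht] at h1 h2
    rw [e1, ht, hc]
    rw [hc] at h2 hs
    rw [ht] at hs hs3
    have e2 : (2 * t + 1) * (2 * t + 1) - 1 = 4 * (t * (t + 1)) := by
      have : (2 * t + 1) * (2 * t + 1) = 4 * (t * (t + 1)) + 1 := by ring
      omega
    rw [e2] at h1 h2
    rw [Nat.add_sub_cancel] at h2
    have ht1 : 1 ≤ t := by omega
    have hct : c ≤ 2 * t := by omega
    have h3 : 4 * (t + 1) ≤ 2 ^ n := by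
      by_contra hh
      push Not at hh
      nlinarith [Nat.mul_le_mul_left (2 ^ n) hct]
    obtain ⟨m, rfl⟩ : ∃ m, n = m + 2 := by
      refine ⟨n - 2, ?_⟩
      have : 2 ≤ n := by
        by_contra hh
        have : n = 0 ∨ n = 1 := by omega
        rcases this with rfl | rfl <;> omega
      omega
    rw [pow_add] at h1 h2 h3 ⊢
    have h4 : 2 ^ m ∣ t * (t + 1) := by
      rw [mul_comm] at h1
      exact Nat.dvd_of_mul_dvd_mul_left (by norm_num : 0 < 2 ^ 2) h1
    have h5 : 2 ^ m ≤ t + 1 := by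
      rcases Nat.even_or_odd t with he | ho
      · have : (2 ^ m).Coprime (t + 1) := Nat.Coprime.pow_left _ (Nat.coprime_two_left.2 he.add_one)
        have := Nat.le_of_dvd (by omega) (this.dvd_of_dvd_mul_right h4)
        omega
      · have : (2 ^ m).Coprime t := Nat.Coprime.pow_left _ (Nat.coprime_two_left.2 ho)
        exact Nat.le_of_dvd (by omega) (this.dvd_of_dvd_mul_left h4)
    have h6 : 2 ^ m = t + 1 := by omega
    rw [h6] at h2 ⊢
    have h7 : 2 * t ≤ c := by
      by_contra hh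
      push Not at hh
      nlinarith
    have h8 : c = 2 * t := by omega
    subst h8
    constructor <;> ring
  · exfalso
    have h3 : 2 ^ n ∣ q - 1 := by
      have a1 : (q : ZMod (2 ^ n)) ^ (2 * e + 1) = 1 := by
        have := (ZMod.natCast_eq_natCast_iff _ _ _).2 ((Nat.modEq_iff_dvd' (hp _)).2 h1)
        rw [Nat.cast_one, Nat.cast_pow] at this
        exact this.symm
      have a2 : (q : ZMod (2 ^ n)) ^ (2 ^ n).totient = 1 := by
        have := (ZMod.natCast_eq_natCast_iff _ _ _).2 (Nat.ModEq.pow_totient (x := q) (n := 2 ^ n)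
          (Nat.Coprime.pow_right _ (Nat.coprime_two_right.2 hq)))
        rwa [Nat.cast_one, Nat.cast_pow] at this
      have a3 : (2 * e + 1).gcd (2 ^ n).totient = 1 := by
        rcases Nat.eq_zero_or_pos n with rfl | hn
        · simp
        · rw [Nat.totient_prime_pow Nat.prime_two hn]
          simp only [Nat.add_one_sub_one, mul_one]
          exact Nat.Coprime.pow_right _ (Nat.coprime_two_right.2 (odd_two_mul_add_one e))
      have a4 := pow_gcd_eq_one.2 ⟨a1, a2⟩
      rw [a3, pow_one] at a4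
      refine (Nat.modEq_iff_dvd' (by omega)).1 ((ZMod.natCast_eq_natCast_iff _ _ _).1 ?_)
      rw [Nat.cast_one, a4]
    have h4 := Nat.le_of_dvd (by omega) h3
    have h5 : q ^ w * q ≤ q ^ (2 * e + 1) := by
      rw [← pow_succ]; exact Nat.pow_le_pow_right (by omega) (by omega)
    obtain ⟨c, hc⟩ : ∃ c, q ^ w = c + 1 := ⟨q ^ w - 1, by have := hp w; omega⟩
    obtain ⟨b, rfl⟩ : ∃ b, q = b + 1 := ⟨q - 1, by omega⟩
    obtain ⟨a, ha⟩ : ∃ a, (b + 1) ^ (2 * e + 1) = a + 1 := ⟨_ - 1, (Nat.sub_add_cancel (hp _)).symm⟩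
    rw [hc, ha] at h2 h5
    simp only [Nat.add_sub_cancel] at h2 h4
    nlinarith [Nat.mul_le_mul_right c h4]

section act
variable {V : Type u} [CommGroup V] [Finite V] {H : Type u} [Group H] [Finite H]
  [MulDistribMulAction H V]

/-- vectors fixed by `a` -/
def Vp (V : Type u) [CommGroup V] [MulDistribMulAction H V] (a : H) : Subgroup V where
  carrier := {v | a • v = v}
  one_mem' := smul_one a
  mul_mem' := fun {x y} hx hy => by
    simp only [Set.mem_setOf_eq] at *; rw [smul_mul', hx, hy]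
  inv_mem' := fun {x} hx => by simp only [Set.mem_setOf_eq] at *; rw [smul_inv', hx]

/-- vectors inverted by `a` -/
def Vm (V : Type u) [CommGroup V] [MulDistribMulAction H V] (a : H) : Subgroup V where
  carrier := {v | a • v = v⁻¹}
  one_mem' := by simp
  mul_mem' := fun {x y} hx hy => by
    simp only [Set.mem_setOf_eq] at *; rw [smul_mul', hx, hy, mul_inv]
  inv_mem' := fun {x} hx => by simp only [Set.mem_setOf_eq] at *; rw [smul_inv', hx]

theorem mem_Vp {a : H} {v : V} : v ∈ Vp V a ↔ a • v = v := Iff.rfl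
theorem mem_Vm {a : H} {v : V} : v ∈ Vm V a ↔ a • v = v⁻¹ := Iff.rfl

/-- the action on an invariant subgroup -/
@[reducible] def subAct (U : Subgroup V) (hU : ∀ h : H, ∀ v ∈ U, h • v ∈ U) : MulDistribMulAction H U where
  smul h u := ⟨h • u.1, hU h _ u.2⟩
  one_smul u := Subtype.ext (one_smul H u.1)
  mul_smul a b u := Subtype.ext (mul_smul a b u.1)
  smul_one a := Subtype.ext (smul_one a)
  smul_mul a u w := Subtype.ext (smul_mul' a u.1 w.1)

theorem sq_inj (ho : Odd (Nat.card V)) {v w : V} (h : v * v = w * w) : v = w := by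
  have := (powCoprime (G := V) (n := 2) (Nat.coprime_two_right.2 ho)).injective
  apply this
  simp only [powCoprime_apply, sq, h]

theorem exists_sq (ho : Odd (Nat.card V)) (v : V) : ∃ w : V, w * w = v := by
  obtain ⟨w, hw⟩ := (powCoprime (G := V) (n := 2) (Nat.coprime_two_right.2 ho)).surjective v
  exact ⟨w, by simpa only [powCoprime_apply, sq] using hw⟩

theorem decomp (ho : Odd (Nat.card V)) {a : H} (ha : a * a = 1) (v : V) :
    ∃ x ∈ Vp V a, ∃ y ∈ Vm V a, x * y = v := by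
  obtain ⟨w, rfl⟩ := exists_sq ho v
  refine ⟨w * a • w, ?_, w * (a • w)⁻¹, ?_, ?_⟩
  · rw [mem_Vp, smul_mul', smul_smul, ha, one_smul, mul_comm]
  · rw [mem_Vm, smul_mul', smul_inv', smul_smul, ha, one_smul, mul_inv, inv_inv, mul_comm]
  · rw [mul_mul_mul_comm, mul_inv_cancel, mul_one]

omit [Finite H] in
theorem top_of_sq (hH : commutator H = ⊤) {S : Subgroup H} (h : ∀ x, x * x ∈ S) : S = ⊤ := by
  rw [eq_top_iff, ← hH, commutator_def, commutator_le]
  intro x _ y _
  have : ⁅x, y⁆ = (x * y) * (x * y) * ((y⁻¹ * x⁻¹ * y) * (y⁻¹ * x⁻¹ * y)) * (y⁻¹ * y⁻¹) := by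
    rw [commutatorElement_def]; group
  rw [this]
  exact S.mul_mem (S.mul_mem (h _) (h _)) (h _)

theorem union_two {A B C : Subgroup V} (f : V →* V) (h : ∀ v ∈ A, f v ∈ B ∨ f v ∈ C) :
    (∀ v ∈ A, f v ∈ B) ∨ ∀ v ∈ A, f v ∈ C := by
  by_contra hh
  push Not at hh
  obtain ⟨⟨x, hx, hx'⟩, y, hy, hy'⟩ := hh
  have h1 := (h x hx).resolve_left hx'
  have h2 := (h y hy).resolve_right hy'
  rcases h _ (A.mul_mem hx hy) with h3 | h3
  · rw [map_mul] at h3; exact hx' ((B.mul_mem_cancel_right h2).1 h3)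
  · rw [map_mul] at h3; exact hy' ((C.mul_mem_cancel_left h1).1 h3)

theorem count_orb {W : Subgroup V} {c m : ℕ} (h1 : ∀ v : V, v ≠ 1 → (orbit H v).ncard = m)
    (h2 : ∀ v : V, v ≠ 1 → c ≤ (orbit H v ∩ W).ncard) :
    c * (Nat.card V - 1) ≤ m * (Nat.card W - 1) := by
  classical
  have := Fintype.ofFinite V
  have key := Finset.card_mul_le_card_mul (s := Finset.univ.erase (1 : V))
    (t := (Finset.univ.filter (· ∈ W)).erase 1) (m := c) (n := m) (fun v w => w ∈ orbit H v) ?_ ?_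
  · rw [Finset.card_erase_of_mem (Finset.mem_univ _), Finset.card_erase_of_mem (by simp),
      Finset.card_univ, ← Nat.card_eq_fintype_card] at key
    have e : (Finset.univ.filter (· ∈ W)).card = Nat.card W := by
      rw [Nat.card_eq_fintype_card, Fintype.card_subtype]
    rw [e] at key
    rw [mul_comm c, mul_comm m]; exact key
  · intro v hv
    have hv1 := (Finset.mem_erase.1 hv).1
    refine (h2 v hv1).trans ?_
    rw [← Set.ncard_coe_finset]
    refine Set.ncard_le_ncard ?_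
    rintro w ⟨⟨g, rfl⟩, hw⟩
    simp only [Finset.coe_bipartiteAbove, Finset.mem_erase, Finset.mem_filter, Finset.mem_univ, true_and,
      Set.mem_setOf_eq]
    refine ⟨⟨fun e => hv1 ?_, hw⟩, g, rfl⟩
    have := congrArg (g⁻¹ • ·) e
    simpa using this
  · intro w hw
    have hw1 := (Finset.mem_erase.1 hw).1
    rw [← h1 w hw1, ← Set.ncard_coe_finset]
    refine Set.ncard_le_ncard ?_
    intro v hv
    simp only [Finset.coe_bipartiteBelow, Set.mem_setOf_eq] at hv
    exact (orbit_eq_iff.2 hv.2).symm ▸ mem_orbit_self v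

theorem dvd_orb {m : ℕ} (h1 : ∀ v : V, v ≠ 1 → (orbit H v).ncard = m) : m ∣ Nat.card V - 1 := by
  classical
  have := Fintype.ofFinite V
  have := Fintype.ofFinite (Set V)
  have e : Nat.card V - 1 = (Finset.univ.erase (1 : V)).card := by
    rw [Finset.card_erase_of_mem (Finset.mem_univ _), Finset.card_univ, Nat.card_eq_fintype_card]
  rw [e, Finset.card_eq_sum_card_fiberwise (f := fun v => orbit H v) (t := Finset.univ)
    (fun _ _ => Finset.mem_coe.2 (Finset.mem_univ _))]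
  refine Finset.dvd_sum fun O _ => ?_
  by_cases hO : ∃ v, v ≠ 1 ∧ orbit H v = O
  · obtain ⟨v, hv, rfl⟩ := hO
    rw [← h1 v hv, ← Set.ncard_coe_finset]
    refine dvd_of_eq (congrArg _ ?_)
    ext w
    simp only [Finset.coe_filter, Finset.mem_erase, Finset.mem_univ, and_true, Set.mem_setOf_eq, orbit_eq_iff]
    refine ⟨fun h => ⟨?_, h⟩, fun h => h.2⟩
    obtain ⟨g, rfl⟩ := h
    intro e
    have := congrArg (g⁻¹ • ·) e
    exact hv (by simpa using this)
  · rw [Finset.card_eq_zero.2]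
    · exact dvd_zero _
    · rw [Finset.filter_eq_empty_iff]
      intro v hv e
      exact hO ⟨v, (Finset.mem_erase.1 hv).1, e⟩

theorem fix_modEq {r : ℕ} [Fact r.Prime] {y : H} (hy : IsPGroup r (zpowers y)) (v : V) :
    (orbit H v).ncard ≡ (orbit H v ∩ Vp V y).ncard [MOD r] := by
  have h := hy.card_modEq_card_fixedPoints (orbit H v)
  rw [Nat.card_coe_set_eq, Nat.card_coe_set_eq] at h
  suffices e : (fixedPoints (zpowers y) (orbit H v)).ncard = (orbit H v ∩ Vp V y).ncard from e ▸ h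
  rw [← Set.ncard_image_of_injective _ Subtype.val_injective]
  congr 1
  ext w
  constructor
  · rintro ⟨u, hu, rfl⟩
    exact ⟨u.2, congrArg Subtype.val (hu ⟨y, mem_zpowers y⟩)⟩
  · rintro ⟨h1, h2⟩
    refine ⟨⟨w, h1⟩, fun g => Subtype.ext ?_, rfl⟩
    exact (zpowers_le.2 (show y ∈ stabilizer H w from h2)) g.2

theorem exists_primepow_not_mem {L : Subgroup H} {g : H} (hg : Odd (orderOf g)) (h : g ∉ L) :
    ∃ y ∈ zpowers g, y ∉ L ∧ ∃ r : ℕ, r.Prime ∧ r ≠ 2 ∧ ∃ j, orderOf y = r ^ j := by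
  by_contra hh
  push Not at hh
  obtain ⟨k, hk⟩ := CfsgH1.index_pow_of_forall_sylow (G := zpowers g) (p := 2) (L := L.subgroupOf (zpowers g))
    (fun r hr hr2 y ⟨j, hj⟩ => by
      by_contra hy
      exact hh y.1 y.2 hy r hr hr2 j (by rw [← hj, Subgroup.orderOf_coe]))
  have h1 := (L.subgroupOf (zpowers g)).index_dvd_card
  rw [hk, Nat.card_zpowers] at h1
  have h2 : 2 ^ k = 1 := Nat.Coprime.eq_one_of_dvd (Nat.Coprime.pow_left _ (Nat.coprime_two_left.2 hg)) h1
  rw [h2, index_eq_one, subgroupOf_eq_top] at hk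
  exact h (hk (mem_zpowers g))

theorem faith_case {q : ℕ} [hq : Fact q.Prime] (hq2 : q ≠ 2) (hV : IsPGroup q V)
    (IH : ∀ U : Subgroup V, U ≠ ⊤ → (∀ h : H, ∀ v ∈ U, h • v ∈ U) → ∀ h : H, ∀ v ∈ U, h • v = v)
    (hf : ∀ h : H, (∀ v : V, h • v = v) → h = 1) (hc : ¬ q ∣ Nat.card H) (hH : commutator H = ⊤)
    (ho : ∀ v : V, ∃ k, (stabilizer H v).index = 2 ^ k) : ∀ h : H, h = 1 := by
  classical
  haveI : Fact (Nat.Prime 2) := ⟨Nat.prime_two⟩
  by_contra hnt
  push Not at hnt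
  obtain ⟨h0, hh0⟩ := hnt
  haveI : Nontrivial H := ⟨⟨h0, 1, hh0⟩⟩
  have hns : ¬ Group.IsSolvable H := fun hs => by
    have := IsSolvable.commutator_lt_top_of_nontrivial H
    rw [hH] at this; exact lt_irrefl _ this
  obtain ⟨d, hd⟩ := IsPGroup.iff_card.1 hV
  have hqo : Odd q := hq.out.odd_of_ne_two hq2
  have hodd : Odd (Nat.card V) := hd ▸ hqo.pow
  obtain ⟨P⟩ : Nonempty (Sylow 2 H) := inferInstance
  have hP := IsSylowIn.of_sylow_top P
  have horb : ∀ (h : H) (v : V), ∃ g ∈ (P : Subgroup H), h • v = g • v := by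
    intro h v
    obtain ⟨k, hk⟩ := ho v
    obtain ⟨a, ha, b, hb, rfl⟩ := CfsgH1.mul_of_coprime (A := (P : Subgroup H)) (B := stabilizer H v)
      (by rw [hk]; exact Nat.Coprime.pow_right _ ((Nat.Prime.coprime_iff_not_dvd Nat.prime_two).2
            P.not_dvd_index).symm) h
    exact ⟨a, ha, by rw [mul_smul, mem_stabilizer_iff.1 hb]⟩
  have self_inv : ∀ v : V, v = v⁻¹ → v = 1 := fun v hv =>
    sq_inj hodd (by rw [mul_one]; nth_rewrite 2 [hv]; exact mul_inv_cancel v)
  have key : ∀ a : H, a * a = 1 → a ≠ 1 → Vm V a ≠ ⊤ → (∀ h : H, ∀ v ∈ Vp V a, h • v ∈ Vp V a) →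
      (∀ h : H, ∀ v ∈ Vm V a, h • v ∈ Vm V a) → False := by
    intro a ha ha1 hm h1 h2
    have hp : Vp V a ≠ ⊤ := fun e => ha1 (hf a fun v => mem_Vp.1 (e ▸ mem_top v))
    refine ha1 (hf a fun v => ?_)
    obtain ⟨x, hx, y, hy, rfl⟩ := decomp hodd ha v
    rw [smul_mul', IH _ hp h1 a x hx, IH _ hm h2 a y hy]
  have hz : ∀ z : H, z * z = 1 → z ≠ 1 → z ∈ centralizer (P : Set H) → ∀ v : V, z • v = v⁻¹ := by
    intro z zz z1 hzc
    by_contra hh
    refine key z zz z1 (fun e => hh fun v => mem_Vm.1 (e ▸ mem_top v)) (fun h v hv => ?_) (fun h v hv => ?_)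
    · obtain ⟨g, hg, e⟩ := horb h v
      rw [e, mem_Vp, smul_smul, ← mem_centralizer_iff.1 hzc g hg, mul_smul, mem_Vp.1 hv]
    · obtain ⟨g, hg, e⟩ := horb h v
      rw [e, mem_Vm, smul_smul, ← mem_centralizer_iff.1 hzc g hg, mul_smul, mem_Vm.1 hv, smul_inv']
  have hP1 : (P : Subgroup H) ≠ ⊥ := fun e => hns (solv_of_cyclic_two hP (by rw [e]; infer_instance))
  obtain ⟨z, hzP, z1, zz, hzc⟩ := exists_central_of_ne_bot P.isPGroup' le_rfl le_normalizer hP1
  rw [sq] at zz
  have hzv := hz z zz z1 hzc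
  have zc : ∀ g : H, g * z * g⁻¹ = z := fun g => by
    have := hf (g * z * g⁻¹ * z) fun v => by
      rw [mul_smul, mul_smul, mul_smul, hzv, hzv]
      simp only [smul_inv', inv_inv, smul_inv_smul]
    calc g * z * g⁻¹ = g * z * g⁻¹ * z * z := by rw [mul_assoc _ z z, zz, mul_one]
      _ = z := by rw [this, one_mul]
  have oz : orderOf z = 2 := orderOf_eq_prime (by rw [sq, zz]) z1
  have h4 : ∀ A : Subgroup P, A.Normal → IsElementaryAbelian 2 A → Nat.card A ≠ 2 ^ 2 := by
    intro A hA hE hcard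
    have hn : (P : Subgroup H) ≤ normalizer ((A.map (P : Subgroup H).subtype : Subgroup H) : Set H) := by
      intro g hg
      refine mem_normalizer_fintype ?_
      rintro _ ⟨x, hx, rfl⟩
      exact ⟨_, hA.conj_mem x hx ⟨g, hg⟩, rfl⟩
    have hnle : ¬ A.map (P : Subgroup H).subtype ≤ zpowers z := fun hle => by
      have := card_le_of_le hle
      rw [card_map_of_injective (subtype_injective _), hcard, Nat.card_zpowers, oz] at this
      omega
    obtain ⟨a, ⟨a', ha', rfl⟩, ha2, -, ha3⟩ := exists_central_mod P.isPGroup' (map_subtype_le A) hn hnle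
    set a : H := (P : Subgroup H).subtype a' with ha
    have aa : a * a = 1 := by
      have := congrArg (P : Subgroup H).subtype (hE.2 a' ha')
      rwa [map_pow, map_one, sq] at this
    have a1 : a ≠ 1 := fun e => ha2 (e ▸ one_mem _)
    have az : a ≠ z := fun e => ha2 (e ▸ mem_zpowers z)
    have hm : Vm V a ≠ ⊤ := fun e => az (by
      have := hf (a * z) fun v => by rw [mul_smul, hzv, mem_Vm.1 (e ▸ mem_top v⁻¹), inv_inv]
      calc a = a * z * z := by rw [mul_assoc, zz, mul_one]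
        _ = z := by rw [this, one_mul])
    have hp : Vp V a ≠ ⊤ := fun e => a1 (hf a fun v => mem_Vp.1 (e ▸ mem_top v))
    have hzp : ∀ x ∈ zpowers z, x = 1 ∨ x = z := fun x hx => by
      obtain ⟨k, rfl⟩ := mem_zpowers_iff.1 hx
      rcases Int.even_or_odd' k with ⟨j, rfl | rfl⟩
      · left; rw [zpow_mul, zpow_two, zz, one_zpow]
      · right; rw [zpow_add, zpow_mul, zpow_two, zz, one_zpow, one_mul, zpow_one]
    have hU : ∀ (h : H) (v : V), v ∈ Vp V a ∨ v ∈ Vm V a → h • v ∈ Vp V a ∨ h • v ∈ Vm V a := by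
      intro h v hv
      obtain ⟨g, hg, e⟩ := horb h v
      rw [e]
      have e1 : a * g = g * (g⁻¹ * a * g⁻¹⁻¹ * a⁻¹) * a := by group
      rcases hzp _ (ha3 g⁻¹ (inv_mem hg)) with e2 | e2 <;> rw [e2] at e1 <;> rcases hv with hv | hv
      · left; rw [mem_Vp, smul_smul, e1, mul_one, mul_smul, mem_Vp.1 hv]
      · right; rw [mem_Vm, smul_smul, e1, mul_one, mul_smul, mem_Vm.1 hv, smul_inv']
      · right; rw [mem_Vm, smul_smul, e1, mul_smul, mul_smul, mem_Vp.1 hv, hzv, smul_inv']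
      · left; rw [mem_Vp, smul_smul, e1, mul_smul, mul_smul, mem_Vm.1 hv, hzv, inv_inv]
    have hall : ∀ (h : H) (B : Subgroup V), (∀ v ∈ Vp V a, h • v ∈ B) → (∀ v ∈ Vm V a, h • v ∈ B) → B = ⊤ := by
      intro h B h1 h2
      rw [eq_top_iff]
      intro v _
      obtain ⟨x, hx, y, hy, e⟩ := decomp hodd aa (h⁻¹ • v)
      rw [← smul_inv_smul h v, ← e, smul_mul']
      exact B.mul_mem (h1 x hx) (h2 y hy)
    have hty : ∀ h : H, ((∀ v ∈ Vp V a, h • v ∈ Vp V a) ∧ ∀ v ∈ Vm V a, h • v ∈ Vm V a) ∨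
        ((∀ v ∈ Vp V a, h • v ∈ Vm V a) ∧ ∀ v ∈ Vm V a, h • v ∈ Vp V a) := by
      intro h
      rcases union_two (MulDistribMulAction.toMonoidHom V h) (A := Vp V a) (fun v hv => hU h v (Or.inl hv))
        with h1 | h1 <;>
      rcases union_two (MulDistribMulAction.toMonoidHom V h) (A := Vm V a) (fun v hv => hU h v (Or.inr hv))
        with h2 | h2
      · exact absurd (hall h _ h1 h2) hp
      · exact Or.inl ⟨h1, h2⟩
      · exact Or.inr ⟨h1, h2⟩
      · exact absurd (hall h _ h1 h2) hm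
    let S0 : Submonoid H :=
      { carrier := {h | (∀ v ∈ Vp V a, h • v ∈ Vp V a) ∧ ∀ v ∈ Vm V a, h • v ∈ Vm V a}
        one_mem' := ⟨fun v hv => by rwa [one_smul], fun v hv => by rwa [one_smul]⟩
        mul_mem' := fun {x y} hx hy => ⟨fun v hv => by rw [mul_smul]; exact hx.1 _ (hy.1 v hv),
          fun v hv => by rw [mul_smul]; exact hx.2 _ (hy.2 v hv)⟩ }
    let S : Subgroup H :=
      { S0 with
        inv_mem' := fun {x} hx => by
          obtain ⟨k, hk⟩ := mem_powers_iff_mem_zpowers.2 (inv_mem (mem_zpowers x))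
          have := S0.pow_mem hx k
          simp only at hk
          rw [hk] at this; exact this }
    have hS : S = ⊤ := top_of_sq hH fun x => by
      rcases hty x with h1 | h1
      · exact S.mul_mem h1 h1
      · exact ⟨fun v hv => by rw [mul_smul]; exact h1.2 _ (h1.1 v hv),
          fun v hv => by rw [mul_smul]; exact h1.1 _ (h1.2 v hv)⟩
    have hS' : ∀ h, h ∈ S := fun h => hS ▸ mem_top h
    exact key a aa a1 hm (fun h => (hS' h).1) (fun h => (hS' h).2)
  have huniq : ∀ u ∈ (P : Subgroup H), orderOf u = 2 → u = z := by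
    rcases cyclic_or_mc P.isPGroup' h4 with hcy | ⟨-, hmc⟩
    · exact absurd (solv_of_cyclic_two hP hcy) hns
    obtain ⟨a, b, k, m, r, hab⟩ := hmc.exists
    have h1 := hab.toIdx2.relIndex
    have h2 : (zpowers (a : H)).relIndex (P : Subgroup H) = 2 := by
      rw [relIndex_top_right] at h1
      refine Eq.trans ?_ h1
      rw [relIndex]
      congr 1
      ext x
      simp only [mem_subgroupOf, mem_zpowers_iff, Subtype.ext_iff, Subgroup.coe_zpow]
    have h3 : ∀ u ∈ (P : Subgroup H), orderOf u = 2 → ∃ g : H, g * u * g⁻¹ ∈ zpowers (a : H) := by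
      intro u hu ou
      refine (thompson_transfer' hP (zpowers_le.2 a.2) h2 ou hu).resolve_left ?_
      rintro ⟨N, -, hN, hu⟩
      exact hu (top_of_sq hH (mul_self_mem_of_index_two hN) ▸ mem_top u)
    intro u hu ou
    obtain ⟨g, hg⟩ := h3 u hu ou
    obtain ⟨g', hg'⟩ := h3 z hzP oz
    rw [zc] at hg'
    have := invol_eq_of_mem_zpowers hg hg' (((MulAut.conj g).orderOf_eq u).trans ou) oz
    calc u = g⁻¹ * (g * u * g⁻¹) * g⁻¹⁻¹ := by group
      _ = z := by rw [this, zc]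
  have hfpf : ∀ x ∈ (P : Subgroup H), x ≠ 1 → ∀ v : V, x • v = v → v = 1 := by
    intro x hx x1 v hv
    obtain ⟨u, hu, u1, uu, -⟩ := exists_central_of_ne_bot (V := zpowers x) (N := zpowers x)
      (P.isPGroup'.to_le (zpowers_le.2 hx)) le_rfl le_normalizer (by rwa [Ne, zpowers_eq_bot])
    have e := huniq u (zpowers_le.2 hx hu) (orderOf_eq_prime uu u1)
    have : u ∈ stabilizer H v := zpowers_le.2 (mem_stabilizer_iff.2 hv) hu
    rw [e, mem_stabilizer_iff, hzv] at this
    exact self_inv v this.symm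
  obtain ⟨n, hn⟩ := IsPGroup.iff_card.1 P.isPGroup'
  have horbc : ∀ v : V, v ≠ 1 → (orbit H v).ncard = 2 ^ n := by
    intro v hv
    have e : orbit H v = Set.range fun g : (P : Subgroup H) => (g : H) • v := by
      ext w
      constructor
      · rintro ⟨h, rfl⟩
        obtain ⟨g, hg, e⟩ := horb h v
        exact ⟨⟨g, hg⟩, e.symm⟩
      · rintro ⟨g, rfl⟩; exact ⟨g, rfl⟩
    rw [e, Set.ncard_range_of_injective, hn]
    intro g g' hg
    by_contra hne
    refine hv (hfpf ((g' : H)⁻¹ * g) (mul_mem (inv_mem g'.2) g.2) (fun e => hne ?_) v ?_)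
    · exact Subtype.ext (inv_mul_eq_one.1 e).symm
    · simp only at hg
      rw [mul_smul, hg, inv_smul_smul]
  have hnpc : ¬ HasNormalPComplement 2 H := by
    rintro ⟨P', N, hN, hcomp⟩
    have hNo : Odd (Nat.card N) := by
      rw [← hcomp.index_eq_card]
      exact Nat.odd_iff.2 (Nat.two_dvd_ne_zero.1 P'.not_dvd_index)
    haveI := CfsgPF.feit_thompson hNo
    have hQ : IsPGroup 2 (H ⧸ N) := by
      obtain ⟨k, hk⟩ := IsPGroup.iff_card.1 P'.isPGroup'
      exact IsPGroup.of_card (by rw [← index, hcomp.symm.index_eq_card, hk])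
    haveI := hQ.isNilpotent
    exact hns (solvable_of_ker_le_range N.subtype (QuotientGroup.mk' N) (by simp))
  obtain ⟨T, hT, g, hg, og, hgc⟩ : ∃ T : Subgroup H, T ≤ P ∧ ∃ g ∈ normalizer (T : Set H),
      (orderOf g).Coprime 2 ∧ g ∉ centralizer (T : Set H) := by
    by_contra hh
    push Not at hh
    exact hnpc (frobenius_hasNPC' P fun T hT _ g hg og => hh T hT g hg og)
  obtain ⟨y, hy, hyc, r, hr, hr2, j, oy⟩ := exists_primepow_not_mem (Nat.coprime_two_right.1 og) hgc
  haveI : Fact r.Prime := ⟨hr⟩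
  have hyN : y ∈ normalizer (T : Set H) := zpowers_le.2 hg hy
  have hyp : IsPGroup r (zpowers y) := IsPGroup.of_card (by rw [Nat.card_zpowers, oy])
  obtain ⟨x, hx, hxy⟩ : ∃ x ∈ T, x * y ≠ y * x := by
    by_contra hh
    push Not at hh
    exact hyc (mem_centralizer_iff.2 hh)
  have hrq : r ≠ q := by
    rintro rfl
    refine hc ((dvd_pow_self r ?_).trans (oy ▸ orderOf_dvd_natCard y))
    rintro rfl
    rw [pow_zero, orderOf_eq_one_iff] at oy
    exact hyc (oy ▸ one_mem _)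
  have hW : Nat.card (Vp V y) * Nat.card (Vp V y) ≤ Nat.card V := by
    rw [← Nat.card_prod]
    refine Nat.card_le_card_of_injective (fun w => w.1.1 * x • w.2.1) ?_
    rintro ⟨⟨a, ha⟩, ⟨b, hb⟩⟩ ⟨⟨c, hc'⟩, ⟨e, he⟩⟩ hh
    simp only at hh
    have e1 : x • (e * b⁻¹) = a * c⁻¹ := by
      rw [smul_mul', smul_inv', mul_inv_eq_iff_eq_mul, mul_right_comm, hh, mul_right_comm, mul_inv_cancel, one_mul]
    have e2 : y • (a * c⁻¹) = a * c⁻¹ := (Vp V y).mul_mem ha (inv_mem hc')
    have e3 : y • (e * b⁻¹) = e * b⁻¹ := (Vp V y).mul_mem he (inv_mem hb)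
    have e4 : e * b⁻¹ = 1 := by
      refine hfpf (x⁻¹ * (y * x * y⁻¹)) (hT (T.mul_mem (inv_mem hx) ((mem_normalizer_iff.1 hyN x).1 hx)))
        (fun e => hxy ?_) _ ?_
      · rw [inv_mul_eq_one, eq_mul_inv_iff_mul_eq] at e; exact e
      · rw [mul_smul, mul_smul, mul_smul, inv_smul_eq_iff.2 e3.symm, e1, e2, ← e1, inv_smul_smul]
    rw [e4, smul_one] at e1
    exact Prod.ext (Subtype.ext (mul_inv_eq_one.1 e1.symm)) (Subtype.ext (mul_inv_eq_one.1 e4).symm)
  obtain ⟨w, hw⟩ := IsPGroup.iff_card.1 (hV.to_subgroup (Vp V y))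
  have hq3 : 3 ≤ q := by have := hq.out.two_le; omega
  have hd1 : 1 ≤ d := by
    by_contra hh
    have : d = 0 := by omega
    subst this
    rw [pow_zero] at hd
    haveI := (Nat.card_eq_one_iff_unique.1 hd).1
    exact hh0 (hf h0 fun v => Subsingleton.elim _ _)
  have hmod := fun v : V => fix_modEq hyp v
  have hf2 : ∀ v : V, v ≠ 1 → 2 ≤ (orbit H v ∩ Vp V y).ncard := by
    intro v hv
    have h1 := hmod v
    rw [horbc v hv] at h1
    obtain ⟨u, hu, hu'⟩ : (orbit H v ∩ Vp V y).Nonempty := by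
      rw [Set.nonempty_iff_ne_empty]
      intro e
      rw [e, Set.ncard_empty] at h1
      exact hr2 ((Nat.prime_dvd_prime_iff_eq hr Nat.prime_two).1
        (hr.dvd_of_dvd_pow ((Nat.modEq_zero_iff_dvd).1 h1)))
    have hu1 : u ≠ 1 := by
      obtain ⟨g, rfl⟩ := hu
      intro e
      have := congrArg (g⁻¹ • ·) e
      exact hv (by simpa using this)
    refine (Set.one_lt_ncard (Set.toFinite _)).2 ⟨u, ⟨hu, hu'⟩, u⁻¹, ⟨?_, (Vp V y).inv_mem hu'⟩,
      fun e => hu1 (self_inv u e)⟩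
    rw [← hzv]
    exact (orbit_eq_iff.2 hu).symm ▸ (orbit_eq_iff.2 hu) ▸ mem_orbit_of_mem_orbit z hu
  have c2 := count_orb horbc hf2
  have c1 := dvd_orb horbc
  rw [hd] at c1
  rw [hd, hw] at c2 hW
  rw [← pow_add, Nat.pow_le_pow_iff_right hq.out.one_lt, ← two_mul] at hW
  obtain ⟨n1, n2⟩ := qb_num hqo hq3 hd1 hW c1 c2
  have hf3 : ∀ v : V, v ≠ 1 → 3 ≤ (orbit H v ∩ Vp V y).ncard := by
    intro v hv
    have h1 := hmod v
    have h2 := hf2 v hv
    by_contra hh
    rw [horbc v hv, show (orbit H v ∩ Vp V y).ncard = 2 by omega, n1] at h1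
    have h3 : r ∣ 2 * q ^ w := by
      have := (Nat.modEq_iff_dvd' (by omega)).1 h1.symm
      rwa [show 2 * (q ^ w + 1) - 2 = 2 * q ^ w by omega] at this
    rcases (Nat.Prime.dvd_mul hr).1 h3 with h4 | h4
    · exact hr2 ((Nat.prime_dvd_prime_iff_eq hr Nat.prime_two).1 h4)
    · exact hrq ((Nat.prime_dvd_prime_iff_eq hr hq.out).1 (hr.dvd_of_dvd_pow h4))
  have c3 := count_orb horbc hf3
  rw [hd, hw, n1, n2] at c3
  have hs : 1 < q ^ w * q ^ w := n2 ▸ Nat.one_lt_pow (by omega) hq.out.one_lt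
  obtain ⟨c, hc⟩ : ∃ c, q ^ w = c + 1 := ⟨q ^ w - 1, by have := Nat.one_le_pow w q (by omega); omega⟩
  rw [hc] at c3 hs
  have e : (c + 1) * (c + 1) - 1 = c * (c + 2) := by
    have : (c + 1) * (c + 1) = c * (c + 2) + 1 := by ring
    omega
  rw [e, Nat.add_sub_cancel] at c3
  have : 1 ≤ c := by
    by_contra hh
    have : c = 0 := by omega
    subst this; omega
  nlinarith

end act

theorem act_triv {q : ℕ} [hq : Fact q.Prime] (hq2 : q ≠ 2) : ∀ (n : ℕ) (V : Type u) [CommGroup V] [Finite V],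
    Nat.card V = n → IsPGroup q V → ∀ (H : Type u) [Group H] [Finite H] [MulDistribMulAction H V],
    ¬ q ∣ Nat.card H → commutator H = ⊤ → (∀ v : V, ∃ k, (stabilizer H v).index = 2 ^ k) →
    ∀ (h : H) (v : V), h • v = v := by
  intro n
  induction n using Nat.strong_induction_on with
  | _ n ih =>
  intro V _ _ hn hV H _ _ _ hc hH ho h v
  let φ := MulDistribMulAction.toMulAut H V
  have hc' : ¬ q ∣ Nat.card φ.range := fun e => hc (e.trans (card_range_dvd φ))
  have hH' : commutator φ.range = ⊤ := by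
    have := map_commutator (⊤ : Subgroup H) ⊤ φ.rangeRestrict
    rw [← commutator_def, hH, map_top_of_surjective _ φ.rangeRestrict_surjective] at this
    exact this.symm
  have ho' : ∀ v : V, ∃ k, (stabilizer φ.range v).index = 2 ^ k := fun v => by
    obtain ⟨k, hk⟩ := ho v
    refine ⟨k, ?_⟩
    rw [← hk, ← index_comap_of_surjective _ φ.rangeRestrict_surjective]
    rfl
  have := faith_case (H := φ.range) hq2 hV (fun U hU hinv g u hu => ?_)
    (fun g hg => Subtype.ext (MulEquiv.ext hg)) hc' hH' ho' (φ.rangeRestrict h)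
  · exact congrArg (fun g : φ.range => g • v) this |>.trans (one_smul _ v)
  · letI := subAct U hinv
    have hlt : Nat.card U < n := hn ▸ lt_of_le_of_ne (card_le_card_group U)
      (fun e => hU (eq_top_of_card_eq U e))
    refine congrArg Subtype.val (ih _ hlt U rfl (hV.to_subgroup U) φ.range hc' hH' (fun w => ?_) g ⟨u, hu⟩)
    obtain ⟨k, hk⟩ := ho' w.1
    refine ⟨k, ?_⟩
    rw [← hk]
    congr 1
    ext g
    exact Subtype.ext_iff

end CfsgLead
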