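import Cfsg.Agent.Lead.Sm25
import Cfsg.Agent.H9.CSz
import Cfsg.Agent.S4035

set_option autoImplicit false
set_option linter.unusedSectionVars false
set_option linter.style.haveILetI false
open Subgroup Cfsg CfsgH2 CfsgFT CfsgH1 MulAction
open scoped commutatorElement

/-! `q`-Baer groups. -/
namespace CfsgLead
universe u

theorem act_triv2 {p q : ℕ} (hp : p.Prime) [hq : Fact q.Prime] (hpq : p ≠ q) {V : Type u} [Group V] [Finite V]
    (hcm : IsMulCommutative V) (hV : IsPGroup q V) (H : Subgroup (MulAut V)) (hc : ¬ q ∣ Nat.card H)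
    (hH : commutator H = ⊤) (ho : ∀ v : V, ∃ k, (stabilizer H v).index = p ^ k) : H = ⊥ := by
  classical
  let inst : MulDistribMulAction H V := inferInstance
  letI : CommGroup V := { ‹Group V› with mul_comm := hcm.is_comm.comm }
  by_cases hp2 : p = 2
  · subst hp2
    have := @act_triv q _ hpq.symm _ V _ _ rfl hV H _ _ inst hc hH ho
    rw [eq_bot_iff]
    intro h hh
    exact MulEquiv.ext (this ⟨h, hh⟩)
  by_contra hne
  haveI := (nontrivial_iff_ne_bot H).2 hne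
  have hev : ¬ Odd (Nat.card H) := fun h => by
    haveI := CfsgPF.feit_thompson h
    exact (Group.IsSolvable.commutator_lt_top_of_nontrivial H).ne hH
  rw [Nat.not_odd_iff_even, even_iff_two_dvd] at hev
  haveI : Fact (Nat.Prime 2) := ⟨Nat.prime_two⟩
  obtain ⟨t, ht⟩ := exists_prime_orderOf_dvd_card' 2 hev
  have hq2 : q ≠ 2 := by rintro rfl; exact hc hev
  obtain ⟨d, hd⟩ := IsPGroup.iff_card.1 hV
  have hodd : Odd (Nat.card V) := hd ▸ (hq.out.odd_of_ne_two hq2).pow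
  have tt : t * t = 1 := by rw [← sq, ← ht, pow_orderOf_eq_one]
  obtain ⟨v, hv, v1⟩ : ∃ v : V, t • v = v⁻¹ ∧ v ≠ 1 := by
    by_contra hh
    push Not at hh
    have : t = 1 := Subtype.ext (MulEquiv.ext fun v => by
      obtain ⟨x, hx, y, hy, rfl⟩ := @decomp V _ _ H _ _ inst hodd t tt v
      rw [hh y hy, mul_one]; exact hx)
    rw [this, orderOf_one] at ht
    omega
  obtain ⟨k, hk⟩ := ho v
  rw [index_stabilizer] at hk
  have hfin := (Set.toFinite (orbit H v))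
  have hinv : ∀ a ∈ hfin.toFinset, a⁻¹ ∈ hfin.toFinset := by
    intro a ha
    rw [Set.Finite.mem_toFinset] at ha ⊢
    obtain ⟨g, rfl⟩ := ha
    exact ⟨g * t, by simp only [mul_smul, hv, smul_inv']⟩
  have hs := Finset.sum_involution (s := hfin.toFinset) (f := fun _ => (1 : ZMod 2)) (fun a _ => a⁻¹)
    (fun _ _ => rfl) (fun a ha _ e => by
      rw [Set.Finite.mem_toFinset] at ha
      obtain ⟨g, rfl⟩ := ha
      have h1 : g • v = 1 := sq_inj hodd (by
        rw [mul_one]; simp only at e; nth_rewrite 2 [← e]; exact mul_inv_cancel _)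
      have := congrArg (g⁻¹ • ·) h1
      exact v1 (by simpa using this)) hinv (fun a _ => inv_inv a)
  rw [Finset.sum_const, nsmul_eq_mul, mul_one, ZMod.natCast_eq_zero_iff, ← Set.ncard_eq_toFinset_card _ hfin,
    hk] at hs
  exact hp2 ((Nat.prime_dvd_prime_iff_eq Nat.prime_two hp).1 (Nat.prime_two.dvd_of_dvd_pow hs)).symm

variable {G : Type u} [Group G] [Finite G]

theorem qb_solv {p q : ℕ} (hp : p.Prime) [hq : Fact q.Prime] (hpq : p ≠ q) {Q : Subgroup G} [Q.Normal]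
    (hQ : IsSylowIn q Q ⊤) (hc : Q ≤ C(Q)) (hO : pPrimeCore q G = ⊥)
    (ho : ∀ x ∈ Q, ∃ k, (C1(x)).index = p ^ k) : Group.IsSolvable G := by
  obtain ⟨n, hn⟩ : ∃ n, ∀ m, Nat.card (derivedSeries G n) ≤ Nat.card (derivedSeries G m) :=
    ⟨Function.argmin (fun m => Nat.card (derivedSeries G m)), fun m => Function.argmin_le (fun m => Nat.card (derivedSeries G m)) m⟩
  set D := derivedSeries G n with hD
  have hDD : ⁅D, D⁆ = D := CfsgH2.eq_of_le_of_card_le (commutator_le_right _ _) (hn (n + 1))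
  have perf : ∀ {K : Type u} [Group K] (A : Subgroup K), ⁅A, A⁆ = A → commutator A = ⊤ := fun A h => by
    apply map_injective A.subtype_injective
    rw [map_subtype_commutator, h, ← MonoidHom.range_eq_map, range_subtype]
  let φ : G →* MulAut Q := MulAut.conjNormal
  have hker : φ.ker = C(Q) := by
    ext g
    rw [MonoidHom.mem_ker, mem_centralizer_iff]
    constructor
    · intro h x hx
      have := congrArg Subtype.val (DFunLike.congr_fun h ⟨x, hx⟩)
      simp only [φ, MulAut.conjNormal_apply, MulAut.one_apply] at this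
      rw [mul_inv_eq_iff_eq_mul] at this; exact this.symm
    · intro h
      ext x
      simp only [φ, MulAut.conjNormal_apply, MulAut.one_apply]
      rw [← h x x.2, mul_inv_cancel_right]
  have h1 : D.map φ = ⊥ := by
    refine act_triv2 hp hpq (isMulCommutative_iff_le_centralizer.2 hc) hQ.pgroup _ (fun h => ?_)
      (perf _ (by rw [← map_commutator, hDD])) (fun v => ?_)
    · refine hQ.not_dvd (h.trans ((card_dvd_of_le (map_le_range φ D)).trans ?_))
      rw [← index_ker, hker, relIndex_top_right]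
      exact index_dvd_of_le hc
    · obtain ⟨k, hk⟩ := ho v v.2
      have e : (stabilizer (D.map φ) v).index = (C1((v : G))).relIndex D := by
        rw [← index_comap_of_surjective _ (φ.subgroupMap_surjective D), relIndex]
        congr 1
        ext g
        rw [mem_comap, mem_stabilizer_iff, mem_subgroupOf, mem_cent1', Subtype.ext_iff]
        change (g : G) * v * (g : G)⁻¹ = v ↔ _
        rw [mul_inv_eq_iff_eq_mul]
      obtain ⟨j, -, hj⟩ := (Nat.dvd_prime_pow hp).1 (hk ▸ relIndex_normal_dvd_index C1((v : G)) D)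
      exact ⟨j, e.trans hj⟩
  rw [Subgroup.map_eq_bot_iff, hker] at h1
  have hS := hQ.inf_of_normalizer' (N := D) le_top le_normalizer_of_normal
  have h2 : Q.subgroupOf D = ⊥ := by
    have h3 : Q.subgroupOf D ≤ center D := fun x hx => mem_center_iff.2 fun g =>
      Subtype.ext (mem_centralizer_iff.1 (h1 g.2) x hx).symm
    have := inf_commutator_inf_center (H := Q.subgroupOf D)
      (isMulCommutative_iff_le_centralizer.2 (h3.trans (center_le_centralizer _))) (by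
        obtain ⟨k, hk⟩ := IsPGroup.iff_card.1 (hQ.pgroup.comap_subtype (K := D))
        have h4 := hS.not_dvd
        rw [inf_relIndex_right] at h4
        rw [subgroupOf, hk]
        exact Nat.Coprime.pow_left _ ((Nat.Prime.coprime_iff_not_dvd hq.out).2 h4))
    rwa [perf D hDD, inf_top_eq, inf_eq_left.2 h3] at this
  rw [subgroupOf_eq_bot, disjoint_iff] at h2
  have h5 : D ≤ pPrimeCore q G :=
    le_pPrimeCore ((Nat.Prime.coprime_iff_not_dvd hq.out).2 (hS.eq_bot_iff.1 h2)).symm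
  rw [hO, le_bot_iff] at h5
  exact ⟨n, h5⟩

/-- conjugacy class -/
def ccl (x : G) : Set G := {w | ∃ g, g * x * g⁻¹ = w}

theorem ncard_ccl (x : G) : (ccl x).ncard = (C1(x)).index := by
  rw [← ncard_carrier_eq_index]
  congr 1
  ext w
  rw [ConjClasses.mem_carrier_iff_mk_eq, ConjClasses.mk_eq_mk_iff_isConj, isConj_comm, isConj_iff]
  rfl

theorem index_C1_conj (g x : G) : (C1(g * x * g⁻¹)).index = (C1(x)).index := by
  rw [← cj_centralizer_singleton, index_cj]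

theorem ncj_iff {N : Subgroup G} [hN : N.Normal] (g x : G) : g * x * g⁻¹ ∈ N ↔ x ∈ N :=
  ⟨fun h => by simpa [mul_assoc] using hN.conj_mem _ h g⁻¹, fun h => hN.conj_mem _ h g⟩

theorem qb_L {x y : G} (h : (C1(x)).index.Coprime (C1(y)).index) (hle : (C1(x * y)).index ≤ (C1(x)).index) :
    ∃ T : Subgroup G, T.Normal ∧ Nat.card T ∣ (C1(x)).index ∧ ∀ g, g * y * g⁻¹ * y⁻¹ ∈ T := by
  have h1 : ∀ g, ∀ w ∈ ccl x, w * (g * y * g⁻¹) ∈ ccl (x * y) := by
    rintro g _ ⟨k, rfl⟩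
    obtain ⟨a, ha, b, hb, e⟩ := mul_of_coprime h (k⁻¹ * g)
    have e1 : g = k * a * b := by rw [mul_assoc, e]; group
    refine ⟨k * a, ?_⟩
    have e2 := mem_cent1.1 ha
    have e3 := mem_cent1.1 hb
    calc k * a * (x * y) * (k * a)⁻¹ = k * (a * x) * (y * b) * b⁻¹ * a⁻¹ * k⁻¹ := by group
      _ = _ := by rw [← e2, e3, e1]; group
  have h2 : (· * y) '' ccl x = ccl (x * y) := by
    refine Set.eq_of_subset_of_ncard_le ?_ ?_
    · rintro _ ⟨w, hw, rfl⟩
      simpa using h1 1 w hw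
    · rw [Set.ncard_image_of_injective _ (mul_left_injective y), ncard_ccl, ncard_ccl]; exact hle
  let S0 : Submonoid G :=
    { carrier := {u | ∀ w ∈ ccl x, w * u ∈ ccl x}
      one_mem' := fun w hw => by rwa [mul_one]
      mul_mem' := fun {a b} ha hb w hw => by rw [← mul_assoc]; exact hb _ (ha w hw) }
  let T : Subgroup G :=
    { S0 with
      inv_mem' := fun {a} ha => by
        obtain ⟨k, hk⟩ := mem_powers_iff_mem_zpowers.2 (inv_mem (mem_zpowers a))
        have := S0.pow_mem ha k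
        simp only at hk
        rw [hk] at this; exact this }
  have mT : ∀ u, u ∈ T ↔ ∀ w ∈ ccl x, w * u ∈ ccl x := fun u => Iff.rfl
  refine ⟨T, ⟨fun u hu g => (mT _).2 ?_⟩, ?_, fun g => (mT _).2 fun w hw => ?_⟩
  · rintro _ ⟨k, rfl⟩
    obtain ⟨m, hm⟩ := (mT u).1 hu _ ⟨g⁻¹ * k, rfl⟩
    refine ⟨g * m, ?_⟩
    calc g * m * x * (g * m)⁻¹ = g * (m * x * m⁻¹) * g⁻¹ := by group
      _ = _ := by rw [hm]; group
  · have e : ccl x = QuotientGroup.mk ⁻¹' ((QuotientGroup.mk : G → G ⧸ T) '' ccl x) := by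
      refine Set.Subset.antisymm (Set.subset_preimage_image _ _) ?_
      rintro w' ⟨w, hw, e⟩
      have := (mT _).1 (QuotientGroup.eq.1 e) w hw
      rwa [mul_inv_cancel_left] at this
    rw [← ncard_ccl, ← Nat.card_coe_set_eq, e, QuotientGroup.card_preimage_mk]
    exact dvd_mul_right _ _
  · have := h1 g w hw
    rw [← h2] at this
    obtain ⟨w', hw', e⟩ := this
    rw [← mul_assoc, ← e, mul_inv_cancel_right]; exact hw'

theorem qb_normal {y : G} {T : Subgroup G} [T.Normal] (h : ∀ g, g * y * g⁻¹ * y⁻¹ ∈ T) :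
    (T ⊔ zpowers y).Normal := by
  refine normal_of_top_le fun g _ => mem_normalizer_of_cj_le ?_
  rw [cj_sup, cj_eq_of_normal, cj_zpowers]
  refine sup_le le_sup_left (zpowers_le.2 ?_)
  have := mul_mem (mem_sup_left (T := zpowers y) (h g)) (mem_sup_right (mem_zpowers y))
  rwa [inv_mul_cancel_right] at this

theorem qb_L2 {q s : ℕ} [hq : Fact q.Prime] (hs : s.Prime) (hsq : s ≠ q) {y : G} {k a : ℕ} (hy : orderOf y = q ^ k)
    {T : Subgroup G} [T.Normal] (hT : Nat.card T ∣ s ^ a) (h : ∀ g, g * y * g⁻¹ * y⁻¹ ∈ T) :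
    (C1(y)).index ∣ s ^ a := by
  haveI := qb_normal h
  have hc : q.Coprime s := (Nat.coprime_primes hq.out hs).2 hsq.symm
  have hS : IsSylowIn q (zpowers y) (T ⊔ zpowers y) := ⟨le_sup_right, isPGroup_zpowers_of_orderOf hy, fun e =>
    (Nat.Prime.coprime_iff_not_dvd hq.out).1 (hc.pow_right a)
      (e.trans ((relIndex_sup_dvd (A := T) le_normalizer_of_normal).2.trans hT))⟩
  have hd : T ⊓ zpowers y = ⊥ := inf_eq_bot_of_coprime (by
    rw [Nat.card_zpowers, hy]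
    exact Nat.Coprime.coprime_dvd_left hT (Nat.Coprime.pow _ _ hc.symm))
  have ht : T ⊔ C1(y) = ⊤ := by
    rw [eq_top_iff]
    intro g _
    obtain ⟨n, hn, hg⟩ := hS.frattini (g := g) (le_normalizer_of_normal (mem_top g))
    rw [sup_comm] at hn
    obtain ⟨c, hc, t, ht, rfl⟩ := (mem_sup_of_normalizer' le_normalizer_of_normal).1 hn
    have h1 : t * g ∈ N(zpowers y) := by
      have := mul_mem (inv_mem (le_normalizer hc)) hg
      rwa [mul_assoc, inv_mul_cancel_left] at this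
    have h2 : t * g * y * (t * g)⁻¹ * y⁻¹ ∈ T ⊓ zpowers y :=
      ⟨h _, (zpowers y).mul_mem (CfsgH2.conj_mem_of_mem_normalizer h1 (mem_zpowers y))
        ((zpowers y).inv_mem (mem_zpowers y))⟩
    rw [hd, mem_bot, mul_inv_eq_one, mul_inv_eq_iff_eq_mul] at h2
    have := mul_mem (mem_sup_left (T := C1(y)) (inv_mem ht)) (mem_sup_right (mem_cent1'.2 h2))
    rwa [inv_mul_cancel_left] at this
  have := (relIndex_sup_dvd (A := T) (B := C1(y)) le_normalizer_of_normal).2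
  rw [ht, relIndex_top_right] at this
  exact this.trans hT

variable {q : ℕ} [hq : Fact q.Prime]

theorem qb_half {x y : G} {s r a b k : ℕ} (hs : s.Prime) (hr : r.Prime) (hsr : s ≠ r) (hb : b ≠ 0)
    (hx : (C1(x)).index = s ^ a) (hy : (C1(y)).index = r ^ b) (oy : orderOf y = q ^ k)
    (hle : (C1(x * y)).index ≤ (C1(x)).index) : s = q ∧ y ∈ pCore q G := by
  have hc : s.Coprime r := (Nat.coprime_primes hs hr).2 hsr
  obtain ⟨T, hT, h1, h2⟩ := qb_L (by rw [hx, hy]; exact hc.pow _ _) hle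
  rw [hx] at h1
  by_cases hsq : s = q
  · subst hsq
    refine ⟨rfl, ?_⟩
    haveI := qb_normal h2
    obtain ⟨j, -, hj⟩ := (Nat.dvd_prime_pow hs).1 h1
    exact le_pCore (IsPGroup.to_sup_of_normal_left (IsPGroup.of_card hj) (isPGroup_zpowers_of_orderOf oy))
      (mem_sup_right (mem_zpowers y))
  · have := qb_L2 hs hsq oy h1 h2
    rw [hy] at this
    exact absurd ((Nat.prime_dvd_prime_iff_eq hr hs).1
      (hr.dvd_of_dvd_pow ((dvd_pow_self r hb).trans this))).symm hsr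

theorem qb_pair (hB : ∀ x : G, (∃ k : ℕ, orderOf x = q ^ k) → ∃ r a : ℕ, r.Prime ∧ (C1(x)).index = r ^ a)
    {x y : G} {s r a b k l : ℕ} (hs : s.Prime) (hr : r.Prime) (hsr : s ≠ r) (ha : a ≠ 0) (hb : b ≠ 0)
    (hx : (C1(x)).index = s ^ a) (hy : (C1(y)).index = r ^ b) (ox : orderOf x = q ^ l) (oy : orderOf y = q ^ k) :
    (s = q ∧ y ∈ pCore q G) ∨ (r = q ∧ x ∈ pCore q G) := by
  obtain ⟨Q⟩ : Nonempty (Sylow q G) := inferInstance
  obtain ⟨g, hg⟩ := exists_conj_mem_sylow Q ox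
  obtain ⟨h, hh⟩ := exists_conj_mem_sylow Q oy
  rw [← index_C1_conj g] at hx
  rw [← index_C1_conj h] at hy
  rw [← orderOf_conj' g] at ox
  rw [← orderOf_conj' h] at oy
  rw [← ncj_iff h y, ← ncj_iff g x]
  generalize g * x * g⁻¹ = x at *
  generalize h * y * h⁻¹ = y at *
  obtain ⟨t, c, ht, e⟩ := hB (x * y) (exists_orderOf_eq_pow Q.isPGroup' (mul_mem hg hh))
  have hc : s.Coprime r := (Nat.coprime_primes hs hr).2 hsr
  have h1 : t ^ c ∣ s ^ a * r ^ b := by
    rw [← e, ← hx, ← hy, ← index_inf_of_coprime (by rw [hx, hy]; exact hc.pow _ _)]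
    refine index_dvd_of_le fun u hu => mem_cent1.2 ?_
    rw [mul_assoc, mem_cent1.1 hu.2, ← mul_assoc, mem_cent1.1 hu.1, mul_assoc]
  by_cases hts : t = s
  · subst hts
    refine Or.inl (qb_half hs hr hsr hb hx hy oy ?_)
    rw [e, hx]
    exact Nat.le_of_dvd (pow_pos hs.pos _) ((hc.pow _ _).dvd_of_dvd_mul_right h1)
  · refine Or.inr (qb_half hr hs hsr.symm ha hy hx ox ?_)
    rw [show y * x = x⁻¹ * (x * y) * x⁻¹⁻¹ by group, index_C1_conj, e, hy]
    exact Nat.le_of_dvd (pow_pos hr.pos _)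
      ((((Nat.coprime_primes ht hs).2 hts).pow _ _).dvd_of_dvd_mul_left h1)

theorem qb_conj {Q R : Subgroup G} {r : ℕ} [hr : Fact r.Prime] (hrq : r ≠ q) (hQ : IsSylowIn q Q ⊤)
    (hR : IsSylowIn r R ⊤) {w : G} {c : ℕ} (hw : (C1(w)).index = q ^ c) : ∃ n ∈ Q, n * w * n⁻¹ ∈ C(R) := by
  obtain ⟨g, hg⟩ := exists_conj_cent hR (x := w) (by
    rw [hw]; exact fun e => hrq ((Nat.prime_dvd_prime_iff_eq hr.out hq.out).1 (hr.out.dvd_of_dvd_pow e)))
  obtain ⟨a, ha, b, hb, rfl⟩ := mul_of_coprime (A := Q) (B := C1(w)) (by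
    rw [hw, ← relIndex_top_right]
    exact Nat.Coprime.pow_right _ ((Nat.Prime.coprime_iff_not_dvd hq.out).2 hQ.not_dvd).symm) g
  refine ⟨a, ha, ?_⟩
  rwa [show a * b * w * (a * b)⁻¹ = a * (b * w) * b⁻¹ * a⁻¹ by group, mem_cent1'.1 hb,
    show a * (w * b) * b⁻¹ * a⁻¹ = a * w * a⁻¹ by group] at hg

theorem not_dvd_of_cent {Q : Subgroup G} (hQ : IsSylowIn q Q ⊤) {x : G} (hx : x ∈ C(Q)) : ¬ q ∣ (C1(x)).index :=
  fun e => hQ.not_dvd (by
    rw [relIndex_top_right]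
    exact e.trans (index_dvd_of_le fun u hu => mem_cent1'.2 (mem_centralizer_iff.1 hx u hu)))

theorem qb_uniq_aux (hB : ∀ x : G, (∃ k : ℕ, orderOf x = q ^ k) → ∃ r a : ℕ, r.Prime ∧ (C1(x)).index = r ^ a)
    {x y : G} {r a b k l : ℕ} (hr : r.Prime) (hqr : q ≠ r) (ha : a ≠ 0) (hb : b ≠ 0)
    (hx : (C1(x)).index = q ^ a) (hy : (C1(y)).index = r ^ b) (ox : orderOf x = q ^ l) (oy : orderOf y = q ^ k) :
    False := by
  haveI : Fact r.Prime := ⟨hr⟩
  have hall : ∀ w : G, (∃ j, orderOf w = q ^ j) → w ∈ pCore q G := by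
    rintro w ⟨j, hj⟩
    obtain ⟨t, c, ht, e⟩ := hB w ⟨j, hj⟩
    by_cases hc : c = 0
    · exact mem_pCore_of_index_pow ⟨0, by rw [e, hc, pow_zero, pow_zero]⟩ ⟨j, hj⟩
    by_cases htq : t = q
    · exact mem_pCore_of_index_pow ⟨c, by rw [e, htq]⟩ ⟨j, hj⟩
    rcases qb_pair hB hq.out ht (Ne.symm htq) ha hc hx e ox hj with h | h
    · exact h.2
    · exact absurd h.1 htq
  obtain ⟨Q0⟩ : Nonempty (Sylow q G) := inferInstance
  have hQ : IsSylowIn q (pCore q G) ⊤ := by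
    have : pCore q G = Q0 := le_antisymm (pCore_le_sylow Q0) fun w hw =>
      hall w (exists_orderOf_eq_pow Q0.isPGroup' hw)
    rw [this]; exact IsSylowIn.of_sylow_top Q0
  set Q := pCore q G with hQd
  obtain ⟨R, hR⟩ := IsSylowIn.exists_sylowIn r (⊤ : Subgroup G)
  have h1 : ∀ w ∈ Q, w ∈ C(Q) ∨ ∃ n ∈ Q, n * w * n⁻¹ ∈ C(R) := by
    intro w hw
    obtain ⟨t, c, ht, e⟩ := hB w (exists_orderOf_eq_pow hQ.pgroup hw)
    by_cases htq : t = q
    · subst htq; exact Or.inr (qb_conj hqr.symm hQ hR e)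
    · obtain ⟨g, hg⟩ := exists_conj_cent hQ (x := w) (by
        rw [e]; exact fun e => htq ((Nat.prime_dvd_prime_iff_eq hq.out ht).1 (hq.out.dvd_of_dvd_pow e)).symm)
      exact Or.inl ((ncj_iff g w).1 hg)
  have h2 : Q ≤ (Q ⊓ C(R)) ⊔ (Q ⊓ C(Q)) := CfsgH9.le_of_forall_conj fun w hw => by
    rcases h1 w hw with h | ⟨n, hn, h⟩
    · exact ⟨1, one_mem _, mem_sup_right ⟨by simpa using hw, by simpa using h⟩⟩
    · exact ⟨n, hn, mem_sup_left ⟨Q.mul_mem (Q.mul_mem hn hw) (Q.inv_mem hn), h⟩⟩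
  have h3 : ∀ w ∈ Q, w ∈ C(Q) ∨ w ∈ C(R) := by
    intro w hw
    refine (h1 w hw).imp_right fun ⟨n, hn, h⟩ => ?_
    obtain ⟨c, hc, z, hz, rfl⟩ := (mem_sup_of_normalizer' le_normalizer_of_normal).1 (h2 hn)
    rw [show c * z * w * (c * z)⁻¹ = c * (z * w) * z⁻¹ * c⁻¹ by group, ← mem_centralizer_iff.1 hz.2 w hw,
      show c * (w * z) * z⁻¹ * c⁻¹ = c * w * c⁻¹ by group] at h
    have := (C(R)).mul_mem ((C(R)).mul_mem ((C(R)).inv_mem hc.2) h) hc.2
    rwa [show c⁻¹ * (c * w * c⁻¹) * c = w by group] at this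
  have xQ := hall x ⟨l, ox⟩
  have yQ := hall y ⟨k, oy⟩
  have x1 : x ∉ C(Q) := fun h => not_dvd_of_cent hQ h (hx ▸ dvd_pow_self q ha)
  have y1 : y ∉ C(R) := fun h => not_dvd_of_cent hR h (hy ▸ dvd_pow_self r hb)
  rcases h3 _ (mul_mem xQ yQ) with h | h
  · exact x1 ((mul_mem_cancel_right ((h3 y yQ).resolve_right y1)).1 h)
  · exact y1 ((mul_mem_cancel_left ((h3 x xQ).resolve_left x1)).1 h)

theorem qb_prime (hB : ∀ x : G, (∃ k : ℕ, orderOf x = q ^ k) → ∃ r a : ℕ, r.Prime ∧ (C1(x)).index = r ^ a) :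
    ∃ p : ℕ, p.Prime ∧ ∀ x : G, (∃ k : ℕ, orderOf x = q ^ k) → ∃ a : ℕ, (C1(x)).index = p ^ a := by
  by_cases h : ∃ x : G, (∃ k : ℕ, orderOf x = q ^ k) ∧ (C1(x)).index ≠ 1
  · obtain ⟨x, ⟨l, ox⟩, h1⟩ := h
    obtain ⟨s, a, hs, hx⟩ := hB x ⟨l, ox⟩
    have ha : a ≠ 0 := by rintro rfl; exact h1 (by rw [hx, pow_zero])
    refine ⟨s, hs, fun y ⟨k, oy⟩ => ?_⟩
    obtain ⟨r, b, hr, hy⟩ := hB y ⟨k, oy⟩
    by_cases hb : b = 0
    · exact ⟨0, by rw [hy, hb, pow_zero, pow_zero]⟩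
    by_cases hsr : s = r
    · exact ⟨b, by rw [hy, hsr]⟩
    exfalso
    rcases qb_pair hB hs hr hsr ha hb hx hy ox oy with ⟨rfl, -⟩ | ⟨rfl, -⟩
    · exact qb_uniq_aux hB hr hsr ha hb hx hy ox oy
    · exact qb_uniq_aux hB hs (Ne.symm hsr) hb ha hy hx oy ox
  · push Not at h
    exact ⟨q, hq.out, fun x hx => ⟨0, by rw [h x hx, pow_zero]⟩⟩

theorem qb_eq (h : ∀ x : G, (∃ k : ℕ, orderOf x = q ^ k) → ∃ a : ℕ, (C1(x)).index = q ^ a) (Q : Sylow q G) :
    (Q : Subgroup G).Normal ∧ ∃ N : Subgroup G, N.Normal ∧ N.IsComplement' (Q : Subgroup G) := by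
  have hQ := IsSylowIn.of_sylow_top Q
  have e : pCore q G = Q := le_antisymm (pCore_le_sylow Q) fun w hw =>
    mem_pCore_of_index_pow (h w (exists_orderOf_eq_pow Q.isPGroup' hw)) (exists_orderOf_eq_pow Q.isPGroup' hw)
  haveI hn : (Q : Subgroup G).Normal := e ▸ inferInstance
  obtain ⟨k, hk⟩ := index_pow_of_forall_sylow (p := q) (L := C((Q : Subgroup G))) fun r hr hrq y ⟨j, hj⟩ => by
    haveI : Fact r.Prime := ⟨hr⟩
    obtain ⟨R, hR, hy⟩ := IsSylowIn.exists_le (isPGroup_zpowers_of_orderOf hj) (H := ⊤) le_top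
    have : (Q : Subgroup G) ≤ C(R) := CfsgH9.le_of_forall_conj fun w hw => by
      obtain ⟨a, ha⟩ := h w (exists_orderOf_eq_pow Q.isPGroup' hw)
      exact qb_conj hrq hQ hR ha
    exact le_centralizer_iff.1 this (hy (mem_zpowers y))
  obtain ⟨-, H, h1, -, h3, h4⟩ := Cfsg.Agent.S4035.result (G := G) (p := q) (fun x hx => by
    rw [ncard_carrier_eq_index]
    refine not_dvd_of_cent hQ ?_
    refine mem_of_pow_mem_of_coprime (n := (C((Q : Subgroup G))).index) ?_ (pow_index_mem _ x)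
    rw [hk]; exact hx.pow_right _) Q
  refine ⟨hn, H, h1, isComplement'_of_disjoint_and_mul_eq_univ (disjoint_iff.2 (by rw [inf_comm, h3])) ?_⟩
  rw [← normal_mul, sup_comm, h4]; rfl

theorem qb_ne {p : ℕ} [hp : Fact p.Prime] (hpq : p ≠ q)
    (h : ∀ x : G, (∃ k : ℕ, orderOf x = q ^ k) → ∃ a : ℕ, (C1(x)).index = p ^ a) (Q : Sylow q G) :
    IsMulCommutative (Q : Subgroup G) ∧ (pCore p G ⊔ (Q : Subgroup G)).Normal ∧
      Group.IsSolvable (G ⧸ pPrimeCore q G) := by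
  have hQ := IsSylowIn.of_sylow_top Q
  let f := QuotientGroup.mk' (pCore p G)
  have hcm : ∀ x y : G, (∃ k, orderOf x = q ^ k) → (∃ k, orderOf y = q ^ k) → f x * f y = f y * f x :=
    fun x y hx hy => mem_centralizer_iff.1 (kaz_quo (h y hy)).2 _ (kaz_quo (h x hx)).1
  have hd : pCore p G ⊓ Q = ⊥ := disjoint_iff.1 (IsPGroup.disjoint_of_ne p q hpq _ _ (isPGroup_pCore p G) Q.isPGroup')
  have hab : (Q : Subgroup G) ≤ C((Q : Subgroup G)) := fun x hx => mem_centralizer_iff.2 fun y hy => by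
    have h1 : ⁅y, x⁆ ∈ pCore p G ⊓ Q := by
      refine ⟨?_, (Q : Subgroup G).mul_mem ((Q : Subgroup G).mul_mem ((Q : Subgroup G).mul_mem hy hx)
        ((Q : Subgroup G).inv_mem hy)) ((Q : Subgroup G).inv_mem hx)⟩
      rw [← QuotientGroup.ker_mk' (pCore p G)]
      change f ⁅y, x⁆ = 1
      rw [map_commutatorElement, commutatorElement_eq_one_iff_mul_comm]
      exact hcm y x (exists_orderOf_eq_pow Q.isPGroup' hy) (exists_orderOf_eq_pow Q.isPGroup' hx)
    rwa [hd, mem_bot, commutatorElement_eq_one_iff_mul_comm] at h1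
  have hn : (pCore p G ⊔ (Q : Subgroup G)).Normal := by
    refine normal_of_top_le fun g _ => mem_normalizer_of_cj_le ?_
    rw [cj_sup, cj_eq_of_normal]
    refine sup_le le_sup_left ?_
    have h1 := (hQ.map f).le_of_le_normalizer (Q := (cj g Q).map f) ((IsPGroup_cj Q.isPGroup' g).map f)
      (map_mono le_top) (le_trans ?_ (centralizer_le_normalizer _))
    · rw [map_le_iff_le_comap, comap_map_eq, QuotientGroup.ker_mk', sup_comm] at h1
      exact h1
    · rintro _ ⟨x, hx, rfl⟩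
      rw [mem_centralizer_iff]
      rintro _ ⟨y, hy, rfl⟩
      exact hcm y x (exists_orderOf_eq_pow Q.isPGroup' hy) (exists_orderOf_eq_pow (IsPGroup_cj Q.isPGroup' g) hx)
  refine ⟨isMulCommutative_iff_le_centralizer.2 hab, hn, ?_⟩
  let π := QuotientGroup.mk' (pPrimeCore q G)
  have hπ : Function.Surjective π := QuotientGroup.mk'_surjective _
  have e : (pCore p G ⊔ (Q : Subgroup G)).map π = (Q : Subgroup G).map π := by
    rw [Subgroup.map_sup, (Subgroup.map_eq_bot_iff _).2 (by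
      rw [QuotientGroup.ker_mk']; exact pCore_le_pPrimeCore_of_ne hpq), bot_sup_eq]
  haveI : ((Q : Subgroup G).map π).Normal := e ▸ hn.map π hπ
  refine qb_solv hp.out hpq (Q := (Q : Subgroup G).map π) (map_top_of_surjective π hπ ▸ hQ.map π) ?_
    (pPrimeCore_quotient_pPrimeCore q G) ?_
  · rintro _ ⟨x, hx, rfl⟩
    rw [mem_centralizer_iff]
    rintro _ ⟨y, hy, rfl⟩
    rw [← map_mul, ← map_mul, mem_centralizer_iff.1 (hab hx) y hy]
  · rintro _ ⟨x, hx, rfl⟩
    obtain ⟨a, ha⟩ := h x (exists_orderOf_eq_pow Q.isPGroup' hx)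
    obtain ⟨j, -, hj⟩ := (Nat.dvd_prime_pow hp.out).1 (ha ▸ index_C1_map_dvd π hπ x)
    exact ⟨j, hj⟩

theorem s4125 (hB : ∀ x : G, (∃ k : ℕ, orderOf x = q ^ k) → ∃ r a : ℕ, r.Prime ∧ (C1(x)).index = r ^ a)
    (Q : Sylow q G) :
    (∃ K L : Subgroup G, K.Normal ∧ L.Normal ∧ K ≤ L ∧ (Nat.card K).Coprime q ∧ (∃ m : ℕ, K.relIndex L = q ^ m) ∧
      L.index.Coprime q) ∧
    ∃ p : ℕ, p.Prime ∧ (∀ x : G, (∃ k : ℕ, orderOf x = q ^ k) → ∃ a : ℕ, (C1(x)).index = p ^ a) ∧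
      (p = q → (Q : Subgroup G).Normal ∧ ∃ N : Subgroup G, N.Normal ∧ N.IsComplement' (Q : Subgroup G)) ∧
      (p ≠ q → IsMulCommutative (Q : Subgroup G) ∧ (pCore p G ⊔ (Q : Subgroup G)).Normal ∧
        ∀ _h : (pPrimeCore q G).Normal, Group.IsSolvable (G ⧸ pPrimeCore q G)) := by
  obtain ⟨p, hp, h⟩ := qb_prime hB
  haveI : Fact p.Prime := ⟨hp⟩
  have hi : (Q : Subgroup G).index.Coprime q := ((Nat.Prime.coprime_iff_not_dvd hq.out).2 Q.not_dvd_index).symm
  obtain ⟨m, hm⟩ := IsPGroup.iff_card.1 Q.isPGroup'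
  refine ⟨?_, p, hp, h, ?_, fun hpq => ?_⟩
  · by_cases hpq : p = q
    · subst hpq
      exact ⟨⊥, Q, inferInstance, (qb_eq h Q).1, bot_le, by simp, ⟨m, by rw [relIndex_bot_left, hm]⟩, hi⟩
    · refine ⟨pCore p G, pCore p G ⊔ Q, inferInstance, (qb_ne hpq h Q).2.1, le_sup_left, ?_, ?_,
        Nat.Coprime.coprime_dvd_left (index_dvd_of_le le_sup_right) hi⟩
      · obtain ⟨j, hj⟩ := IsPGroup.iff_card.1 (isPGroup_pCore p G)
        rw [hj]; exact Nat.Coprime.pow_left _ ((Nat.coprime_primes hp hq.out).2 hpq)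
      · obtain ⟨j, -, hj⟩ := (Nat.dvd_prime_pow hq.out).1
          (hm ▸ (relIndex_sup_dvd (A := pCore p G) (B := Q) le_normalizer_of_normal).1)
        exact ⟨j, hj⟩
  · rintro rfl; exact qb_eq h Q
  · obtain ⟨h1, h2, h3⟩ := qb_ne hpq h Q
    exact ⟨h1, h2, fun _ => h3⟩

end CfsgLead
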