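import Cfsg.Agent.H2.CSize
import Cfsg.Agent.H2.Focal
import Cfsg.Agent.H9.Control2
import Cfsg.Agent.H9.KS1
import Cfsg.Agent.S0618

set_option autoImplicit false
set_option linter.unusedSectionVars false
set_option linter.style.haveILetI false
open Subgroup Cfsg CfsgH2 CfsgFT CfsgH1
open scoped commutatorElement

/-! A prime dividing an automizer of a `p`-subgroup moves to a normal subgroup of a Sylow subgroup. -/
namespace CfsgLead
universe u
variable {p q : ℕ} [hp : Fact p.Prime] [hq : Fact q.Prime]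

theorem hall_comap {G : Type u} [Group G] [Finite G] {π : Set ℕ} {M : Subgroup G} [M.Normal]
    (hM : IsPiNum π (Nat.card M)) {H : Subgroup (G ⧸ M)} (hH : IsPiHall π H) :
    IsPiHall π (H.comap (QuotientGroup.mk' M)) := by
  rw [isPiHall_iff] at hH ⊢
  refine ⟨?_, by rw [index_comap_of_surjective _ (QuotientGroup.mk'_surjective M)]; exact hH.2⟩
  rw [← CfsgH2.card_mul_relIndex (le_comap_mk' M H), relIndex_comap_mk']
  exact hM.mul hH.1

theorem epq : ∀ (n : ℕ) (G : Type u) [Group G] [Finite G], Nat.card G = n → IsPSolvable p G →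
    ∃ H : Subgroup G, IsPiHall {p, q} H := by
  intro n
  induction n using Nat.strong_induction_on with
  | _ n ih =>
  intro G _ _ hn hG
  by_cases ht : (⊤ : Subgroup G) = ⊥
  · refine ⟨⊤, isPiHall_iff.2 ⟨?_, by rw [index_top]; exact IsPiNum.one⟩⟩
    rw [ht, card_bot]; exact IsPiNum.one
  have quo : ∀ (M : Subgroup G) [M.Normal], M ≠ ⊥ → ∃ H : Subgroup (G ⧸ M), IsPiHall {p, q} H := by
    intro M _ hM
    refine ih _ ?_ _ rfl (IsPSolvable.quotient hG M)
    rw [← hn, ← index, ← M.card_mul_index]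
    exact lt_mul_of_one_lt_left (Nat.pos_of_ne_zero index_ne_zero_of_finite) ((one_lt_card_iff_ne_bot M).2 hM)
  obtain ⟨M, hM, hM1, -, h | h⟩ := IsPSolvable.exists_normal_le hG ⊤ ht
  swap
  · obtain ⟨H, hH⟩ := quo M hM1
    exact ⟨_, hall_comap (IsPiNum.of_isPGroup h (by simp)) hH⟩
  obtain ⟨Q, hQ⟩ := IsSylowIn.exists_sylowIn q M
  by_cases hN : N(Q) = ⊤
  · haveI : Q.Normal := normalizer_eq_top_iff.1 hN
    by_cases hQ1 : Q = ⊥
    · obtain ⟨H, hH⟩ := quo M hM1
      have hM' : IsPiNum ({p, q} : Set ℕ)ᶜ (Nat.card M) := IsPiNum.compl_iff.2 fun r hr hr' => by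
        rcases hr' with rfl | rfl
        · exact (Nat.Prime.coprime_iff_not_dvd hr).1 h.symm
        · exact hQ.eq_bot_iff.1 hQ1
      rw [isPiHall_iff] at hH
      set X := H.comap (QuotientGroup.mk' M) with hX
      have hle : M ≤ X := le_comap_mk' M H
      have e1 : Nat.card (M.subgroupOf X) = Nat.card M := Nat.card_congr (subgroupOfEquivOfLe hle).toEquiv
      have e2 : (M.subgroupOf X).index = Nat.card H := relIndex_comap_mk' M H
      obtain ⟨K, hK⟩ := exists_right_complement'_of_coprime (N := M.subgroupOf X)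
        (by rw [e1, e2]; exact (hH.1.coprime hM').symm)
      refine ⟨K.map X.subtype, isPiHall_iff.2 ⟨?_, ?_⟩⟩
      · rw [card_map_of_injective X.subtype_injective, ← hK.symm.index_eq_card, e2]; exact hH.1
      · rw [index_map_subtype, hK.index_eq_card, e1, index_comap_of_surjective _ (QuotientGroup.mk'_surjective M)]
        exact hM'.mul hH.2
    · obtain ⟨H, hH⟩ := quo Q hQ1
      exact ⟨_, hall_comap (IsPiNum.of_isPGroup hQ.pgroup (by simp)) hH⟩
  · obtain ⟨H, hH⟩ := ih _ (hn ▸ lt_of_le_of_ne (card_le_card_group N(Q)) fun e => hN (eq_top_of_card_eq _ e))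
      N(Q) rfl (IsPSolvable.subgroup hG _)
    rw [isPiHall_iff] at hH
    refine ⟨H.map (N(Q)).subtype, isPiHall_iff.2 ⟨by rw [card_map_of_injective (subtype_injective _)]; exact hH.1, ?_⟩⟩
    rw [index_map_subtype]
    refine hH.2.mul ?_
    have e : M ⊔ N(Q) = ⊤ := by
      rw [eq_top_iff]
      intro g _
      obtain ⟨m, hm, hg⟩ := hQ.frattini (g := g) (le_normalizer_of_normal (mem_top g))
      have := mul_mem (mem_sup_left (T := N(Q)) (inv_mem hm)) (mem_sup_right hg)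
      rwa [inv_mul_cancel_left] at this
    have e2 : (N(Q)).index = (N(Q)).relIndex M := by
      rw [relIndex_eq_relIndex_sup le_normalizer_of_normal, e, relIndex_top_right]
    have e3 : (N(Q)).relIndex M ∣ Q.relIndex M := relIndex_dvd_of_le_left _ le_normalizer
    rw [e2]
    refine IsPiNum.compl_iff.2 fun r hr hr' => ?_
    rcases hr' with rfl | rfl
    · exact fun h' => (Nat.Prime.coprime_iff_not_dvd hr).1 h.symm (h'.trans (relIndex_dvd_card _ _))
    · exact fun h' => hQ.not_dvd (h'.trans e3)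

theorem tf_of_pq {G : Type u} [Group G] [Finite G] (hG : IsPSolvable p G) (h6 : ¬ 6 ∣ Nat.card G) :
    IsThompsonFactorizable p G := by
  rw [CfsgH9.fact_quotient_iff]
  by_contra hnf
  obtain ⟨h23, E, -, -, -, hn, ⟨e⟩⟩ := Cfsg.Agent.S0618.result (IsPSolvable.quotient hG _)
    (pPrimeCore_quotient_pPrimeCore p G) hnf
  have h1 := ((card_quotient_dvd_card _).trans (card_subgroup_dvd_card E)).trans
    (card_quotient_dvd_card (pPrimeCore p G)) |> (Nat.card_congr e.toEquiv ▸ ·)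
  refine h6 (dvd_trans (b := Nat.card (Matrix.SpecialLinearGroup (Fin 2) (ZMod p))) ?_ h1)
  rcases h23 with rfl | rfl
  · rw [Nat.card_eq_fintype_card]; decide
  · rw [Nat.card_eq_fintype_card]; decide

variable {G : Type u} [Group G] [Finite G]

/-- some `q`-element normalizes `H` and does not centralize it -/
def Aq (q : ℕ) (H : Subgroup G) : Prop := ∃ y ∈ N(H), (∃ k, orderOf y = q ^ k) ∧ y ∉ C(H)

/-- hypothesis on automizers -/
def PSA (p : ℕ) (G : Type u) [Group G] : Prop :=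
  ∀ H L : Subgroup G, IsPGroup p H → L ≤ N(H) → IsPSolvable p (L ⊓ C(H) : Subgroup G) → IsPSolvable p L

theorem psolv_map {G' : Type u} [Group G'] [Finite G'] {f : G →* G'} {L : Subgroup G} (h : IsPSolvable p L) :
    IsPSolvable p (L.map f) := IsPSolvable.of_surjective h _ (f.subgroupMap_surjective L)

theorem psolv_of_map {G' : Type u} [Group G'] [Finite G'] {f : G →* G'} (hf : Function.Injective f) {L : Subgroup G}
    (h : IsPSolvable p (L.map f)) : IsPSolvable p L :=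
  IsPSolvable.of_surjective h (L.equivMapOfInjective f hf).symm.toMonoidHom (L.equivMapOfInjective f hf).symm.surjective

theorem PSA.subgroup (h : PSA p G) (K : Subgroup G) : PSA p K := fun H L hH hL hs => by
  refine psolv_of_map K.subtype_injective (h (H.map K.subtype) _ (hH.map _)
    ((map_mono hL).trans (le_normalizer_map _)) (IsPSolvable.of_le (psolv_map (f := K.subtype) hs) ?_))
  rintro _ ⟨⟨x, hx, rfl⟩, hc⟩
  exact ⟨x, ⟨hx, fun y hy => Subtype.ext (hc _ ⟨y, hy, rfl⟩)⟩, rfl⟩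

theorem qel {A : Subgroup G} {y : G} {k : ℕ} (h1 : y ∉ A) (h2 : y ^ q ^ k ∈ A) :
    ∃ y' ∈ zpowers y, (∃ k, orderOf y' = q ^ k) ∧ y' ∉ A := by
  obtain ⟨a, b, ha, hb, oa, ob, e⟩ := exists_p_part (p := q) y
  refine ⟨a, ha, oa, fun h => h1 (e ▸ A.mul_mem h ?_)⟩
  obtain ⟨j, rfl⟩ := mem_zpowers_iff.1 hb
  refine CfsgH2.mem_of_pow_mem_of_coprime (n := q ^ k) (ob.pow_right _) ?_
  rw [← zpow_natCast, ← zpow_mul, mul_comm, zpow_mul, zpow_natCast]
  exact A.zpow_mem h2 j

theorem cent_chain (hpq : p ≠ q) {H X : Subgroup G} (hX : IsPGroup p X) {y : G} {k : ℕ} (hy : orderOf y = q ^ k)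
    (h1 : y ∈ C(X)) (h2 : ∀ h ∈ H, y * h * y⁻¹ * h⁻¹ ∈ X) : y ∈ C(H) := by
  intro h hh
  have h3 := h2 h hh
  set c := y * h * y⁻¹ * h⁻¹ with hc
  have h4 : ∀ m : ℕ, y ^ m * h = c ^ m * h * y ^ m := by
    intro m
    induction m with
    | zero => simp
    | succ m ih =>
      have e : y * c ^ m = c ^ m * y := (mem_centralizer_iff.1 h1 _ (X.pow_mem h3 m)).symm
      calc y ^ (m + 1) * h = y * (y ^ m * h) := by rw [pow_succ', mul_assoc]
        _ = y * c ^ m * h * y ^ m := by rw [ih]; group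
        _ = c ^ m * (y * h * y⁻¹ * h⁻¹) * h * y * y ^ m := by rw [e]; group
        _ = _ := by rw [← hc, pow_succ, pow_succ']; group
  have h5 := h4 (q ^ k)
  rw [← hy, pow_orderOf_eq_one, one_mul, mul_one, right_eq_mul, hy] at h5
  obtain ⟨j, hj⟩ := exists_orderOf_eq_pow hX h3
  have h6 : c = 1 := by
    rw [← orderOf_eq_one_iff]
    refine Nat.Coprime.eq_one_of_dvd ?_ (orderOf_dvd_of_pow_eq_one h5)
    rw [hj]; exact Nat.Coprime.pow _ _ ((Nat.coprime_primes hp.out hq.out).2 hpq)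
  rw [hc, mul_inv_eq_one, mul_inv_eq_iff_eq_mul] at h6
  exact h6.symm

theorem le_sup_of_qel {A S T D : Subgroup G} (hS : IsSylowIn p S A) (hST : S ≤ T) (hA : IsPiNum {p, q} (Nat.card A))
    (h : ∀ y ∈ A, (∃ k, orderOf y = q ^ k) → y ∈ D) : A ≤ T ⊔ D := by
  obtain ⟨k, hk⟩ := index_pow_of_forall_sylow (G := A) (p := p) (L := D.subgroupOf A) fun r hr hrp y ⟨j, hj⟩ => by
    rw [mem_subgroupOf]
    by_cases hrq : r = q
    · exact h y y.2 ⟨j, by rw [Subgroup.orderOf_coe, hj, hrq]⟩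
    · have h1 : IsPiNum ({p, q} : Set ℕ)ᶜ (orderOf y) := hj ▸ IsPiNum.prime_pow hr (by simp [hrp, hrq]) j
      have := (hA.of_dvd (orderOf_dvd_natCard y)).eq_one h1
      rw [orderOf_eq_one_iff] at this
      rw [this]; exact D.one_mem
  have := hS.sup_eq_of_pow (N := D ⊓ A) inf_le_right (k := k) (by rw [inf_relIndex_right]; exact hk)
  rw [← this]
  exact sup_le_sup hST inf_le_left

theorem s4411_aux (hpq : p ≠ q) (h23 : ¬ ((p = 2 ∧ q = 3) ∨ (p = 3 ∧ q = 2))) :
    ∀ (n : ℕ) (G : Type u) [Group G] [Finite G], Nat.card G = n → PSA p G → ∀ H : Subgroup G, IsPGroup p H → Aq q H →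
      ∃ K S : Subgroup G, IsSylowIn p S ⊤ ∧ K ≤ S ∧ S ≤ N(K) ∧ Aq q K := by
  intro n
  induction n using Nat.strong_induction_on with
  | _ n ih =>
  intro G _ _ hn hps H0 hH0 hA0
  by_contra hno
  push Not at hno
  set X := pCore p G with hXd
  have hX : IsPGroup p X := isPGroup_pCore p G
  have supX : ∀ K : Subgroup G, Aq q K → Aq q (K ⊔ X) := fun K ⟨y, h1, h2, h3⟩ =>
    ⟨y, CfsgH2.mem_normalizer_of_cj_le (by
      rw [cj_sup, cj_eq_iff_mem_normalizer.2 h1, cj_eq_of_normal]), h2,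
      fun h => h3 (centralizer_le (SetLike.coe_subset_coe.2 le_sup_left) h)⟩
  have cX : ∀ y : G, (∃ k, orderOf y = q ^ k) → y ∈ C(X) := fun y hy => by
    obtain ⟨S, hS, h⟩ := IsSylowIn.exists_le hX (H := ⊤) le_top
    by_contra hc
    exact hno X S hS h le_normalizer_of_normal ⟨y, le_normalizer_of_normal (mem_top y), hy, hc⟩
  suffices key : ∀ T : Subgroup G, ∀ H, X ≤ H → H ≤ T → T ≤ N(H) → IsPGroup p T → Aq q H → False from
    key (H0 ⊔ X) _ le_sup_right le_rfl le_normalizer (hH0.to_sup_of_normal_right hX) (supX _ hA0)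
  intro T
  induction T using subgroup_induction_down with
  | h T IH =>
  intro H1 hXH1 hH1T hTN1 hT ⟨y1, y1N, ⟨k1, oy1⟩, y1C⟩
  have syl : ∀ H, X ≤ H → H ≤ T → T ≤ N(H) → Aq q H → IsSylowIn p T N(H) := fun H h1 h2 h3 h4 =>
    IsSylowIn.of_maximal h3 hT fun Q hQ h5 h6 => by
      by_contra hh
      exact IH Q (CfsgH2.card_lt_of_lt (lt_of_le_of_ne h5 fun e => hh e.ge)) H h1 (h2.trans h5) h6 hQ h4
  have s1 := syl H1 hXH1 hH1T hTN1 ⟨y1, y1N, ⟨k1, oy1⟩, y1C⟩
  have nC := CfsgH2.normalizer_le_normalizer_centralizer H1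
  have s2 := s1.inf_of_normalizer' (cent_le_norm H1) nC
  obtain ⟨H, hXH, hHT, hTN, hAH, hCH⟩ : ∃ H, X ≤ H ∧ H ≤ T ∧ T ≤ N(H) ∧ Aq q H ∧ T ⊓ C(H) ≤ H := by
    have nn : ∀ g ∈ N(H1), g ∈ N(T ⊓ C(H1)) → g ∈ N(H1 ⊔ T ⊓ C(H1)) := fun g h1 h2 =>
      CfsgH2.mem_normalizer_of_cj_le (by
        rw [cj_sup, cj_eq_iff_mem_normalizer.2 h1, cj_eq_iff_mem_normalizer.2 h2])
    refine ⟨H1 ⊔ T ⊓ C(H1), hXH1.trans le_sup_left, sup_le hH1T inf_le_left, fun g hg => nn g (hTN1 hg) ?_, ?_,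
      (inf_le_inf_left _ (centralizer_le (SetLike.coe_subset_coe.2 le_sup_left))).trans le_sup_right⟩
    · exact CfsgH2.mem_normalizer_of_cj_le (by
        rw [cj_inf, cj_eq_of_mem hg, cj_eq_iff_mem_normalizer.2 (nC (hTN1 hg))])
    · obtain ⟨c, hc, hcy⟩ := s2.frattini (nC y1N)
      have h1 : c * y1 ∉ C(H1) := fun h => y1C ((mul_mem_cancel_left hc).1 h)
      have h2 : ∀ m : ℕ, (c * y1) ^ m * (y1 ^ m)⁻¹ ∈ C(H1) := by
        intro m
        induction m with
        | zero => simp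
        | succ m ihm =>
          have := mul_mem hc (CfsgH2.conj_mem_of_mem_normalizer (nC y1N) ihm)
          rwa [show c * (y1 * ((c * y1) ^ m * (y1 ^ m)⁻¹) * y1⁻¹) = (c * y1) ^ (m + 1) * (y1 ^ (m + 1))⁻¹ by
            rw [pow_succ' (c * y1), pow_succ' y1]; group] at this
      have h3 := h2 (q ^ k1)
      rw [← oy1, pow_orderOf_eq_one, inv_one, mul_one, oy1] at h3
      obtain ⟨y', hy', oy', hc'⟩ := qel h1 h3
      exact ⟨y', zpowers_le.2 (nn _ (mul_mem (cent_le_norm _ hc) y1N) hcy) hy', oy',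
        fun h => hc' (centralizer_le (SetLike.coe_subset_coe.2 le_sup_left) h)⟩
  clear s1 s2 nC y1N oy1 y1C hXH1 hH1T hTN1
  have s1 := syl H hXH hHT hTN hAH
  have nC := CfsgH2.normalizer_le_normalizer_centralizer H
  have s2 := s1.inf_of_normalizer' (cent_le_norm H) nC
  have hH : IsPGroup p H := hT.to_le hHT
  have psN : IsPSolvable p N(H) := by
    refine hps H _ hH le_rfl ?_
    rw [inf_eq_right.2 (cent_le_norm H)]
    haveI : ((T ⊓ C(H)).subgroupOf C(H)).Normal := normal_subgroupOf_of_le_normalizer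
      ((centralizer_le (SetLike.coe_subset_coe.2 hCH)).trans (cent_le_norm _))
    exact IsPSolvable.of_normal_of_quotient ((T ⊓ C(H)).subgroupOf C(H))
      (isPSolvable_of_isPGroup s2.pgroup.comap_subtype)
      (isPSolvable_of_coprime ((Nat.Prime.coprime_iff_not_dvd hp.out).2 s2.not_dvd).symm)
  obtain ⟨M, hMN, hTM, hMc, hMq⟩ : ∃ M, M ≤ N(H) ∧ T ≤ M ∧ IsPiNum {p, q} (Nat.card M) ∧ ¬ q ∣ M.relIndex N(H) := by
    obtain ⟨M1, hM1⟩ := epq (p := p) (q := q) _ _ rfl psN
    rw [isPiHall_iff] at hM1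
    have e : (M1.map (N(H)).subtype).relIndex N(H) = M1.index := by
      rw [relIndex, subgroupOf, comap_map_eq_self_of_injective (subtype_injective _)]
    obtain ⟨T1, hT1⟩ := IsSylowIn.exists_sylowIn p (M1.map (N(H)).subtype)
    obtain ⟨g, hg, eT⟩ := (hT1.trans_of_not_dvd (map_subtype_le _)
      (e ▸ IsPiNum.compl_iff.1 hM1.2 p hp.out (by simp))).exists_cj_eq s1
    refine ⟨cj g (M1.map (N(H)).subtype), (cj_mono g (map_subtype_le _)).trans (cj_eq_of_mem hg).le,
      eT ▸ cj_mono g hT1.le, ?_, ?_⟩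
    · rw [card_cj, card_map_of_injective (subtype_injective _)]; exact hM1.1
    · have e' := relIndex_cj g (M1.map (N(H)).subtype) N(H)
      rw [cj_eq_of_mem hg] at e'
      rw [e', e]; exact IsPiNum.compl_iff.1 hM1.2 q hq.out (by simp)
  have sM := s1.mono hTM hMN
  let f := QuotientGroup.mk' X
  have hf : Function.Surjective f := QuotientGroup.mk'_surjective X
  have hXT : X ≤ T := hXH.trans hHT
  have hTb : T.map f ≠ ⊥ := fun e => by
    rw [map_mk'_eq_bot_iff] at e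
    obtain ⟨y, -, oy, hy⟩ := hAH
    exact hy (centralizer_le (SetLike.coe_subset_coe.2 (hHT.trans e)) (cX y oy))
  have star : ∀ W : ∀ (G : Type u) [Group G], Subgroup G → Subgroup G, CfsgH9.SFun p W →
      M ⊓ N((W _ (T.map f)).comap f) ≤ T ⊔ C(H) := by
    intro W hW
    set Y := (W _ (T.map f)).comap f with hY
    have hYT : Y ≤ T := by
      refine (comap_mono (hW.le _)).trans ?_
      rw [comap_map_mk', sup_eq_left.2 hXT]
    have nT : N(T) ≤ N(Y) := fun g hg => le_normalizer_comap f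
      (hW.normalizer_le (hT.map f) (le_normalizer_map f ⟨g, hg, rfl⟩))
    have hTY : T ≤ N(Y) := le_normalizer.trans nT
    refine le_sup_of_qel (sM.mono (le_inf hTM hTY) inf_le_left) le_rfl
      (hMc.of_dvd (card_dvd_of_le inf_le_left)) fun y hy oy => ?_
    by_contra hyc
    have hne : N(Y) ≠ ⊤ := fun e => by
      haveI : Y.Normal := normalizer_eq_top_iff.1 e
      have : Y ≤ X := le_pCore (hT.to_le hYT)
      rw [← map_mk'_eq_bot_iff, hY, map_comap_eq_self_of_surjective hf] at this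
      exact hW.ne (hT.map f) hTb this
    obtain ⟨K, S, hS, hKS, hSK, y', h1, ⟨k', h2⟩, h3⟩ := ih _
      (hn ▸ lt_of_le_of_ne (card_le_card_group N(Y)) fun e => hne (eq_top_of_card_eq _ e)) N(Y) rfl
      (hps.subgroup _) (H.subgroupOf N(Y)) hH.comap_subtype
      ⟨⟨y, hy.2⟩, le_normalizer_comap _ (hMN hy.1), by
        obtain ⟨k, hk⟩ := oy
        exact ⟨k, by rw [← Subgroup.orderOf_coe]; exact hk⟩,
        fun h => hyc fun x hx => congrArg Subtype.val (h ⟨x, hTY (hHT hx)⟩ hx)⟩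
    have hS' := hS.map (N(Y)).subtype
    rw [← MonoidHom.range_eq_map, range_subtype] at hS'
    have hXS : X ≤ S.map (N(Y)).subtype := hS'.le_of_normalizer hX (hXT.trans hTY) le_normalizer_of_normal
    have hA' : Aq q (K.map (N(Y)).subtype) := ⟨y', le_normalizer_map _ ⟨y', h1, rfl⟩,
      ⟨k', by rw [Subgroup.orderOf_coe, h2]⟩, fun h => h3 fun x hx => Subtype.ext (h _ ⟨x, hx, rfl⟩)⟩
    refine IH (S.map (N(Y)).subtype) ?_ (K.map (N(Y)).subtype ⊔ X) le_sup_right (sup_le (map_mono hKS) hXS)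
      (fun g hg => CfsgH2.mem_normalizer_of_cj_le (by
        rw [cj_sup, cj_eq_iff_mem_normalizer.2 (((map_mono hSK).trans (le_normalizer_map _)) hg), cj_eq_of_normal]))
      hS'.pgroup (supX _ hA')
    obtain ⟨S0, hS0, hTS⟩ := IsSylowIn.exists_le hT (H := ⊤) le_top
    have hlt : T < S0 := lt_of_le_of_ne hTS fun e => hno H T (e ▸ hS0) hHT hTN hAH
    exact (CfsgH2.card_lt_of_lt (lt_inf_normalizer hS0.pgroup hlt)).trans_le
      (hS'.card_le (hS0.pgroup.to_le inf_le_left) (inf_le_right.trans nT))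
  have star3 : M ⊓ (C(H.map f)).comap f ≤ T ⊔ C(H) := by
    have nn : M ≤ N((C(H.map f)).comap f) := fun g hg => le_normalizer_comap f
      (CfsgH2.normalizer_le_normalizer_centralizer _ (le_normalizer_map f ⟨g, hMN hg, rfl⟩))
    refine le_sup_of_qel (sM.inf_of_normalizer nn) inf_le_left (hMc.of_dvd (card_dvd_of_le inf_le_left))
      fun y hy ⟨k, oy⟩ => cent_chain hpq hX oy (cX y ⟨k, oy⟩) fun h hh => ?_
    rw [← QuotientGroup.ker_mk' X, MonoidHom.mem_ker]
    have := mem_centralizer_iff.1 hy.2 (f h) ⟨h, hh, rfl⟩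
    change f _ = 1
    rw [map_mul, map_mul, map_mul, ← this, map_inv, map_inv]; group
  have h6 : ¬ 6 ∣ Nat.card (M.map f) := fun h => by
    have h' := h.trans (card_map_dvd _ f)
    have a2 := hMc 2 Nat.prime_two (dvd_trans (by norm_num) h')
    have a3 := hMc 3 Nat.prime_three (dvd_trans (by norm_num) h')
    simp only [Set.mem_insert_iff, Set.mem_singleton_iff] at a2 a3
    omega
  have tf := tf_of_pq (psolv_map (f := f) (IsPSolvable.of_le psN hMN)) h6
  have sb := sM.map f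
  have hM : M ≤ T ⊔ C(H) := by
    intro g hg
    obtain ⟨x, hx, c, hc, m, hm, e⟩ := tf sb.toSylow ⟨f g, g, hg, rfl⟩
    obtain ⟨_, x, xM, rfl⟩ := x
    obtain ⟨_, c, cM, rfl⟩ := c
    obtain ⟨_, m, mM, rfl⟩ := m
    have e' : f g = f (x * c * m) := by rw [map_mul, map_mul]; exact congrArg Subtype.val e
    have tr : ∀ W : ∀ (G : Type u) [Group G], Subgroup G → Subgroup G, CfsgH9.SFun p W → ∀ a (ha : a ∈ M),
        (⟨f a, a, ha, rfl⟩ : M.map f) ∈ N(W _ (sb.toSylow : Subgroup (M.map f))) → a ∈ T ⊔ C(H) := by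
      intro W hW a ha h
      refine star W hW ⟨ha, le_normalizer_comap f ?_⟩
      rw [← hW.subgroupOf sb.pgroup sb.le]
      exact le_normalizer_map _ ⟨_, h, rfl⟩
    have h1 : x ∈ T ⊔ C(H) := by
      refine star3 ⟨xM, mem_comap.2 (mem_centralizer_iff.2 fun z hz => ?_)⟩
      have hz' : z ∈ M.map f := map_mono (hHT.trans hTM) hz
      haveI : ((H.map f).subgroupOf (M.map f)).Normal := normal_subgroupOf_of_le_normalizer
        ((map_mono hMN).trans (le_normalizer_map f))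
      exact congrArg Subtype.val (commute_pCore_pPrimeCore
        (le_pCore (N := (H.map f).subgroupOf (M.map f)) (hH.map f).comap_subtype
          (show (⟨z, hz'⟩ : M.map f) ∈ _ from hz)) hx).eq
    have h2 := tr _ CfsgH9.sfun_omega_Z c cM (cent_le_norm _ hc)
    have h3 := tr _ (CfsgH9.sfun_J dvd_rfl) m mM hm
    have h4 : (x * c * m)⁻¹ * g ∈ X := QuotientGroup.eq.1 e'.symm
    have := mul_mem (mul_mem (mul_mem h1 h2) h3) (mem_sup_left (hXT h4))
    rwa [mul_inv_cancel_left] at this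
  obtain ⟨y, yN, ⟨k, oy⟩, yC⟩ := hAH
  obtain ⟨Q, hQ⟩ := IsSylowIn.exists_sylowIn q M
  obtain ⟨g, hg, hle⟩ := (hQ.trans_of_not_dvd hMN hMq).exists_cj_le (isPGroup_zpowers_of_orderOf oy)
    (zpowers_le.2 yN)
  have h1 : g * y * g⁻¹ ∈ C(H) ⊔ T := sup_comm T _ ▸ hM (hQ.le (hle (conj_mem_cj g (mem_zpowers y))))
  have h2 := pow_relIndex_mem' (sup_le le_normalizer (hTN.trans nC)) h1
  obtain ⟨a, ha⟩ := IsPGroup.iff_card.1 hT
  have h3 := CfsgH2.mem_of_pow_mem_of_coprime (by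
    rw [orderOf_conj', oy]
    exact Nat.Coprime.coprime_dvd_right (ha ▸ (relIndex_sup_dvd (hTN.trans nC)).1)
      (Nat.Coprime.pow _ _ ((Nat.coprime_primes hq.out hp.out).2 hpq.symm))) h2
  have := CfsgH2.conj_mem_of_mem_normalizer' (nC hg) h3
  exact yC (by simpa [mul_assoc] using this)

theorem s4411 (hpq : p ≠ q) (h23 : ¬ ((p = 2 ∧ q = 3) ∨ (p = 3 ∧ q = 2)))
    (hsol : ∀ H : Subgroup G, IsPGroup p H → IsPSolvable p (N(H) ⧸ (C(H)).subgroupOf N(H)))
    (H : Subgroup G) (hH : IsPGroup p H) (h : q ∣ ((C(H)).subgroupOf N(H)).index) (P : Sylow p G) :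
    ∃ K : Subgroup G, K ≤ (P : Subgroup G) ∧ (P : Subgroup G) ≤ N(K) ∧ q ∣ ((C(K)).subgroupOf N(K)).index := by
  have hps : PSA p G := fun H L hH hL hs => by
    let φ : L →* N(H) ⧸ (C(H)).subgroupOf N(H) := (QuotientGroup.mk' _).comp (inclusion hL)
    have hk : φ.ker.map L.subtype ≤ L ⊓ C(H) := by
      rintro _ ⟨x, hx, rfl⟩
      exact ⟨x.2, (QuotientGroup.eq_one_iff (inclusion hL x)).1 hx⟩
    refine IsPSolvable.of_normal_of_quotient φ.ker (psolv_of_map L.subtype_injective (IsPSolvable.of_le hs hk)) ?_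
    exact IsPSolvable.of_surjective (IsPSolvable.subgroup (hsol H hH) φ.range) (QuotientGroup.quotientKerEquivRange φ).symm.toMonoidHom
      (QuotientGroup.quotientKerEquivRange φ).symm.surjective
  have hA : Aq q H := by
    obtain ⟨Q, hQ⟩ := IsSylowIn.exists_sylowIn q N(H)
    by_contra hh
    refine hQ.not_dvd_of_le (K := C(H)) (fun y hy => ?_) (cent_le_norm H) h
    by_contra hc
    exact hh ⟨y, hQ.le hy, exists_orderOf_eq_pow hQ.pgroup hy, hc⟩
  obtain ⟨K, S, hS, h1, h2, y, y1, ⟨k, y2⟩, y3⟩ := s4411_aux hpq h23 _ G rfl hps H hH hA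
  obtain ⟨g, -, e⟩ := hS.exists_cj_eq (IsSylowIn.of_sylow_top P)
  refine ⟨cj g K, e ▸ cj_mono g h1, by rw [← e, ← cj_normalizer]; exact cj_mono g h2, ?_⟩
  change q ∣ (C(cj g K)).relIndex N(cj g K)
  rw [← cj_normalizer, ← cj_centralizer, relIndex_cj]
  by_contra hh
  exact y3 (CfsgH2.mem_of_pow_mem_of_coprime (by
    rw [y2]; exact Nat.Coprime.pow_left _ ((Nat.Prime.coprime_iff_not_dvd hq.out).2 hh))
    (pow_relIndex_mem' (CfsgH2.normalizer_le_normalizer_centralizer K) y1))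

end CfsgLead
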