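import Cfsg.Agent.H2.TW3

set_option autoImplicit false
set_option linter.unusedSectionVars false
open Subgroup Cfsg CfsgH2 CfsgFT
open CfsgLead (SN fstarOf)

/-! The Thompson–Wielandt theorem for second iterated cores. -/
namespace CfsgLead
universe u
variable {G : Type u} [Group G] [Finite G]

theorem tw_sn (M M' : Subgroup G) : SN (cor M (cor M (M ⊓ M') ⊓ cor M' (M ⊓ M'))) M' :=
  (SN.of_normal ((cor_le _ _).trans inf_le_right)
    (((cor_le _ _).trans inf_le_left).trans (le_norm_cor _ _))).trans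
    (SN.of_normal (cor_le_left _ _) (le_norm_cor _ _))

theorem s5752 {M M' : Subgroup G} (h : CjP M M')
    (hA : cor M (cor M (M ⊓ M') ⊓ cor M' (M ⊓ M')) ≠ ⊥) (hB : cor M' (cor M (M ⊓ M') ⊓ cor M' (M ⊓ M')) ≠ ⊥) :
    ∃ p : ℕ, p.Prime ∧ IsPGroup p ↥(cor M (cor M (M ⊓ M') ⊓ cor M' (M ⊓ M')) ⊔
        cor M' (cor M (M ⊓ M') ⊓ cor M' (M ⊓ M'))) ∧
      generalizedFittingSubgroup M = pCore p M ∧
      generalizedFittingSubgroup (cor M (M ⊓ M')) = pCore p (cor M (M ⊓ M')) ∧
      generalizedFittingSubgroup M' = pCore p M' ∧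
      generalizedFittingSubgroup (cor M' (M ⊓ M')) = pCore p (cor M' (M ⊓ M')) := by
  have s1 := tw_sn M M'
  have s2 := tw_sn M' M
  rw [inf_comm M' M, inf_comm (cor M' _)] at s2
  obtain ⟨p, hp, a1, a2, a3⟩ := h.main (cor_le_left _ _) (le_norm_cor _ _) s1 hA (cor_le_left _ _)
    (le_norm_cor _ _) s2 hB
  obtain ⟨q, hq, b1, -, b3⟩ := h.symm.main (cor_le_left _ _) (le_norm_cor _ _) s2 hB (cor_le_left _ _)
    (le_norm_cor _ _) s1 hA
  haveI := Fact.mk hp
  haveI := Fact.mk hq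
  have e : q = p := by
    by_contra ne
    exact hB (by simpa using pg_inf_eq_bot a2 b1 ne)
  subst e
  have c1 : generalizedFittingSubgroup M = pCore q M := map_injective M.subtype_injective a3
  have c2 : generalizedFittingSubgroup M' = pCore q M' := map_injective M'.subtype_injective b3
  refine ⟨q, hq, pgroup_sup a1 a2 (s2.1.trans (le_norm_cor _ _)), c1, ?_, c2, ?_⟩
  · exact fstar_iff_chP.2 ((fstar_iff_chP.1 c1).of_norm (cor_le_left _ _) ((Op_le _).trans (le_norm_cor _ _)))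
  · exact fstar_iff_chP.2 ((fstar_iff_chP.1 c2).of_norm (cor_le_left _ _) ((Op_le _).trans (le_norm_cor _ _)))

theorem cjp_of {M : Subgroup G} (hmax : IsCoatom M) (hc : M.normalCore = ⊥) (g : G) (hne : M ≠ cj g M) :
    CjP M (cj g M) := by
  have h : CFM M := ⟨hmax, fun U hU hn => by
    haveI := normal_of_top_le hn
    exact le_bot_iff.1 (hc ▸ normal_le_normalCore.2 hU)⟩
  exact ⟨h.prs, (h.conj g).prs, hne, g, rfl⟩

end CfsgLead
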