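import Cfsg.Agent.H6.Ree5
import Cfsg.Agent.H1.PSL2b
import Cfsg.Agent.H9.PStab2
import Cfsg.Agent.H2.PGroup
import Cfsg.Agent.H1.RepFrob

set_option autoImplicit false
set_option linter.unusedSectionVars false
set_option linter.style.haveILetI false
open Subgroup Cfsg CfsgH2 Matrix
open scoped commutatorElement MatrixGroups

/-! No quadratic action for `L₂(q)`, `q` odd, and the small Ree groups. -/
namespace CfsgLead

/-- in every 2-subgroup, two elements commute unless one of them has order at most 2 -/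
def DP (Γ : Type*) [Group Γ] : Prop :=
  ∀ T : Subgroup Γ, IsPGroup 2 T → ∀ x ∈ T, ∀ y ∈ T, x * x = 1 ∨ y * y = 1 ∨ x * y = y * x

theorem DP.of_inj {Γ Γ' : Type*} [Group Γ] [Group Γ'] (h : DP Γ') (e : Γ →* Γ') (he : Function.Injective e) : DP Γ := by
  intro T hT x hx y hy
  rcases h _ (hT.map e) _ ⟨x, hx, rfl⟩ _ ⟨y, hy, rfl⟩ with k | k | k
  · left; apply he; rw [map_mul, k, map_one]
  · right; left; apply he; rw [map_mul, k, map_one]
  · right; right; apply he; rw [map_mul, map_mul, k]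

theorem dp_psl2 {F : Type*} [Field F] [Fintype F] (ho : Odd (Fintype.card F)) :
    DP (Matrix.ProjectiveSpecialLinearGroup (Fin 2) F) := by
  classical
  intro T hT x hx y hy
  obtain ⟨S, hS⟩ := hT.exists_le_sylow
  obtain ⟨m, -, -, ⟨e⟩, -⟩ := CfsgH1.L2.sylow2_dih ho S
  have key : ∀ a b : DihedralGroup m, a * a = 1 ∨ b * b = 1 ∨ a * b = b * a := by
    rintro (a | a) (b | b)
    · right; right; simp [add_comm]
    · right; left; simp
    · left; simp
    · left; simp
  rcases key (e ⟨x, hS hx⟩) (e ⟨y, hS hy⟩) with k | k | k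
  · left; rw [← map_mul, map_eq_one_iff _ e.injective] at k; exact congrArg Subtype.val k
  · right; left; rw [← map_mul, map_eq_one_iff _ e.injective] at k; exact congrArg Subtype.val k
  · right; right; rw [← map_mul, ← map_mul] at k; exact congrArg Subtype.val (e.injective k)

theorem dp_ree {Γ : Type*} [Group Γ] (h : Cfsg.Lie.IsoRee Γ) : DP Γ := by
  obtain ⟨K, _, _, m, -, hK, ⟨e⟩⟩ := h
  obtain ⟨R⟩ := CfsgH6.Chev.exists_ree hK
  haveI : Finite (Cfsg.Lie.twistedG2 K (3 ^ m)) := inferInstance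
  exact DP.of_inj (fun T hT x hx y _ => Or.inl (R.mul_self hT hx)) e.toMonoidHom e.injective

variable {p : ℕ} [hp : Fact p.Prime]

theorem not_dp_sl2 (hp2 : p ≠ 2) : ¬ DP SL(2, ZMod p) := by
  intro hT
  obtain ⟨a, b, hab⟩ := ZMod.sq_add_sq p (-1)
  let i : SL(2, ZMod p) := ⟨!![0, -1; 1, 0], by simp [det_fin_two]⟩
  let j : SL(2, ZMod p) := ⟨!![a, b; b, -a], by rw [det_fin_two_of]; linear_combination -hab⟩
  have ci : (i : Matrix (Fin 2) (Fin 2) (ZMod p)) = !![0, -1; 1, 0] := rfl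
  have cj : (j : Matrix (Fin 2) (Fin 2) (ZMod p)) = !![a, b; b, -a] := rfl
  have i2 : i * i = -1 := by apply CfsgH9.sl2_ext <;> simp [ci]
  have j2 : j * j = -1 := by
    apply CfsgH9.sl2_ext <;> simp [cj]
    · linear_combination hab
    · ring
    · ring
    · linear_combination hab
  have ij : j * i = -(i * j) := by apply CfsgH9.sl2_ext <;> simp [ci, cj]
  have pg : ∀ k : SL(2, ZMod p), k * k = -1 → IsPGroup 2 (zpowers k) := fun k hk => by
    rintro ⟨_, n, rfl⟩
    refine ⟨2, Subtype.ext ?_⟩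
    change (k ^ n) ^ 2 ^ 2 = 1
    rw [← zpow_natCast, ← _root_.zpow_mul, mul_comm, _root_.zpow_mul, zpow_natCast, show 2 ^ 2 = 2 * 2 from rfl,
      pow_mul, sq k, hk]
    simp
  have hU : IsPGroup 2 ↥(zpowers i ⊔ zpowers j) := by
    refine IsPGroup.to_sup_of_normal_left' (pg i i2) (pg j j2) (zpowers_le.2 (mem_normalizer_of_conj_mem ?_))
    rintro _ ⟨n, rfl⟩
    rw [← conj_zpow, ij, neg_mul, mul_inv_cancel_right, ← neg_one_mul, ← i2]
    exact zpow_mem (mul_mem (mul_mem (mem_zpowers i) (mem_zpowers i)) (mem_zpowers i)) n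
  have ne : (-1 : SL(2, ZMod p)) ≠ 1 := CfsgH9.neg_one_ne_one_sl2 p hp2
  rcases hT _ hU i (mem_sup_left (mem_zpowers i)) j (mem_sup_right (mem_zpowers j)) with k | k | k
  · exact ne (i2 ▸ k)
  · exact ne (j2 ▸ k)
  · rw [ij, ← neg_one_mul] at k
    exact ne (right_eq_mul.1 k)

theorem DP.of_sec {K X Γ : Type*} [Group K] [Finite K] [Group X] [Group Γ] (h : DP Γ) (f : K →* Γ) (π : K →* X)
    (hπ : Function.Surjective π) (hk : ∀ k, f k = 1 → π k = 1) : DP X := by
  haveI : Fact (Nat.Prime 2) := ⟨Nat.prime_two⟩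
  haveI : Finite X := Finite.of_surjective π hπ
  intro T hT x hx y hy
  obtain ⟨R⟩ : Nonempty (Sylow 2 K) := inferInstance
  obtain ⟨g, hg⟩ := exists_cj_le_sylow (R.mapSurjective hπ) hT
  obtain ⟨a, ha, e1⟩ := cj_le_iff.1 hg _ hx
  obtain ⟨b, hb, e2⟩ := cj_le_iff.1 hg _ hy
  rcases h _ (R.isPGroup'.map f) _ ⟨a, ha, rfl⟩ _ ⟨b, hb, rfl⟩ with k | k | k
  · left
    have := hk (a * a) (by rw [map_mul, k])
    rw [map_mul, e1, conj_mul] at this
    simpa using this
  · right; left
    have := hk (b * b) (by rw [map_mul, k])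
    rw [map_mul, e2, conj_mul] at this
    simpa using this
  · right; right
    have := hk (a * b * (b * a)⁻¹) (by rw [map_mul, map_inv, map_mul, map_mul, k, mul_inv_cancel])
    rw [map_mul, map_inv, mul_inv_eq_one, map_mul, map_mul, e1, e2] at this
    simpa only [conj_mul, mul_left_inj, mul_right_inj] using this

theorem s2787 {G : Type*} [Group G] [Finite G] (hp2 : p ≠ 2) {V H : Subgroup G} (hV : IsElementaryAbelian p V)
    (hHV : H ≤ normalizer (V : Set G))
    (hirr : ∀ U : Subgroup G, U ≤ V → H ≤ normalizer (U : Set G) → U = ⊥ ∨ U = V)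
    [hn : ((centralizer (V : Set G)).subgroupOf H).Normal]
    (hq : DP (H ⧸ (centralizer (V : Set G)).subgroupOf H)) {A : Subgroup G} (hA : A ≤ H)
    (hquad : ⁅⁅V, A⁆, A⁆ = ⊥) : ⁅V, A⁆ = ⊥ := by
  have pV := CfsgH9.isPGroup_of_ea hV
  by_cases hV1 : V = ⊥
  · rw [hV1, commutator_bot_left]
  let f := QuotientGroup.mk' ((centralizer (V : Set G)).subgroupOf H)
  have hf : Function.Surjective f := QuotientGroup.mk'_surjective _
  have kf : ∀ h : H, f h = 1 ↔ (h : G) ∈ centralizer (V : Set G) := fun h => QuotientGroup.eq_one_iff h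
  set R := (pCore p _).comap f with hR
  have hRC : ∀ r ∈ R, (r : G) ∈ centralizer (V : Set G) := by
    obtain ⟨S, hS⟩ := IsSylowIn.exists_sylowIn p R
    have h1 := (hS.map f).eq_of_isPGroup (by
      rw [hR, map_comap_eq_self_of_surjective hf]; exact CfsgH1.isPGroup_pCore p _)
    have h2 := CfsgH1.inf_centralizer_ne_bot_of_isPGroup (P := S.map H.subtype) (K := V) (hS.pgroup.map _)
      ((map_subtype_le _).trans hHV) (by
        obtain ⟨k, hk⟩ := IsPGroup.iff_card.1 pV
        rw [hk]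
        refine dvd_pow_self p ?_
        rintro rfl
        exact hV1 (card_eq_one.1 (by rw [hk, pow_zero])))
    have h3 : V ⊓ centralizer (S.map H.subtype : Set G) ≤ V ⊓ centralizer (R.map H.subtype : Set G) := by
      rintro v ⟨hv, hc⟩
      refine ⟨hv, ?_⟩
      rintro _ ⟨r, hr, rfl⟩
      obtain ⟨s, hs, e⟩ : f r ∈ S.map f := h1 ▸ ⟨r, hr, rfl⟩
      have k1 := (kf (s⁻¹ * r)).1 (by rw [map_mul, map_inv, e, inv_mul_cancel]) v hv
      have k2 := hc _ ⟨s, hs, rfl⟩
      change (r : G) * v = v * r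
      change (s : G) * v = v * s at k2
      change v * ((s : G)⁻¹ * r) = (s : G)⁻¹ * r * v at k1
      calc (r : G) * v = s * ((s : G)⁻¹ * r * v) := by group
        _ = s * v * (s : G)⁻¹ * r := by rw [← k1]; group
        _ = v * r := by rw [k2]; group
    have h4 : H ≤ normalizer ((R.map H.subtype : Subgroup G) : Set G) := fun g hg => mem_normalizer_of_conj_mem (by
      rintro _ ⟨x, hx, rfl⟩
      exact ⟨_, (inferInstance : R.Normal).conj_mem x hx ⟨g, hg⟩, rfl⟩)
    rcases hirr (V ⊓ centralizer (R.map H.subtype : Set G)) inf_le_left (fun g hg => mem_normalizer_of_cj_le (by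
      rw [cj_inf, cj_eq_iff_mem_normalizer.2 (hHV hg),
        cj_eq_iff_mem_normalizer.2 (normalizer_le_normalizer_centralizer _ (h4 hg))])) with e | e
    · exact absurd (le_bot_iff.1 (e ▸ h3)) h2
    · intro r hr v hv
      exact (((e.ge hv).2 : v ∈ centralizer _) _ ⟨r, hr, rfl⟩).symm
  rw [commutator_comm, commutator_eq_bot_iff_le_centralizer]
  intro a ha
  rcases CfsgH9.mem_pCore_or_sec hp2 pV hHV f hf (fun h hh => (kf h).2 hh) (a := ⟨a, hA ha⟩)
    (CfsgH9.quad_of_commutator hquad ha) with k | ⟨-, -, K, hK, π, h1, h2⟩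
  · exact hRC ⟨a, hA ha⟩ k
  · exact absurd (hq.of_sec (f.comp (inclusion hK)) π h1 fun k hk => h2 k ((kf _).1 hk)) (not_dp_sl2 hp2)

end CfsgLead
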