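import Cfsg.Agent.FS.Res3
import Cfsg.Agent.H2.Mix2
import Cfsg.Agent.H2.Meta
import Cfsg.Agent.H2.Dih

/-! Strongly closed generalized extraspecial subgroups. -/

set_option autoImplicit false
set_option linter.unusedSectionVars false

namespace CfsgFS

open Subgroup Cfsg Cfsg.FusionSystem CfsgH9
open CfsgH2 (CZ PES ES cc centMod)
open scoped commutatorElement

universe u

section
variable {G : Type*} [Group G] [Finite G] {p : ℕ} [hp : Fact p.Prime] {T P R : Subgroup G} {z : G}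

theorem RC.lift_conj [R.Normal] (h : RC p T P R) {x k : G} (hx : x ∈ P)
    (e : QuotientGroup.mk' CC(R) (k * x * k⁻¹) ∈ T.map (QuotientGroup.mk' CC(R))) : ∃ l ∈ CC(R), l * k * x * (l * k)⁻¹ ∈ P := by
  obtain ⟨j, hj⟩ := pow_eq_one_of_isPGroup h.pgP hx
  obtain ⟨l, hl, e'⟩ := h.syl.conj_normal (L := CC(R)) (U := zpowers (k * x * k⁻¹)) le_top (le_norm inferInstance)
    (isPGroup_of_forall (by
      rintro _ ⟨n, rfl⟩
      exact ⟨j, by
        change ((k * x * k⁻¹) ^ n) ^ p ^ j = 1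
        rw [← zpow_natCast, ← zpow_mul, mul_comm n, zpow_mul, zpow_natCast, conj_pow, hj]; simp⟩)) (by
      rintro _ ⟨n, rfl⟩
      obtain ⟨t, ht, e'⟩ := zpow_mem e n
      rw [← map_zpow] at e'
      exact ⟨t, ht, _, QuotientGroup.eq.1 e', (mul_inv_cancel_left _ _).symm⟩)
  refine ⟨l, hl, h.sc x hx _ ?_⟩
  convert e' _ (mem_zpowers _) using 1
  group

theorem RC.ge_basic (h : RC p T P R) (hne : ¬ P ≤ R) (hz : PES p P z) : z ∈ R ∧ R ≤ CC(R) ∧ (∀ r ∈ R, r ^ p = 1) ∧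
    (∃ g : G, g * z * g⁻¹ ∉ zpowers z) ∧ ∀ g : G, g * z * g⁻¹ ∉ zpowers z → ∀ a ∈ P, Commute a (g * z * g⁻¹) → a ∈ R := by
  haveI := h.nr
  have zc : z ∈ CC(R) := fun r hr => (hz.cent r (h.rle hr)).eq.symm
  have zR : z ∈ R := h.cent hz.mem zc
  have tqP : ∀ a ∈ P, Tq R (zpowers z) a := fun a ha r hr => hz.comm a ha r (h.rle hr)
  have nn : ¬ (zpowers z).Normal := fun hn => hne fun a ha => h.key2 h.nr hn inferInstance (zpowers_le.2 zR) ctl_self ha (tqP a ha)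
    (tq_bot.2 fun w hw => (hz.toCZ.zcomm hw ha).eq)
  have ex : ∃ g : G, g * z * g⁻¹ ∉ zpowers z := by
    by_contra! k
    exact nn ⟨by rintro _ ⟨n, rfl⟩ g; rw [← conj_zpow]; exact zpow_mem (k g) n⟩
  have ab : R ≤ CC(R) := by
    by_contra k
    refine nn ?_
    rw [← (hz.toCZ.mono zR h.rle).commutator_eq fun e => k (CfsgH2.isMulCommutative_iff_le_centralizer.1 e)]
    infer_instance
  have ep : ∀ r ∈ R, r ^ p = 1 := fun r hr => by
    by_contra k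
    obtain ⟨g, hg⟩ := ex
    obtain ⟨n, hn⟩ := (CfsgH2.zpowers_eq_of_prime hz.ord (hz.pow r (h.rle hr)) k).ge (mem_zpowers z)
    apply hg
    nth_rewrite 2 [← hn]
    change g * (r ^ p) ^ n * g⁻¹ ∈ _
    rw [← conj_zpow, ← conj_pow]
    exact zpow_mem (hz.pow _ (h.rle (h.nr.conj_mem r hr g))) n
  refine ⟨zR, ab, ep, ex, fun g hg a ha c => by_contra fun hna => hg ?_⟩
  have z'R := h.nr.conj_mem z zR g
  have tqb : ∀ {x : G} (k : G), Tq R (zpowers z) x → Tq R (zpowers (k * z * k⁻¹)) (k * x * k⁻¹) := fun {x} k e r hr => by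
    obtain ⟨n, hn⟩ := e _ (h.nr.conj_mem r hr k⁻¹)
    refine ⟨n, ?_⟩
    change (k * z * k⁻¹) ^ n = _
    rw [conj_zpow, show z ^ n = _ from hn]; group
  set V := zpowers z ⊔ zpowers (g * z * g⁻¹) with hV
  have VR : V ≤ R := sup_le (zpowers_le.2 zR) (zpowers_le.2 z'R)
  have cz : Commute a z := (hz.cent a ha).symm
  have hL : closure {a, g * a * g⁻¹} ≤ centMod V R ⊓ centMod (zpowers (g * z * g⁻¹)) V ⊓ CC(zpowers (g * z * g⁻¹)) := by
    rw [closure_le]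
    rintro _ (rfl | rfl)
    · exact ⟨⟨mem_centMod_of_tq VR ((tqP _ ha).mono le_rfl le_sup_left), mem_centMod_of_tq le_sup_right
        (tq_of_cent (cent_sup (cent_zpowers_iff.2 cz) (cent_zpowers_iff.2 c)))⟩, cent_zpowers_iff.2 c⟩
    · exact ⟨⟨mem_centMod_of_tq VR ((tqb g (tqP _ ha)).mono le_rfl le_sup_right), mem_centMod_of_tq le_sup_right
        ((tqb g (tqP _ ha)).mono VR le_rfl)⟩, cent_zpowers_iff.2 (commute_conj cz)⟩
  obtain ⟨k, -, hk⟩ := (h.syl.map (QuotientGroup.mk' CC(R))).conj (U := (closure {a, g * a * g⁻¹}).map (QuotientGroup.mk' CC(R)))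
    (isPGroup_of_forall (by
      rintro _ ⟨x, hx, rfl⟩
      obtain ⟨j, hj⟩ := CfsgH2.exists_coprime_orderOf_pow (p := p) x
      obtain ⟨⟨h1, h2⟩, h3⟩ := hL (pow_mem hx (p ^ j))
      exact ⟨j, by
        rw [← map_pow]
        exact (QuotientGroup.eq_one_iff _).2 (tq_bot.1 (Tq.trans inferInstance (h.pgR.to_le VR) hj h1.2
          (Tq.trans inferInstance (h.pgR.to_le (zpowers_le.2 z'R)) hj h2.2 (tq_bot.2 h3))))⟩)) (map_mono le_top)
  obtain ⟨k, rfl⟩ := QuotientGroup.mk'_surjective _ k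
  obtain ⟨r, hr, er⟩ := (CfsgH2.comm_hom (E := R) hz.ord (fun e he => hz.cent e (h.rle he)) (tqP a ha) fun e =>
    hna (h.cent ha fun r hr => (e r hr).eq.symm)).2 z (mem_zpowers z)
  have key : ∀ m : G, m * a * m⁻¹ ∈ closure {a, g * a * g⁻¹} → k * m * z * (k * m)⁻¹ ∈ zpowers z := fun m hm => by
    obtain ⟨l, hl, e⟩ := h.lift_conj (k := k * m) ha (by
      convert hk _ (mem_map_of_mem _ hm) using 1
      simp only [map_mul, map_inv]; group)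
    have h1 := tqP _ e _ (h.nr.conj_mem r hr (l * (k * m)))
    have h2 := hl _ (h.nr.conj_mem z zR (k * m))
    convert h1 using 1
    calc _ = l * (k * m * z * (k * m)⁻¹) * l⁻¹ := by rw [← h2]; group
      _ = _ := by rw [← er]; group
  have h1 := key 1 (subset_closure (by simp))
  have h2 := key g (subset_closure (by simp))
  rw [mul_one] at h1
  rw [← CfsgH2.zpowers_eq_of_prime hz.ord h1 (by simpa using hz.toCZ.z_ne_one)] at h2
  obtain ⟨n, hn⟩ := h2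
  refine ⟨n, ?_⟩
  have : k * z ^ n * k⁻¹ = k * (g * z * g⁻¹) * k⁻¹ := by rw [← conj_zpow, show (k * z * k⁻¹) ^ n = _ from hn]; group
  simpa using this

theorem RC.ge_pair (h : RC p T P R) (hne : ¬ P ≤ R) (hz : PES p P z) : ∃ a ∈ P, ∃ r ∈ P, a * r * a⁻¹ * r⁻¹ = z ∧ r ^ p = 1 ∧
    (∀ c ∈ cc P a r, c ∈ CC(P) ∧ c ^ p = 1) ∧ (p ≠ 2 → a ^ p = 1) := by
  haveI := h.nr
  obtain ⟨zR, ab, ep, ⟨g, hg⟩, key⟩ := h.ge_basic hne hz
  obtain ⟨a0, m0, n0⟩ := SetLike.not_le_iff_exists.1 hne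
  have z'R := h.nr.conj_mem z zR g
  have z1 := hz.toCZ.z_ne_one
  obtain ⟨i, hi⟩ := exists_pow_shift hz.toCZ.z_pow z1 (hz.cent a0 m0).symm (hz.comm a0 m0 _ (h.rle z'R)) fun c => n0 (key g hg a0 m0 c)
  have ha := pow_mem m0 i
  generalize a0 ^ i = a at hi ha
  have e1 : a * (g * z * g⁻¹) * a⁻¹ * (g * z * g⁻¹)⁻¹ = z := by rw [hi, mul_inv_cancel_right]
  have cR : ∀ c ∈ cc P a (g * z * g⁻¹), c ∈ R := fun c hc => key g hg c (CfsgH2.mem_cc.1 hc).1 (CfsgH2.mem_cc.1 hc).2.2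
  refine ⟨a, ha, _, h.rle z'R, e1, ep _ z'R, fun c hc => ⟨fun x hx => (hz.toCZ.commute_of_cc ha (h.rle z'R) e1
    (fun d hd => comm_of_le ab (cR c hc) (cR d hd)) (CfsgH2.mem_cc.1 hc).2.1 (CfsgH2.mem_cc.1 hc).2.2 x hx).eq.symm, ep c (cR c hc)⟩,
    fun hp2 => ?_⟩
  have na : a ∉ R := fun e => hz.toCZ.not_commute e1 (comm_of_le ab e z'R)
  have hz' : CZ p (P.map (MulAut.conj g).toMonoidHom) (g * z * g⁻¹) := hz.toCZ.map _ (by simpa using z1)
  have mR : ∀ r ∈ R, r ∈ P.map (MulAut.conj g).toMonoidHom := fun r hr => mem_map_conj.2 (h.rle (by simpa using h.nr.conj_mem r hr g⁻¹))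
  have mb : g * a * g⁻¹ ∈ P.map (MulAut.conj g).toMonoidHom := mem_map_of_mem _ ha
  obtain ⟨j, hj⟩ := exists_pow_shift hz'.z_pow hz'.z_ne_one (hz'.cent _ mb).symm (hz'.comm _ mb _ (mR z zR)) fun c => na (key g⁻¹ (fun e => hg (by
    obtain ⟨n, hn⟩ := (CfsgH2.zpowers_eq_of_prime hz.ord e (by rwa [Ne, conj_eq_one_iff])).ge (mem_zpowers z)
    have e2 : g * z * g⁻¹ = z ^ n := by
      nth_rewrite 1 [← hn]
      change g * (g⁻¹ * z * g⁻¹⁻¹) ^ n * g⁻¹ = _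
      rw [conj_zpow]; group
    rw [e2]; exact zpow_mem (mem_zpowers z) n)) a ha (by simpa [mul_assoc] using commute_conj (k := g⁻¹) c))
  have mb1 := pow_mem mb j
  generalize (g * a * g⁻¹) ^ j = b at hj mb1
  have z'1 := hz'.z_ne_one
  have cb := (hz'.cent _ mb1).inv_right.eq
  generalize g * z * g⁻¹ = y at *
  have ca := (hz.cent a ha).eq
  have czy := (comm_of_le ab zR z'R).eq
  have w1 : a * b⁻¹ * a * z * (a * b⁻¹ * a)⁻¹ = y⁻¹ := by
    have e2 : b⁻¹ * z * b = y⁻¹ * z := by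
      rw [eq_inv_mul_iff_mul_eq]
      calc _ = (y * b⁻¹) * z * b := by group
        _ = b⁻¹ * (y * z) * b := by rw [cb]; group
        _ = _ := by rw [← hj]; group
    calc _ = a * (b⁻¹ * (a * z * a⁻¹) * b) * a⁻¹ := by group
      _ = (a * y * a⁻¹)⁻¹ * (a * z * a⁻¹) := by nth_rewrite 1 [← ca]; rw [mul_inv_cancel_right, e2]; group
      _ = _ := by rw [hi, ← ca]; group
  have w2 : a * b⁻¹ * a * y * (a * b⁻¹ * a)⁻¹ = z := by
    calc _ = a * (b⁻¹ * (a * y * a⁻¹) * b) * a⁻¹ := by group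
      _ = _ := by rw [hi, czy, ← hj, show a * (b⁻¹ * (b * z * b⁻¹) * b) * a⁻¹ = a * z * a⁻¹ by group, ← ca]; group
  obtain ⟨t, t1, t2, t3⟩ : ∃ t : G, t * z * t⁻¹ = z⁻¹ ∧ t * y * t⁻¹ = y⁻¹ ∧ ∀ c, Commute a c → Commute b c → Commute t c := by
    refine ⟨a * b⁻¹ * a * (a * b⁻¹ * a), ?_, ?_, fun c c1 c2 =>
      ((c1.mul_left c2.inv_left).mul_left c1).mul_left ((c1.mul_left c2.inv_left).mul_left c1)⟩
    · generalize a * b⁻¹ * a = w at w1 w2
      rw [show w * w * z * (w * w)⁻¹ = w * (w * z * w⁻¹) * w⁻¹ by group, w1, ← conj_inv, w2]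
    · generalize a * b⁻¹ * a = w at w1 w2
      rw [show w * w * y * (w * w)⁻¹ = w * (w * y * w⁻¹) * w⁻¹ by group, w2, w1]
  have hc : a⁻¹ * (t * a * t⁻¹) ∈ CC(R) := fun r hr => by
    obtain ⟨m, hm⟩ := hz.comm a ha r (h.rle hr)
    have c1 : Commute a (r * y ^ (-m)) := CfsgH2.commute_of_comm_eq_one (by
      rw [hz.toCZ.comm_mul_right (h.rle hr) (h.rle (zpow_mem z'R _)) ha, hz.toCZ.comm_zpow_right ha (h.rle z'R), e1, ← hm]; simp)
    have r1 := mul_mem hr (zpow_mem z'R (-m))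
    obtain ⟨n, hn⟩ := hz'.comm b mb1 _ (mR _ r1)
    have c2 : Commute b (r * y ^ (-m) * z ^ (-n)) := CfsgH2.commute_of_comm_eq_one (by
      rw [hz'.comm_mul_right (mR _ r1) (mR _ (zpow_mem zR _)) mb1, hz'.comm_zpow_right mb1 (mR _ zR), hj, ← hn]; simp)
    have c3 := c1.mul_right ((hz.cent a ha).symm.zpow_right (-n))
    have c4 := t3 _ c3 c2
    have c5 : Commute (a⁻¹ * (t * a * t⁻¹)) z := by
      rw [commute_iff_eq, ← mul_inv_eq_iff_eq_mul]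
      have : t⁻¹ * z * t = z⁻¹ := by nth_rewrite 1 [← inv_inv z]; rw [← t1]; nth_rewrite 2 [t1]; group
      calc _ = a⁻¹ * (t * (a * (t⁻¹ * z * t) * a⁻¹) * t⁻¹) * a := by group
        _ = a⁻¹ * (t * (a * z * a⁻¹) * t⁻¹)⁻¹ * a := by rw [this]; group
        _ = _ := by rw [← ca, mul_inv_cancel_right, t1, inv_inv, mul_assoc, ca]; group
    have c6 : Commute (a⁻¹ * (t * a * t⁻¹)) y := by
      rw [commute_iff_eq, ← mul_inv_eq_iff_eq_mul]
      have : t⁻¹ * y * t = y⁻¹ := by nth_rewrite 1 [← inv_inv y]; rw [← t2]; nth_rewrite 2 [t2]; group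
      calc _ = a⁻¹ * (t * (a * (t⁻¹ * y * t) * a⁻¹) * t⁻¹) * a := by group
        _ = a⁻¹ * (t * (a * y * a⁻¹) * t⁻¹)⁻¹ * a := by rw [this]; group
        _ = a⁻¹ * ((t * z * t⁻¹) * (t * y * t⁻¹))⁻¹ * a := by rw [hi]; group
        _ = _ := by rw [t1, t2, mul_inv_rev, inv_inv, inv_inv, ← czy, ← hi]; group
    have c7 := ((c3.inv_left.mul_left ((c4.mul_left c3).mul_left c4.inv_left)).mul_right (c5.zpow_right n)).mul_right (c6.zpow_right m)
    rw [show r * y ^ (-m) * z ^ (-n) * z ^ n * y ^ m = r by group] at c7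
    exact c7.eq.symm
  have fe : QuotientGroup.mk' CC(R) a = QuotientGroup.mk' CC(R) (t * a * t⁻¹) := QuotientGroup.eq.2 hc
  obtain ⟨l, hl, e⟩ := h.lift_conj (k := t) ha ⟨a, h.le ha, fe⟩
  have h1 : l * t * a * (l * t)⁻¹ * a⁻¹ ∈ R := h.cent (mul_mem e (inv_mem ha)) (by
    have := mul_mem (mul_mem hl ((cent_normal h.nr).conj_mem _ hc a)) ((cent_normal h.nr).conj_mem _ (inv_mem hl) a)
    convert this using 1
    group)
  have h2 := hz.toCZ.mul_pow_odd hp2 (h.rle h1) ha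
  rw [inv_mul_cancel_right, ep _ h1, one_mul, conj_pow] at h2
  obtain ⟨n, hn⟩ := hz.pow a ha
  have h3 : l * t * z * (l * t)⁻¹ = z⁻¹ := by
    rw [show l * t * z * (l * t)⁻¹ = l * (t * z * t⁻¹) * l⁻¹ by group, t1, ← hl _ (inv_mem zR)]; group
  rw [← hn] at h2 ⊢
  change _ * z ^ n * _ = z ^ n at h2
  rw [← conj_zpow, h3, inv_zpow, inv_eq_iff_mul_eq_one] at h2
  obtain ⟨m, hm⟩ := hp.out.odd_of_ne_two hp2
  have h4 : (z ^ n) ^ p = 1 := by rw [← zpow_natCast, ← zpow_mul, mul_comm, zpow_mul, zpow_natCast, hz.toCZ.z_pow, one_zpow]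
  rwa [hm, pow_succ, pow_mul, pow_two, h2, one_pow, one_mul] at h4

theorem ge_split (hz : PES p P z) {a r : G} (ha : a ∈ P) (hr : r ∈ P) (e : a * r * a⁻¹ * r⁻¹ = z) (hc : ∀ c ∈ cc P a r, c ∈ CC(P) ∧ c ^ p = 1) :
    (∀ x, x ∈ zpowers z ⊔ zpowers a ⊔ zpowers r ↔ ∃ w ∈ zpowers z, ∃ i j : ℤ, w * a ^ i * r ^ j = x) ∧
    cc (zpowers z ⊔ zpowers a ⊔ zpowers r) a r = zpowers z ∧ ∃ (A : Type) (_ : CommGroup A), (∀ x : A, x ^ p = 1) ∧
      Nonempty (P ≃* ↥(zpowers z ⊔ zpowers a ⊔ zpowers r) × A) := by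
  have l1 : zpowers z ⊔ zpowers a ≤ P := sup_le hz.toCZ.zle (zpowers_le.2 ha)
  have l2 : zpowers z ⊔ zpowers a ⊔ zpowers r ≤ P := sup_le l1 (zpowers_le.2 hr)
  have h1 : ∀ x, x ∈ zpowers z ⊔ zpowers a ⊔ zpowers r ↔ ∃ w ∈ zpowers z, ∃ i j : ℤ, w * a ^ i * r ^ j = x := fun x => by
    rw [CfsgH2.mem_sup_zpowers (hz.toCZ.le_normalizer (mem_sup_left (mem_zpowers z)) l1 hr)]
    simp only [CfsgH2.mem_sup_zpowers (hz.toCZ.le_normalizer (mem_zpowers z) hz.toCZ.zle ha)]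
    exact ⟨by rintro ⟨_, ⟨w, hw, i, rfl⟩, j, rfl⟩; exact ⟨w, hw, i, j, rfl⟩, by rintro ⟨w, hw, i, j, rfl⟩; exact ⟨_, ⟨w, hw, i, rfl⟩, j, rfl⟩⟩
  have pw : ∀ x ∈ P, ∀ i : ℤ, z ^ i = 1 → x ^ i ∈ zpowers z := fun x hx i hi => by
    obtain ⟨k, rfl⟩ := orderOf_dvd_iff_zpow_eq_one.2 hi
    rw [hz.ord, zpow_mul, zpow_natCast]; exact zpow_mem (hz.pow x hx) k
  have h2 : cc (zpowers z ⊔ zpowers a ⊔ zpowers r) a r = zpowers z := by
    refine le_antisymm (fun x hx => ?_) (zpowers_le.2 (CfsgH2.mem_cc.2 ⟨mem_sup_left (mem_sup_left (mem_zpowers z)), hz.cent a ha, hz.cent r hr⟩))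
    obtain ⟨x1, x2, x3⟩ := CfsgH2.mem_cc.1 hx
    obtain ⟨w, hw, i, j, rfl⟩ := (h1 x).1 x1
    have c1 : Commute a (r ^ j) := by
      have := (((hz.toCZ.zcomm hw ha).mul_left (Commute.zpow_self a i)).inv_left.mul_left x2).symm
      rwa [inv_mul_cancel_left] at this
    have c2 : Commute (a ^ i) r := by
      have := ((hz.toCZ.zcomm hw hr).inv_left.mul_left x3).mul_left (Commute.zpow_self r j).inv_left
      rwa [show w⁻¹ * (w * a ^ i * r ^ j) * (r ^ j)⁻¹ = a ^ i by group] at this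
    have e1 := CfsgH2.comm_eq_one_of_commute c1
    have e2 := CfsgH2.comm_eq_one_of_commute c2
    rw [hz.toCZ.comm_zpow_right ha hr, e] at e1
    rw [hz.toCZ.comm_zpow_left ha hr, e] at e2
    exact mul_mem (mul_mem hw (pw a ha i e2)) (pw r hr j e1)
  refine ⟨h1, h2, ?_⟩
  have lc := CfsgH2.cc_le P a r
  obtain ⟨A, a1, a2, a3⟩ := CfsgH2.exists_compl_of_ea (p := p) (V := cc P a r) (W := zpowers z)
    ⟨CfsgH2.isMulCommutative_of_forall fun x hx y hy => (hc y hy).1 x (lc hx), fun x hx => (hc x hx).2⟩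
    (zpowers_le.2 (hz.toCZ.z_mem_cc ha hr))
  obtain ⟨e1⟩ := CfsgH2.sup_equiv_prod' (A := zpowers z ⊔ zpowers a ⊔ zpowers r) (B := A)
    (fun x hx y hy => ((hc y (a1 hy)).1 x (l2 hx)).symm) (eq_bot_iff.2 fun x hx => a2.le ⟨hx.2, h2.le (CfsgH2.mem_cc.2
      ⟨hx.1, (CfsgH2.mem_cc.1 (a1 hx.2)).2⟩)⟩)
  have e2 : zpowers z ⊔ zpowers a ⊔ zpowers r ⊔ A = P := by
    rw [← hz.toCZ.cc_sup ha hr e, ← a3]; ac_rfl
  letI : CommGroup A := { (inferInstance : Group A) with mul_comm := fun x y => Subtype.ext ((hc y (a1 y.2)).1 x (lc (a1 x.2))) }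
  have e3 : Shrink.{0} A ≃* A := Shrink.mulEquiv
  refine ⟨Shrink.{0} A, inferInstance, fun x => e3.injective ?_, ⟨((MulEquiv.subgroupCongr e2).symm.trans e1).trans
    (MulEquiv.prodCongr (MulEquiv.refl _) e3.symm)⟩⟩
  rw [map_pow, map_one]; exact Subtype.ext (hc _ (a1 (e3 x).2)).2

theorem RC.ge_two {T P R : Subgroup G} (h : RC 2 T P R) (hne : ¬ P ≤ R) (hz : PES 2 P z) :
    ∃ (A : Type) (_ : CommGroup A), (∀ a : A, a ^ 2 = 1) ∧ Nonempty (P ≃* DihedralGroup 4 × A) := by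
  haveI : Fact (Nat.Prime 2) := ⟨Nat.prime_two⟩
  obtain ⟨a, ha, r, hr, e, h1, h2, -⟩ := h.ge_pair hne hz
  have r2 : r⁻¹ = r := inv_eq_of_mul_eq_one_right (by rw [← pow_two, h1])
  obtain ⟨s, hs, e', h3, h4⟩ : ∃ s ∈ P, s * r * s⁻¹ * r⁻¹ = z ∧ s ^ 2 = z ∧ ∀ c ∈ cc P s r, c ∈ CC(P) ∧ c ^ 2 = 1 := by
    rcases (CfsgH2.mem_zpowers_two hz.ord).1 (hz.pow a ha) with k | k
    · refine ⟨a * r, mul_mem ha hr, by rw [← e]; group, ?_, fun c hc => h2 c ?_⟩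
      · rw [← e, r2, inv_eq_of_mul_eq_one_right (by rw [← pow_two, k] : a * a = 1), pow_two, ← mul_assoc]
      · obtain ⟨c1, c2, c3⟩ := CfsgH2.mem_cc.1 hc
        exact CfsgH2.mem_cc.2 ⟨c1, by simpa using c2.mul_right c3.inv_right, c3⟩
    · exact ⟨a, ha, e, k, h2⟩
  obtain ⟨-, -, A, _, a1, ⟨e1⟩⟩ := ge_split hz hs hr e' h4
  have z2 := hz.toCZ.z_pow
  have os : orderOf s = 2 ^ (1 + 1) := orderOf_eq_prime_pow (by rw [pow_one, h3]; exact hz.toCZ.z_ne_one)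
    (by rw [show 2 ^ (1 + 1) = 2 * 2 from rfl, pow_mul, h3, z2])
  obtain ⟨e2⟩ := (CfsgH2.idx2_closure (a := s) (b := r) (k := -1) (m := 0) (by
      have : r * s * r⁻¹ = z⁻¹ * s := by rw [← e']; group
      rw [this, ← h3]
      have s4 : s ^ 4 = 1 := by rw [show 4 = 2 * 2 from rfl, pow_mul, h3, z2]
      group) (by rw [← pow_two, h1, zpow_zero])
    (by rintro ⟨n, rfl⟩; exact hz.toCZ.not_commute e' (Commute.self_zpow s n))).dihedral os
  have e3 : zpowers z ⊔ zpowers s ⊔ zpowers r = closure {s, r} := by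
    rw [sup_eq_right.2 (zpowers_le.2 (h3 ▸ pow_mem (mem_zpowers s) 2)), zpowers_eq_closure, zpowers_eq_closure, ← Subgroup.closure_union]; rfl
  exact ⟨A, inferInstance, a1, ⟨e1.trans (MulEquiv.prodCongr ((MulEquiv.subgroupCongr e3).trans e2) (MulEquiv.refl _))⟩⟩

theorem RC.ge_odd (h : RC p T P R) (hne : ¬ P ≤ R) (hz : PES p P z) (hp2 : p ≠ 2) :
    ∃ (E : Type) (_ : Group E) (A : Type) (_ : CommGroup A), IsExtraspecial p E ∧ Nat.card E = p ^ 3 ∧ Monoid.exponent E = p ∧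
      (∀ a : A, a ^ p = 1) ∧ Nonempty (P ≃* E × A) := by
  obtain ⟨a, ha, r, hr, e, h1, h2, h3⟩ := h.ge_pair hne hz
  obtain ⟨h4, h5, A, _, a1, ⟨e1⟩⟩ := ge_split hz ha hr e h2
  have l2 : zpowers z ⊔ zpowers a ⊔ zpowers r ≤ P := sup_le (sup_le hz.toCZ.zle (zpowers_le.2 ha)) (zpowers_le.2 hr)
  have ma : a ∈ zpowers z ⊔ zpowers a ⊔ zpowers r := mem_sup_left (mem_sup_right (mem_zpowers a))
  have mr : r ∈ zpowers z ⊔ zpowers a ⊔ zpowers r := mem_sup_right (mem_zpowers r)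
  have hE := hz.toCZ.mono (mem_sup_left (mem_sup_left (mem_zpowers z))) l2
  generalize zpowers z ⊔ zpowers a ⊔ zpowers r = E at *
  have e3 : Shrink.{0} E ≃* E := Shrink.mulEquiv
  have zp : ∀ (x : G) (i : ℤ), x ^ p = 1 → (x ^ i) ^ p = 1 := fun x i k => by
    rw [← zpow_natCast, ← zpow_mul, mul_comm, zpow_mul, zpow_natCast, k, one_zpow]
  have hx : IsExtraspecial p E := (hE.toES fun x hx k => h5.le (CfsgH2.mem_cc.2 ⟨hx, k a ma, k r mr⟩)).isExtraspecial fun k => by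
    obtain ⟨n, rfl⟩ := k.le ma
    exact hE.not_commute e ((hE.cent r mr).zpow_left n)
  refine ⟨Shrink.{0} E, inferInstance, A, inferInstance, CfsgH2.isExtraspecial_of_equiv e3.symm hx, ?_, ?_, a1,
    ⟨e1.trans (MulEquiv.prodCongr e3.symm (MulEquiv.refl _))⟩⟩
  · rw [Nat.card_congr e3.toEquiv, hE.card_cc ma mr e, h5, hE.card_z]; ring
  · rw [Monoid.exponent_eq_of_mulEquiv e3]
    refine ((Nat.dvd_prime hp.out).1 (Monoid.exponent_dvd_of_forall_pow_eq_one fun x => Subtype.ext ?_)).resolve_left fun k => ?_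
    · obtain ⟨_, ⟨n, rfl⟩, i, j, e4⟩ := (h4 x).1 x.2
      change (x : G) ^ p = 1
      rw [← e4, hE.mul_pow_odd hp2 (mul_mem (zpow_mem hE.mem n) (zpow_mem ma i)) (zpow_mem mr j),
        hE.mul_pow_odd hp2 (zpow_mem hE.mem n) (zpow_mem ma i), zp _ _ hE.z_pow, zp _ _ (h3 hp2), zp _ _ h1]; simp
    · have := Monoid.pow_exponent_eq_one (⟨z, hE.mem⟩ : E)
      rw [k, pow_one] at this
      exact hE.z_ne_one (congrArg Subtype.val this)

theorem exists_pes {Ω : Type*} [Group Ω] {P : Subgroup Ω} [Finite P] (hP : IsPGroup p P)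
    (hge : frattini P = _root_.commutator P ∧ Nat.card (_root_.commutator P) = p) : ∃ z, PES p P z := by
  obtain ⟨z, z1, z2⟩ := ((_root_.commutator P).bot_or_exists_ne_one).resolve_left (ne_bot_of_card hge.2)
  have e := eq_zpowers_of_card hge.2 z1 z2
  have m : ∀ x : P, x ∈ _root_.commutator P → (x : Ω) ∈ zpowers (z : Ω) := fun x hx => by
    obtain ⟨n, rfl⟩ := e.ge hx
    exact ⟨n, rfl⟩
  refine ⟨z, ⟨z.2, by rw [orderOf_coe, ← Nat.card_zpowers, e, hge.2], fun x hx => ?_, fun x hx y hy =>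
    m ⁅(⟨x, hx⟩ : P), ⟨y, hy⟩⁆ (commutator_mem_commutator (mem_top _) (mem_top _))⟩, fun x hx => m (⟨x, hx⟩ ^ p) ?_⟩
  · exact congrArg Subtype.val (tq_bot.1 (tq_bot_of_card (T := ⊤) (hP.to_subgroup ⊤) le_top (le_norm inferInstance) hge.2.le
      (mem_top (⟨x, hx⟩ : P))) z z1)
  · rw [← hge.1]
    exact CfsgH2.pow_mem_frattini hP _

end

theorem Sat.nm_of_ge {Ω : Type u} [Group Ω] {S P : Subgroup Ω} {F : FusionSystem S} {p : ℕ} [Finite S] [hp : Fact p.Prime] (hF : Sat F p)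
    (hP : F.StronglyClosed P) (hge : frattini P = _root_.commutator P ∧ Nat.card (_root_.commutator P) = p)
    (h2 : p = 2 → ¬ ∃ (A : Type) (_ : CommGroup A), (∀ a : A, a ^ 2 = 1) ∧ Nonempty (P ≃* DihedralGroup 4 × A))
    (hodd : p ≠ 2 → ¬ ∃ (E : Type) (_ : Group E) (A : Type) (_ : CommGroup A), IsExtraspecial p E ∧ Nat.card E = p ^ 3 ∧
      Monoid.exponent E = p ∧ (∀ a : A, a ^ p = 1) ∧ Nonempty (P ≃* E × A)) : F.IsNormal P := by
  by_contra k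
  obtain ⟨R, G, _, _, θ, π, w⟩ := hF.exists_wit hP k
  haveI := finite_of_le hP.1
  obtain ⟨z, hz⟩ := exists_pes (hF.pg.to_le hP.1) hge
  have zR : z ∈ R := w.cent_le hP.1 ⟨hz.mem, fun r hr => (hz.cent r (w.rle hr)).eq.symm⟩
  have l : P ≤ NI(S, R) := le_inf hP.1 (hz.toCZ.le_normalizer zR w.rle)
  have h1 := w.rc
  have h3 := w.ne
  rw [inf_eq_left.2 l] at h1 h3
  have i := w.hiso.mono l
  obtain ⟨e, -⟩ := i.exists_equiv
  have zz : ∀ x ∈ zpowers z, θ x ∈ zpowers (θ z) := by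
    rintro _ ⟨n, rfl⟩; exact ⟨n, (i.hom.zpow hz.mem n).symm⟩
  have hz' : PES p (im P θ) (θ z) := by
    refine ⟨⟨i.mem hz.mem, orderOf_eq_prime (by rw [← i.hom.pow hz.mem, hz.toCZ.z_pow, i.hom.one]) fun e => hz.toCZ.z_ne_one (i.inj _ hz.mem e),
      fun x hx => ?_, fun x hx y hy => ?_⟩, fun x hx => ?_⟩
    · obtain ⟨x, hx', rfl⟩ := i.surj hx
      clear hx; have hx := hx'
      rw [commute_iff_eq, ← i.hom.mul hz.mem hx, ← i.hom.mul hx hz.mem, (hz.cent x hx).eq]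
    · obtain ⟨x, hx', rfl⟩ := i.surj hx
      obtain ⟨y, hy', rfl⟩ := i.surj hy
      clear hx hy; have hx := hx'; have hy := hy'
      rw [← i.hom.conj hx hy, ← i.hom.inv hy, ← i.hom.mul (mul_mem (mul_mem hx hy) (inv_mem hx)) (inv_mem hy)]
      exact zz _ (hz.comm x hx y hy)
    · obtain ⟨x, hx', rfl⟩ := i.surj hx
      rw [← i.hom.pow hx']; exact zz _ (hz.pow x hx')
  rcases eq_or_ne p 2 with rfl | hp2
  · obtain ⟨A, _, a1, ⟨e1⟩⟩ := h1.ge_two h3 hz'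
    exact h2 rfl ⟨A, inferInstance, a1, ⟨e.trans e1⟩⟩
  · obtain ⟨E, _, A, _, a1, a2, a3, a4, ⟨e1⟩⟩ := h1.ge_odd h3 hz' hp2
    exact hodd hp2 ⟨E, inferInstance, A, inferInstance, a1, a2, a3, a4, ⟨e.trans e1⟩⟩

end CfsgFS
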